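import Groth.Agent.BlowExcLib.PointCoh
import Groth.Agent.CurveLib.TensorExact

/-!
# The anticanonical twists on the blow-up of projective space in at most one point
-/

set_option autoImplicit false
set_option backward.isDefEq.respectTransparency false
set_option linter.style.haveILetI false
set_option maxHeartbeats 1000000

universe u

open CategoryTheory CategoryTheory.Limits AlgebraicGeometry TopologicalSpace Opposite
open Groth.Agent.PullbackMod Groth.Agent.DCohLib Groth.Agent.AmpleLib Groth.Agent.IntLib Groth.Agent.BlowExistsLib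

noncomputable section

namespace Groth.Agent.BlowExcLib

variable {k : Type u} [Field k] {n : ℕ} {X : Scheme.{u}}

/-- Vanishing for the twists `π^*O(c) ⊗ J^D`. -/
structure TwistVan (π : X ⟶ CohB1.ProjSpace n k) (e : (MCls X)ˣ) : Prop where
  base : ∀ (c : ℤ) (i : ℕ), ¬ (i = 0 ∧ 0 ≤ c) → ¬ (i = n ∧ c ≤ -((n : ℤ) + 1)) → Van (pcls π c) i
  one : ∀ (c : ℤ) (d : ℕ), (d : ℤ) ≤ c + 1 → Van (pcls π c * ((e ^ (d : ℤ) : (MCls X)ˣ) : MCls X)) 1
  pos : ∀ (c : ℤ) (d i : ℕ), i ≠ 1 → ¬ (i = 0 ∧ 0 ≤ c) → ¬ (i = n ∧ c ≤ -((n : ℤ) + 1)) →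
    Van (pcls π c * ((e ^ (d : ℤ) : (MCls X)ˣ) : MCls X)) i
  sub_one : ∀ (c : ℤ) (d : ℕ), c + d + 1 ≤ 0 → Van (pcls π c * ((e ^ (-(d : ℤ)) : (MCls X)ˣ) : MCls X)) (n - 1)
  neg : ∀ (c : ℤ) (d i : ℕ), i + 2 ≤ n → ¬ (i = 0 ∧ 0 ≤ c) →
    Van (pcls π c * ((e ^ (-(d : ℤ)) : (MCls X)ˣ) : MCls X)) i

variable [IsAlgClosed k]

theorem exists_twistVan (hn : 3 ≤ n) {s : ℕ} (P : Fin s → ↥(CohB1.ProjSpace n k))
    (hPc : ∀ i, IsClosed ({P i} : Set ↥(CohB1.ProjSpace n k))) (hZ : IsClosed (Set.range P))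
    (π : X ⟶ CohB1.ProjSpace n k)
    (hπ : BlowUp.IsBlowUp π (Scheme.IdealSheafData.vanishingIdeal ⟨Set.range P, hZ⟩)) (hs : s ≤ 1) :
    ∃ e : (MCls X)ˣ, (e : MCls X) =
        IntLib.mk (ClSub.idealMod (BlowUp.exceptional π (Scheme.IdealSheafData.vanishingIdeal ⟨Set.range P, hZ⟩))) ∧
      TwistVan π e := by
  have hb : ∀ (c : ℤ) (i : ℕ), ¬ (i = 0 ∧ 0 ≤ c) → ¬ (i = n ∧ c ≤ -((n : ℤ) + 1)) → Van (pcls π c) i :=
    fun c i h₀ h₁ => Van.of _ rfl (subsingleton_HH_pullback_twist P hPc hZ π hπ (by omega) c i h₀ h₁)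
  interval_cases s
  · have hI : Scheme.IdealSheafData.vanishingIdeal ⟨Set.range P, hZ⟩ = ⊤ := by
      refine Scheme.IdealSheafData.ext (funext fun U => ?_)
      show PrimeSpectrum.vanishingIdeal (U.2.fromSpec ⁻¹' Set.range P) = ⊤
      rw [Set.range_eq_empty, Set.preimage_empty, PrimeSpectrum.vanishingIdeal_empty]
    refine ⟨1, ?_, hb, fun c d h => ?_, fun c d i _ => ?_, fun c d h => ?_, fun c d i hi h₀ => ?_⟩
    · show 1 = IntLib.mk (ClSub.idealMod ((Scheme.IdealSheafData.vanishingIdeal ⟨Set.range P, hZ⟩).comap π))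
      rw [hI, Scheme.IdealSheafData.comap_top, mk_idealMod_top]
    all_goals rw [one_zpow, Units.val_one, mul_one]
    · exact hb c 1 (by omega) (by omega)
    · exact hb c i
    · exact hb c (n - 1) (by omega) (by omega)
    · exact hb c i h₀ (by omega)
  · have hr : Set.range P = {P 0} := by
      rw [Set.range_unique]
      rfl
    have hE : (⟨Set.range P, hZ⟩ : Closeds ↥(CohB1.ProjSpace n k)) = ⟨{P 0}, hPc 0⟩ := Closeds.ext hr
    have hπ₁ : BlowUp.IsBlowUp π (Scheme.IdealSheafData.vanishingIdeal ⟨{P 0}, hPc 0⟩) := hE ▸ hπ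
    refine ⟨eUnit (P 0) (hPc 0) π hπ₁, ?_, hb, fun c d h => van_one (P 0) (hPc 0) π hπ₁ (by omega) c d h,
      fun c d i hi h₀ h₁ => van_nonneg (P 0) (hPc 0) π hπ₁ (by omega) c d i hi h₀ h₁,
      fun c d h => van_sub_one (P 0) (hPc 0) π hπ₁ (by omega) c d h,
      fun c d i hi h₀ => van_nonpos (P 0) (hPc 0) π hπ₁ (by omega) c i (hb c i h₀ (by omega)) d (Or.inl hi)⟩
    rw [eUnit_eq, hE]

omit [IsAlgClosed k] in
/-- Positive anticanonical twists of `π^*O(c₀)`. -/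
theorem TwistVan.anti {π : X ⟶ CohB1.ProjSpace n k} {e : (MCls X)ˣ} (V : TwistVan π e) (hn : 3 ≤ n) (c₀ : ℤ)
    (i t : ℕ) (hi : 1 ≤ i) (hc : 0 ≤ c₀ + 1 ∨ t = 0 ∨ 2 ≤ i) (hc' : -(n : ℤ) ≤ c₀) :
    Van (pcls π c₀ * (pcls π ((n : ℤ) + 1) * (e : MCls X) ^ (n - 1)) ^ t) i := by
  have ec : pcls π c₀ * (pcls π ((n : ℤ) + 1) * (e : MCls X) ^ (n - 1)) ^ t =
      pcls π (c₀ + t * ((n : ℤ) + 1)) * ((e ^ (((n - 1) * t : ℕ) : ℤ) : (MCls X)ˣ) : MCls X) := by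
    rw [zpow_natCast, Units.val_pow_eq_pow_val, pow_mul, mul_pow, ← mul_assoc, pcls_add π c₀]
    congr 2
    rw [pcls_eq_zpow, pcls_eq_zpow, ← Units.val_pow_eq_pow_val, ← zpow_natCast, ← zpow_mul]
    congr 2
    ring
  rw [ec]
  have h1 : c₀ ≤ c₀ + (t : ℤ) * ((n : ℤ) + 1) := by
    have : (0 : ℤ) ≤ (t : ℤ) * ((n : ℤ) + 1) := mul_nonneg (by omega) (by omega)
    omega
  rcases eq_or_ne i 1 with rfl | hi1
  · rcases Nat.eq_zero_or_pos t with rfl | ht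
    · rw [Nat.mul_zero, Nat.cast_zero, zpow_zero, Units.val_one, mul_one]
      exact V.base _ 1 (by omega) (by omega)
    · refine V.one _ _ ?_
      obtain ⟨a, rfl⟩ : ∃ a, n = a + 1 := ⟨n - 1, by omega⟩
      rw [Nat.add_sub_cancel]
      push_cast
      have : (t : ℤ) * (((a : ℤ) + 1) + 1) = (a : ℤ) * t + 2 * t := by ring
      omega
  · exact V.pos _ _ i hi1 (by omega) (fun h => by omega)

omit [IsAlgClosed k] in
/-- Negative anticanonical twists of `π^*O(c₀)`. -/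
theorem TwistVan.canon {π : X ⟶ CohB1.ProjSpace n k} {e : (MCls X)ˣ} (V : TwistVan π e) (hn : 3 ≤ n) (c₀ : ℤ)
    (i t : ℕ) (hin : i + 1 ≤ n) (h0 : 1 ≤ i ∨ c₀ < (t : ℤ) * ((n : ℤ) + 1))
    (hc : c₀ < 2 * (t : ℤ) ∨ t = 0 ∨ i + 2 ≤ n) {c' : MCls X}
    (hc'' : c' * (pcls π ((n : ℤ) + 1) * (e : MCls X) ^ (n - 1)) = 1) : Van (pcls π c₀ * c' ^ t) i := by
  have e' : c' = pcls π (-((n : ℤ) + 1)) * ((e ^ (-((n - 1 : ℕ) : ℤ)) : (MCls X)ˣ) : MCls X) := by
    refine (left_inv_eq_right_inv hc'' ?_)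
    rw [mul_mul_mul_comm, ← pcls_add, add_neg_cancel, pcls_zero, one_mul, ← Units.val_pow_eq_pow_val, ← Units.val_mul,
      ← zpow_natCast, ← zpow_add, add_neg_cancel, zpow_zero, Units.val_one]
  have ec : pcls π c₀ * c' ^ t =
      pcls π (c₀ - t * ((n : ℤ) + 1)) * ((e ^ (-(((n - 1) * t : ℕ) : ℤ)) : (MCls X)ˣ) : MCls X) := by
    rw [e', mul_pow, ← mul_assoc, sub_eq_add_neg, pcls_add π c₀]
    congr 1
    · congr 1
      rw [pcls_eq_zpow, pcls_eq_zpow, ← Units.val_pow_eq_pow_val, ← zpow_natCast, ← zpow_mul]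
      congr 2
      ring
    · rw [← Units.val_pow_eq_pow_val, ← zpow_natCast, ← zpow_mul]
      congr 2
      push_cast
      ring
  rw [ec]
  by_cases hi2 : i + 2 ≤ n
  · exact V.neg _ _ i hi2 (fun h => by omega)
  obtain rfl : i = n - 1 := by omega
  rcases Nat.eq_zero_or_pos t with rfl | ht
  · rw [Nat.mul_zero, Nat.cast_zero, neg_zero, zpow_zero, Units.val_one, mul_one]
    exact V.base _ _ (by omega) (by omega)
  · refine V.sub_one _ _ ?_
    obtain ⟨a, rfl⟩ : ∃ a, n = a + 1 := ⟨n - 1, by omega⟩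
    simp only [Nat.add_sub_cancel] at *
    push_cast at *
    have : (t : ℤ) * (((a : ℤ) + 1) + 1) = (a : ℤ) * t + 2 * t := by ring
    omega

/-- Cohomology of a finite sum of copies of a line bundle, twisted. -/
theorem subsingleton_sum_twist {A L : X.Modules} {a : ℕ} {F : X.Modules} (i : ℕ)
    (e : Nonempty (F ≅ ∐ fun _ : Fin a => A)) (h : Van (IntLib.mk A * IntLib.mk L) i) :
    Subsingleton (Coh.HH X (CohB1.tensorMod F L) i) := by
  obtain ⟨e⟩ := e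
  exact CurveLib.subsingleton_HH_iso ((CurveLib.tensR L).mapIso e ≪≫
    PreservesCoproduct.iso (CurveLib.tensR L) fun _ : Fin a => A).symm i
    (subsingleton_HH_sigma _ fun _ => h _ (mk_tensor A L))

end Groth.Agent.BlowExcLib
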