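import Groth.Agent.BlowExcLib.AntiCan
import Groth.Agent.QuadricLib.EndScalar
import Groth.Agent.CIProjLib.Connected

/-!
# Cokernels of matrices of linear forms on a blow-up of projective space
-/

set_option autoImplicit false
set_option backward.isDefEq.respectTransparency false
set_option linter.style.haveILetI false
set_option maxHeartbeats 1000000

universe u

open CategoryTheory CategoryTheory.Limits AlgebraicGeometry TopologicalSpace
open Groth.Agent.AmpleLib Groth.Agent.IntLib

noncomputable section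

namespace Groth.Agent.BlowExcLib

section Generic

variable {k : Type u} [Field k] {X : Scheme.{u}} [X.Over (Spec (CommRingCat.of k))]
  {A A' B : X.Modules} (η : CohB1.tensorMod A A' ≅ Coh.structureModule X) (hA : PicF.IsInvertible A)
  {a b : ℕ} {P Q : X.Modules}

include k η hA in
/-- Maps between cokernels lift to the sources of the projections. -/
theorem exists_lift_coker (sP : QuadricLib.Split (fun _ : Fin a => B) P) (sQ : QuadricLib.Split (fun _ : Fin b => A) Q)
    (h1 : Subsingleton (Coh.HH X (CohB1.tensorMod B A') 1)) (f f' : P ⟶ Q) [Mono f']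
    (θ : cokernel f ⟶ cokernel f') : ∃ β : Q ⟶ Q, β ≫ cokernel.π f' = cokernel.π f ≫ θ := by
  obtain ⟨d⟩ := HodgePnLib.nonempty_dd_inverse η
  have hh : Subsingleton (Coh.HH X (CohB1.tensorMod P (VBLib.DualDeg.dd A)) 1) :=
    ((sP.map (CurveLib.tensR (VBLib.DualDeg.dd A))).pieces fun _ => AmpleLib.tIso (Iso.refl B) d).subsingleton (k := k) 1
      fun _ => h1
  choose g hg using fun i => HodgePnLib.exists_lift_cokernel k (CurveLib.isFinLocFreeOfRank_one hA) f' hh
    (sQ.inj i ≫ cokernel.π f ≫ θ)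
  refine ⟨∑ i, sQ.proj i ≫ g i, QuadricLib.split_hom_ext sQ fun i => ?_⟩
  rw [← hg i, ← Category.assoc]
  refine congrArg (· ≫ cokernel.π f') ?_
  rw [Preadditive.comp_sum, Finset.sum_eq_single i]
  · rw [← Category.assoc, sQ.orth, dif_pos rfl, eqToHom_refl, Category.id_comp]
  · intro j _ hj
    rw [← Category.assoc, sQ.orth, dif_neg (Ne.symm hj), zero_comp]
  · simp

include η in
theorem hom_eq_zero_split (sP : QuadricLib.Split (fun _ : Fin a => B) P) (sQ : QuadricLib.Split (fun _ : Fin b => A) Q)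
    (h0 : Subsingleton (Coh.HH X (CohB1.tensorMod B A') 0)) (g : Q ⟶ P) : g = 0 :=
  QuadricLib.split_hom_ext_right sP fun j => QuadricLib.split_hom_ext sQ fun i => by
    rw [comp_zero]
    exact QuadricLib.hom_eq_zero_of_inverse η h0 _

include k η hA in
theorem exists_orbit_of_iso (sP : QuadricLib.Split (fun _ : Fin a => B) P) (sQ : QuadricLib.Split (fun _ : Fin b => A) Q)
    (h0 : Subsingleton (Coh.HH X (CohB1.tensorMod B A') 0)) (h1 : Subsingleton (Coh.HH X (CohB1.tensorMod B A') 1))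
    (f f' : P ⟶ Q) [Mono f] [Mono f'] (θ : cokernel f ≅ cokernel f') :
    ∃ (β : Q ≅ Q) (γ : P ≅ P), f ≫ β.hom = γ.hom ≫ f' := by
  obtain ⟨β, hβ⟩ := exists_lift_coker (k := k) η hA sP sQ h1 f f' θ.hom
  obtain ⟨β', hβ'⟩ := exists_lift_coker (k := k) η hA sP sQ h1 f' f θ.inv
  have one : ∀ (u : P ⟶ Q) [Mono u] (e : Q ⟶ Q), e ≫ cokernel.π u = cokernel.π u → e = 𝟙 Q := fun u _ e he => by
    have h : (e - 𝟙 Q) ≫ cokernel.π u = 0 := by rw [Preadditive.sub_comp, he, Category.id_comp, sub_self]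
    rw [← sub_eq_zero, ← Abelian.monoLift_comp u _ h, hom_eq_zero_split η sP sQ h0 (Abelian.monoLift u _ h), zero_comp]
  have h12 : β ≫ β' = 𝟙 Q := one f _ (by
    rw [Category.assoc, hβ', ← Category.assoc, hβ, Category.assoc, Iso.hom_inv_id, Category.comp_id])
  have h21 : β' ≫ β = 𝟙 Q := one f' _ (by
    rw [Category.assoc, hβ, ← Category.assoc, hβ', Category.assoc, Iso.inv_hom_id, Category.comp_id])
  have hγ0 : (f ≫ β) ≫ cokernel.π f' = 0 := by rw [Category.assoc, hβ, ← Category.assoc, cokernel.condition, zero_comp]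
  have hγ0' : (f' ≫ β') ≫ cokernel.π f = 0 := by rw [Category.assoc, hβ', ← Category.assoc, cokernel.condition, zero_comp]
  let γ := Abelian.monoLift f' (f ≫ β) hγ0
  let γ' := Abelian.monoLift f (f' ≫ β') hγ0'
  have e1 : γ ≫ f' = f ≫ β := Abelian.monoLift_comp _ _ _
  have e2 : γ' ≫ f = f' ≫ β' := Abelian.monoLift_comp _ _ _
  exact ⟨⟨β, β', h12, h21⟩, ⟨γ, γ',
    (cancel_mono f).1 (by rw [Category.assoc, e2, ← Category.assoc, e1, Category.assoc, h12, Category.comp_id, Category.id_comp]),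
    (cancel_mono f').1 (by rw [Category.assoc, e1, ← Category.assoc, e2, Category.assoc, h21, Category.comp_id, Category.id_comp])⟩,
    e1.symm⟩

include k η hA in
theorem exists_cst_coker [Infinite k] (hAs : QuadricLib.ScalarEnd k A) (hBs : QuadricLib.ScalarEnd k B)
    (sP : QuadricLib.Split (fun _ : Fin a => B) P) (sQ : QuadricLib.Split (fun _ : Fin b => A) Q)
    (h1 : Subsingleton (Coh.HH X (CohB1.tensorMod B A') 1)) (f : P ⟶ Q) [Mono f]
    (hstab : ∀ (β : Q ≅ Q) (γ : P ≅ P), γ.hom ≫ f = f ≫ β.hom →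
      ∃ c : k, β.hom = QuadricLib.cstH k Q c ∧ γ.hom = QuadricLib.cstH k P c)
    (φ : cokernel f ⟶ cokernel f) : ∃ c : k, φ = QuadricLib.cstH k (cokernel f) c := by
  obtain ⟨β, hβ⟩ := exists_lift_coker (k := k) η hA sP sQ h1 f f φ
  let γ : P ⟶ P := Abelian.monoLift f (f ≫ β) (by rw [Category.assoc, hβ, ← Category.assoc, cokernel.condition, zero_comp])
  have hγ : γ ≫ f = f ≫ β := Abelian.monoLift_comp _ _ _
  obtain ⟨c, hc⟩ := ((QuadricLib.finite_not_isIso hAs sQ β).union
    (QuadricLib.finite_not_isIso hBs sP γ)).infinite_compl.nonempty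
  simp only [Set.mem_compl_iff, Set.mem_union, Set.mem_ofPred_eq, not_or, not_not] at hc
  haveI := hc.1
  haveI := hc.2
  obtain ⟨d, hd, -⟩ := hstab (asIso (β + QuadricLib.cstH k Q c)) (asIso (γ + QuadricLib.cstH k P c)) (by
    rw [asIso_hom, asIso_hom, Preadditive.add_comp, Preadditive.comp_add, hγ]
    exact congrArg _ (VBLib.cst_natural k f c))
  refine ⟨d - c, ?_⟩
  rw [← cancel_epi (cokernel.π f), ← hβ, show β = QuadricLib.cstH k Q (d - c) by
    rw [QuadricLib.cstH_sub, eq_sub_iff_add_eq]; exact hd]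
  exact VBLib.cst_natural k (cokernel.π f) (d - c)

end Generic

section Point

variable {k : Type u} [Field k] [IsAlgClosed k] {n s : ℕ} (P : Fin s → ↥(CohB1.ProjSpace n k))
  (hPc : ∀ t, IsClosed ({P t} : Set ↥(CohB1.ProjSpace n k))) (hZ : IsClosed (Set.range P))
  {X : Scheme.{u}} (π : X ⟶ CohB1.ProjSpace n k)
  (hπ : BlowUp.IsBlowUp π (Scheme.IdealSheafData.vanishingIdeal ⟨Set.range P, hZ⟩))

include hπ in
/-- The pulled back twists have scalar endomorphisms. -/
theorem scalarEnd_pullback_twist (hn : 2 ≤ n) (hPc : ∀ t, IsClosed ({P t} : Set ↥(CohB1.ProjSpace n k))) (c : ℤ) :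
    letI : X.Over (Spec (CommRingCat.of k)) := ⟨π ≫ CohB1.ProjSpace.toSpec n k⟩
    QuadricLib.ScalarEnd k ((Scheme.Modules.pullback π).obj (Twist.twistProjSpace n k c)) := by
  letI : X.Over (Spec (CommRingCat.of k)) := ⟨π ≫ CohB1.ProjSpace.toSpec n k⟩
  haveI := isLocallyNoetherian_pn (k := k) (n := n)
  haveI : IsProper π := isProper_blowUp hπ
  haveI : IsProper (X ↘ Spec (CommRingCat.of k)) :=
    inferInstanceAs (IsProper (π ≫ CohB1.ProjSpace.toSpec n k))
  have hN : IsNiceCentre 0 (Scheme.IdealSheafData.vanishingIdeal ⟨Set.range P, hZ⟩) :=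
    isNiceCentre_projSpace_points (by omega) P hPc hZ
  have hb : Function.Bijective (π.app ⊤) :=
    bijective_app hπ hN (AlterN1.isNormalScheme_of_regular _ fun x => ProjSerreLib.regular_stalk x) ⊤
  have hP : Function.Bijective (Coh.toGlobal (CohB1.ProjSpace.toSpec n k)) :=
    CurveP1Lib.bijective_toGlobal_of_h0 (X := CohB1.ProjSpace n k) HypSurfLib.finrank_H0_projSpace
  have hcomp : (Coh.toGlobal (π ≫ CohB1.ProjSpace.toSpec n k) : k → Γ(X, ⊤)) =
      π.app ⊤ ∘ Coh.toGlobal (CohB1.ProjSpace.toSpec n k) := by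
    funext a; rfl
  have hX : Function.Bijective (Coh.toGlobal (X ↘ Spec (CommRingCat.of k))) := by
    show Function.Bijective (Coh.toGlobal (π ≫ CohB1.ProjSpace.toSpec n k) : k → Γ(X, ⊤))
    rw [hcomp]
    exact hb.comp hP
  have h : IntLib.mk (CohB1.tensorMod ((Scheme.Modules.pullback π).obj (Twist.twistProjSpace n k c))
      ((Scheme.Modules.pullback π).obj (Twist.twistProjSpace n k (-c)))) = IntLib.mk (Coh.structureModule X) := by
    rw [mk_tensor, mk_structureModule]
    show pcls π c * pcls π (-c) = 1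
    rw [← pcls_add, add_neg_cancel, pcls_zero]
  exact QuadricLib.scalarEnd_of_inverse (CIProjLib.finrank_H0_of_bijective hX) (mk_eq_mk.1 h).some

include hπ in
omit [IsAlgClosed k] in
theorem nonempty_inverse_twist (c : ℤ) : Nonempty (CohB1.tensorMod ((Scheme.Modules.pullback π).obj (Twist.twistProjSpace n k c))
    ((Scheme.Modules.pullback π).obj (Twist.twistProjSpace n k (-c))) ≅ Coh.structureModule X) :=
  mk_eq_mk.1 (by
    rw [mk_tensor, mk_structureModule]
    show pcls π c * pcls π (-c) = 1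
    rw [← pcls_add, add_neg_cancel, pcls_zero])

include hPc hπ in
theorem subsingleton_H_obstruction (hn : 2 ≤ n) (i : ℕ) (hi : i ≤ 1) :
    Subsingleton (Coh.HH X (CohB1.tensorMod ((Scheme.Modules.pullback π).obj (Twist.twistProjSpace n k (-2)))
      ((Scheme.Modules.pullback π).obj (Twist.twistProjSpace n k (- -1)))) i) := by
  refine CurveLib.subsingleton_HH_iso (mk_eq_mk.1 ?_).some i
    (subsingleton_HH_pullback_twist P hPc hZ π hπ (by omega) (-1) i (by omega) (by omega))
  rw [mk_tensor]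
  exact (congrArg (pcls π) (show (-1 : ℤ) = -2 + - -1 by norm_num)).trans (pcls_add π _ _)

end Point

end Groth.Agent.BlowExcLib
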