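import Groth.Agent.BlowExcLib.Vanish
import Groth.Agent.JacLib.IdealPull
import Groth.Agent.RGBlowLib.Union.Basic
import Groth.Agent.RelDivLib.QuasiFlat
import Groth.Agent.IdealStalkLib.Cartier
import Groth.Agent.RpushLib.Vanish
import Groth.Agent.AmpleEmb.RelVanish
import Groth.Agent.AmpleLib.Rel
import Groth.Agent.DCohLib.OpenD
import Groth.Agent.ParaFPullLib.Basic
import Groth.Agent.SurfPtBlow.LocalExtend
import Groth.Agent.AlterN1.Basic
import Groth.Agent.NormalSch.Basic
import Groth.Agent.QRegLib.Basic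
import Groth.Prelude.Def_RegImm

/-!
# Higher direct images under blow-ups in locally quasi-regular centres
-/

set_option autoImplicit false
set_option backward.isDefEq.respectTransparency false
set_option linter.style.haveILetI false
set_option maxHeartbeats 1000000

universe u

open CategoryTheory CategoryTheory.Limits AlgebraicGeometry TopologicalSpace Opposite
open Groth.Agent.PullbackMod Groth.Agent.BlowExistsLib Groth.Agent.DCohLib Groth.Agent.AmpleLib

noncomputable section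

namespace Groth.Agent.BlowExcLib

theorem isQuasiRegular_equiv {R S : Type u} [CommRing R] [CommRing S] (φ : R →+* S) (hφ : Function.Bijective φ)
    {n : ℕ} {f : Fin n → R} (hf : CAlgX.IsQuasiRegular f) : CAlgX.IsQuasiRegular fun i => φ (f i) := by
  let e := RingEquiv.ofBijective φ hφ
  intro d P hP hev q
  have hr : Ideal.span (Set.range fun i => φ (f i)) = (Ideal.span (Set.range f)).map φ := by
    rw [Ideal.map_span, ← Set.range_comp]; rfl
  obtain ⟨P, rfl⟩ := MvPolynomial.map_surjective φ hφ.2 P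
  rw [hr] at hev ⊢
  rw [← Ideal.map_pow, MvPolynomial.eval_map, show (fun i => φ (f i)) = φ ∘ f from rfl, ← MvPolynomial.eval₂_comp] at hev
  obtain ⟨z, hz, he⟩ := (Ideal.mem_map_iff_of_surjective φ hφ.2).1 hev
  rw [MvPolynomial.coeff_map]
  refine Ideal.mem_map_of_mem φ (hf d P ?_ (hφ.1 he ▸ hz) q)
  intro m hm
  exact hP (by rw [MvPolynomial.coeff_map]; exact fun h => hm (hφ.1 (h.trans (map_zero φ).symm)))

theorem exists_ne_zero_of_isQuasiRegular {R : Type u} [CommRing R] [Nontrivial R] {n : ℕ} {f : Fin (n + 1) → R}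
    (hf : CAlgX.IsQuasiRegular f) : ∃ i, f i ≠ 0 := by
  by_contra h
  push Not at h
  have h1 := hf 1 (MvPolynomial.X 0) (MvPolynomial.isHomogeneous_X _ 0)
    (by rw [MvPolynomial.eval_X, h 0]; exact zero_mem _) (Finsupp.single 0 1)
  have h0 : Ideal.span (Set.range f) = ⊥ := by
    rw [Ideal.span_eq_bot]; rintro _ ⟨i, rfl⟩; exact h i
  simp [h0] at h1

theorem isQuasiRegular_of_span_eq_top {R : Type u} [CommRing R] {n : ℕ} {f : Fin n → R}
    (h : Ideal.span (Set.range f) = ⊤) : CAlgX.IsQuasiRegular f := fun _ _ _ _ _ => h ▸ Submodule.mem_top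

/-- The functions on the blow-up of a normal affine domain are those of the base. -/
theorem bijective_appTop {X X' : Scheme.{u}} [IsAffine X] [IsNoetherian X] [IsDomain Γ(X, ⊤)]
    [IsIntegrallyClosed Γ(X, ⊤)] {𝓘 : X.IdealSheafData} {b : X' ⟶ X} (hb : BlowUp.IsBlowUp b 𝓘)
    {m : ℕ} (f : Fin (m + 1) → Γ(X, ⊤)) (hI : 𝓘.ideal topU = Ideal.span (Set.range f)) (i₀ : Fin (m + 1))
    (h₀ : f i₀ ≠ 0) : Function.Bijective b.appTop := by
  classical
  haveI : IsProper b := isProper_of_FG hb (isFiniteTypeIdeal 𝓘)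
  let U : X.affineOpens := topU
  have hmem : ∀ i, f i ∈ 𝓘.ideal U := fun i => hI ▸ Ideal.subset_span ⟨i, rfl⟩
  let W : Fin (m + 1) → X'.Opens := fun i => BlowChartLib.chartOpen 𝓘 U (f i) b
  have hle : ∀ i, W i ≤ b ⁻¹ᵁ U.1 := fun i => le_top
  let ε := fun i => BlowProjLib.chartFun hb (hmem i)
  have hεi : ∀ i, Function.Injective (ε i) := fun i => BlowProjLib.chartFun_injective hb (hmem i)
  have hεb : ∀ i a, ε i (b.appLE U.1 (W i) (hle i) a) = algebraMap _ _ a := fun i a =>
    BlowProjLib.chartFun_base hb (hmem i) (hle i) a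
  have halg : ∀ i, f i ≠ 0 → Function.Injective (algebraMap Γ(X, ⊤) (BlowUp.affineAlgebra Γ(X, ⊤) (𝓘.ideal U) (f i))) :=
    fun i hi x y h => IsLocalization.injective (Localization.Away (f i))
      (powers_le_nonZeroDivisors_of_noZeroDivisors hi) (congrArg Subtype.val h)
  have hres : ∀ (i : Fin (m + 1)) (a : Γ(X, ⊤)),
      X'.presheaf.map (homOfLE (le_top : W i ≤ ⊤)).op (b.appTop a) = b.appLE U.1 (W i) (hle i) a := fun i a => rfl
  constructor
  · intro a a' h
    apply halg i₀ h₀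
    rw [← hεb i₀ a, ← hεb i₀ a', ← hres, ← hres, h]
  intro x
  have hex : ∀ i, f i ≠ 0 → ∃ a, X'.presheaf.map (homOfLE (le_top : W i ≤ ⊤)).op x = b.appLE U.1 (W i) (hle i) a := by
    intro i hi
    obtain ⟨p, hp, hpx⟩ := isIntegral_appTop_of_universallyClosed b x
    let z := ε i (X'.presheaf.map (homOfLE (le_top : W i ≤ ⊤)).op x)
    have hz : IsIntegral Γ(X, ⊤) (z : Localization.Away (f i)) := by
      refine ⟨p, hp, ?_⟩
      have h2 := congrArg (fun t => ((ε i (X'.presheaf.map (homOfLE (le_top : W i ≤ ⊤)).op t) :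
        BlowUp.affineAlgebra Γ(X, ⊤) (𝓘.ideal U) (f i)) : Localization.Away (f i))) hpx
      simp only [Polynomial.hom_eval₂, map_zero, ZeroMemClass.coe_zero] at h2
      refine Eq.trans ?_ h2
      show _ = (BlowUp.affineAlgebra Γ(X, ⊤) (𝓘.ideal U) (f i)).val.toRingHom _
      rw [Polynomial.hom_eval₂]
      congr 1
      exact RingHom.ext fun a => (congrArg Subtype.val ((congrArg (ε i) (hres i a)).trans (hεb i a))).symm
    haveI : IsDomain (Localization.Away (f i)) :=
      IsLocalization.isDomain_localization (powers_le_nonZeroDivisors_of_noZeroDivisors hi)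
    let K := FractionRing Γ(X, ⊤)
    let ι : Localization.Away (f i) →ₐ[Γ(X, ⊤)] K := IsLocalization.liftAlgHom
      (M := Submonoid.powers (f i)) (f := Algebra.ofId Γ(X, ⊤) K) fun y =>
      IsLocalization.map_units (M := nonZeroDivisors Γ(X, ⊤)) K ⟨_, powers_le_nonZeroDivisors_of_noZeroDivisors hi y.2⟩
    have hι : Function.Injective ι := by
      have := IsLocalization.lift_injective_iff (S := Localization.Away (f i)) (M := Submonoid.powers (f i))
        (g := algebraMap Γ(X, ⊤) K) (fun y => IsLocalization.map_units (M := nonZeroDivisors Γ(X, ⊤)) K ⟨_, powers_le_nonZeroDivisors_of_noZeroDivisors hi y.2⟩)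
      exact this.2 fun u v => ⟨fun h => congrArg (algebraMap Γ(X, ⊤) K)
        (IsLocalization.injective (Localization.Away (f i)) (powers_le_nonZeroDivisors_of_noZeroDivisors hi) h),
        fun h => congrArg (algebraMap Γ(X, ⊤) (Localization.Away (f i))) (IsFractionRing.injective Γ(X, ⊤) K h)⟩
    obtain ⟨a, ha⟩ := IsIntegrallyClosed.isIntegral_iff.1 (hz.map ι)
    refine ⟨a, hεi i (Eq.trans ?_ (hεb i a).symm)⟩
    exact Subtype.ext (hι (ha.symm.trans (ι.commutes a).symm))
  have hex' : ∀ i, f i = 0 → ∀ t t' : Γ(X', W i), t = t' := fun i hi t t' => by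
    apply hεi i
    apply Subtype.ext
    haveI : Subsingleton (Localization.Away (f i)) :=
      IsLocalization.subsingleton (M := Submonoid.powers (f i)) ⟨1, (pow_one (f i)).trans hi⟩
    exact Subsingleton.elim _ _
  obtain ⟨a₀, ha₀⟩ := hex i₀ h₀
  refine ⟨a₀, (TopCat.Sheaf.eq_of_locally_eq' X'.sheaf W ⊤ (fun i => homOfLE le_top) (fun y _ => ?_) _ _ fun i => ?_)⟩
  · obtain ⟨_, ⟨i, rfl⟩, hy⟩ := BlowChartLib.exists_mem_chartOpen 𝓘 U b hb (Set.range f) hI.symm y trivial
    exact Opens.mem_iSup.2 ⟨i, hy⟩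
  · show X'.presheaf.map (homOfLE (le_top : W i ≤ ⊤)).op (b.appTop a₀) = X'.presheaf.map (homOfLE le_top).op x
    by_cases hi : f i = 0
    · exact hex' i hi _ _
    obtain ⟨a, ha⟩ := hex i hi
    rw [hres, ha]
    suffices a₀ = a by rw [this]
    -- compare on the part of the first chart where `f i` is invertible
    let g : Γ(X', W i₀) := b.appLE U.1 (W i₀) (hle i₀) (f i)
    have hDi : X'.basicOpen g ≤ W i := fun y hy => by
      have hy0 : y ∈ W i₀ := X'.basicOpen_le g hy
      have hu : IsUnit (gerA b y (U := U) trivial (f i)) := by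
        rw [gerA, Scheme.Hom.germ_stalkMap_apply]
        have := (X'.mem_basicOpen g y hy0).1 hy
        rwa [show g = X'.presheaf.map (homOfLE (hle i₀)).op (b.app U.1 (f i)) from rfl,
          TopCat.Presheaf.germ_res_apply] at this
      refine BlowExistsLib.mem_chartOpen_of_stalk hb.1 (hmem i) (trivial : b y ∈ U.1) ?_
      rw [Ideal.span_singleton_eq_top.2 hu]
      exact Ideal.eq_top_of_isUnit_mem _ (gerA_mem b y (U := U) trivial (hmem i)) hu
    haveI : IsLocalization.Away g Γ(X', X'.basicOpen g) :=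
      (isAffineOpen_chartOpen hb (hmem i₀)).isLocalization_basicOpen g
    have e1 : X'.presheaf.map (homOfLE (X'.basicOpen_le g)).op (b.appLE U.1 (W i₀) (hle i₀) a₀) =
        X'.presheaf.map (homOfLE (X'.basicOpen_le g)).op (b.appLE U.1 (W i₀) (hle i₀) a) := by
      rw [← ha₀, ← CommRingCat.comp_apply (b.appLE U.1 (W i₀) (hle i₀)), Scheme.Hom.appLE_map,
        ← Scheme.Hom.appLE_map b (hle i) (homOfLE hDi).op, CommRingCat.comp_apply, ← ha]
      show (X'.presheaf.map _ ≫ X'.presheaf.map _) x = (X'.presheaf.map _ ≫ X'.presheaf.map _) x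
      rw [← Functor.map_comp, ← Functor.map_comp]
      rfl
    obtain ⟨⟨_, N, rfl⟩, hN⟩ := (IsLocalization.eq_iff_exists (Submonoid.powers g) Γ(X', X'.basicOpen g)).1 e1
    have h2 := congrArg (ε i₀) hN
    simp only [map_mul, map_pow, g, hεb] at h2
    rw [← map_pow, ← map_mul, ← map_mul] at h2
    exact mul_left_cancel₀ (pow_ne_zero N hi) (halg i₀ h₀ h2)

section Nice

variable {Y X : Scheme.{u}} {r : ℕ}

/-- Affine opens on which the centre is cut out by a quasi-regular family of more than `r` elements. -/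
def IsNice (r : ℕ) (𝓘 : Y.IdealSheafData) (V : Y.Opens) : Prop :=
  ∃ (hV : IsAffineOpen V) (m : ℕ) (f : Fin (m + 1) → Γ(Y, V)),
    r ≤ m ∧ CAlgX.IsQuasiRegular f ∧ 𝓘.ideal ⟨V, hV⟩ = Ideal.span (Set.range f)

/-- The centre is everywhere locally cut out so. -/
def IsNiceCentre (r : ℕ) (𝓘 : Y.IdealSheafData) : Prop := ∀ y : Y, ∃ V, y ∈ V ∧ IsNice r 𝓘 V

theorem IsNice.basicOpen {𝓘 : Y.IdealSheafData} {V : Y.Opens} (h : IsNice r 𝓘 V) (g : Γ(Y, V)) :
    IsNice r 𝓘 (Y.basicOpen g) := by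
  obtain ⟨hV, m, f, hm, hf, hI⟩ := h
  letI : Algebra Γ(Y, V) Γ(Y, Y.basicOpen g) := (Y.presheaf.map (homOfLE (Y.basicOpen_le g)).op).hom.toAlgebra
  haveI : IsLocalization.Away g Γ(Y, Y.basicOpen g) := hV.isLocalization_basicOpen g
  refine ⟨hV.basicOpen g, m, fun i => algebraMap _ Γ(Y, Y.basicOpen g) (f i), hm,
    RelDivLib.isQuasiRegular_map (Submonoid.powers g) hf, ?_⟩
  refine (𝓘.map_ideal_basicOpen ⟨V, hV⟩ g).symm.trans ?_
  rw [hI, Ideal.map_span, ← Set.range_comp]
  rfl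

theorem IsNiceCentre.exists_nhd {𝓘 : Y.IdealSheafData} (h : IsNiceCentre r 𝓘) (W : Y.Opens) (y : Y) (hy : y ∈ W) :
    ∃ V, IsNice r 𝓘 V ∧ y ∈ V ∧ V ≤ W := by
  obtain ⟨V, hyV, hV⟩ := h y
  obtain ⟨g, hg, hyg⟩ := hV.1.exists_basicOpen_le ⟨y, hy⟩ hyV
  exact ⟨_, hV.basicOpen g, hyg, hg⟩

theorem exists_isNice_of_not_mem {𝓘 : Y.IdealSheafData} {y : Y} (hy : y ∉ 𝓘.support) :
    ∃ V, y ∈ V ∧ IsNice r 𝓘 V := by
  obtain ⟨U, hyU, hU⟩ := IdealStalkLib.exists_unit_nhd 𝓘 hy
  have h : Ideal.span (Set.range fun _ : Fin (r + 1 + 1) => (1 : Γ(Y, U.1))) = ⊤ :=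
    Ideal.eq_top_of_isUnit_mem _ (Ideal.subset_span ⟨0, rfl⟩) isUnit_one
  exact ⟨U.1, hyU, U.2, r + 1, _, Nat.le_succ r, isQuasiRegular_of_span_eq_top h, hU.trans h.symm⟩

theorem isNiceCentre_of_isRegularImmersion {S : Scheme.{u}} (i : S ⟶ Y) [IsClosedImmersion i] (d : ℕ) (hd : r + 1 ≤ d)
    (hi : RegImm.IsRegularImmersionOfCodim .regular d i) : IsNiceCentre r i.ker := by
  intro y
  by_cases hy : y ∈ i.ker.support
  swap
  · exact exists_isNice_of_not_mem hy
  have hy' : y ∈ Set.range i := by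
    rw [← i.isClosedEmbedding.isClosed_range.closure_eq, ← Scheme.Hom.support_ker i]
    exact hy
  obtain ⟨z, rfl⟩ := hy'
  obtain ⟨U, hzU, -, rs, hlen, hrs, hk⟩ := hi.2 z
  have hrs' : RingTheory.Sequence.IsRegular Γ(Y, U.1) rs := hrs
  refine ⟨U.1, hzU, U.2, d - 1, fun j => rs.get (Fin.cast (by omega) j), by omega, ?_, ?_⟩
  · have h := QRegLib.isQuasiRegular_of_isWeaklyRegular rs.get (by rw [List.ofFn_get]; exact hrs'.toIsWeaklyRegular)
    obtain ⟨d', rfl⟩ : ∃ d', d = d' + 1 := ⟨d - 1, by omega⟩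
    have hcast : ∀ (N : ℕ) (e : N = rs.length), CAlgX.IsQuasiRegular fun j : Fin N => rs.get (Fin.cast e j) := by
      rintro N rfl; exact h
    exact hcast _ _
  · rw [Scheme.Hom.ker_apply, hk]
    show Ideal.ofList rs = _
    rw [Ideal.ofList]
    congr 1
    ext a
    refine ⟨fun ha => ?_, ?_⟩
    · obtain ⟨j, hj⟩ := List.get_of_mem ha
      exact ⟨Fin.cast (by omega) j, by simpa using hj⟩
    · rintro ⟨j, rfl⟩
      exact List.get_mem _ _

end Nice

end Groth.Agent.BlowExcLib
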