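import Groth.Agent.BlowProjLib.Main
import Groth.Agent.BlowChartLib.Regular
import Groth.Agent.ProjUPLib.Free
import Groth.Agent.ProjCoh.PSData
import Groth.Agent.AmpleEmb.TwistOne

/-!
# The exceptional divisor of the blow-up in a quasi-regular sequence is a projective space
-/

set_option autoImplicit false
set_option backward.isDefEq.respectTransparency false
set_option backward.isDefEq.respectTransparency.types false
set_option linter.style.haveILetI false
set_option maxHeartbeats 2000000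

universe u

open CategoryTheory CategoryTheory.Limits AlgebraicGeometry TopologicalSpace Opposite
open Groth.Agent.PullbackMod Groth.Agent.BlowExistsLib Groth.Agent.BlowChartLib Groth.Agent.ProjBundleLib
open Groth.Agent.ProjUPLib Groth.Agent.ParaFLib Groth.Agent.DCohLib Groth.Agent.AmpleLib

noncomputable section

namespace Groth.Agent.BlowExcLib

section Algebra

open MvPolynomial in
theorem exists_presentation' {A : Type u} [CommRing A] {n : ℕ} {f : Fin n → A} (hf : CAlgX.IsQuasiRegular f) {I : Ideal A}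
    (hI : I = Ideal.span (Set.range f)) (i₀ : Fin n) :
    ∃ Ψ : MvPolynomial {j : Fin n // j ≠ i₀} A →+* BlowUp.affineAlgebra A I (f i₀),
      Function.Surjective Ψ ∧ (∀ r, Ψ (C r) = algebraMap A _ r) ∧
        (∀ j, Ψ (X j) = frac (f j.1) (hI ▸ Ideal.subset_span ⟨j.1, rfl⟩)) ∧
        ∀ P, Ψ P ∈ Ideal.span {algebraMap A (BlowUp.affineAlgebra A I (f i₀)) (f i₀)} → ∀ m, P.coeff m ∈ I := by
  classical
  have hmem : ∀ j, f j ∈ I := fun j => hI ▸ Ideal.subset_span ⟨j, rfl⟩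
  let Ψ : MvPolynomial {j : Fin n // j ≠ i₀} A →+* BlowUp.affineAlgebra A I (f i₀) :=
    eval₂Hom (algebraMap A _) fun j => frac (f j.1) (hmem j.1)
  have hfr : ∀ j, frac (a := f i₀) (f j) (hmem j) ∈ Ψ.range := fun j => by
    by_cases hj : j = i₀
    · subst hj
      exact ⟨1, (Ψ.map_one).trans (frac_self (hmem j)).symm⟩
    · exact ⟨X ⟨j, hj⟩, eval₂Hom_X' _ _ _⟩
  have halg : ∀ r, algebraMap A (BlowUp.affineAlgebra A I (f i₀)) r ∈ Ψ.range := fun r => ⟨C r, eval₂Hom_C _ _ _⟩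
  have hsurj : Function.Surjective Ψ := fun z =>
    induction_frac (P := fun z => z ∈ Ψ.range) halg
      (fun x hx => by
        obtain ⟨c, hc⟩ := Ideal.mem_span_range_iff_exists_fun.1 (hI.le hx)
        have h1 := frac_linear (a := f i₀) c f hmem x hx hc
        exact h1 ▸ sum_mem fun i _ => mul_mem (halg (c i)) (hfr i))
      (fun x y => Subring.add_mem _) (fun x y => Subring.mul_mem _) z
  refine ⟨Ψ, hsurj, fun r => eval₂Hom_C _ _ _, fun j => eval₂Hom_X' _ _ _, ?_⟩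
  let v : {j : Fin n // j ≠ i₀} → Localization.Away (f i₀) := fun j => (frac (a := f i₀) (f j.1) (hmem j.1)).val
  have hval : (BlowUp.affineAlgebra A I (f i₀)).val.toRingHom.comp Ψ = eval₂Hom (algebraMap A (Localization.Away (f i₀))) v :=
    MvPolynomial.ringHom_ext (fun r => (congrArg Subtype.val (eval₂Hom_C _ _ r)).trans (eval₂Hom_C (algebraMap A (Localization.Away (f i₀))) v r).symm)
      (fun j => (congrArg Subtype.val (eval₂Hom_X' _ _ j)).trans (eval₂Hom_X' (algebraMap A (Localization.Away (f i₀))) v j).symm)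
  intro P hP m
  obtain ⟨z, hz⟩ := Ideal.mem_span_singleton'.1 hP
  obtain ⟨Q, rfl⟩ := hsurj z
  have h0 : Ψ (P - C (f i₀) * Q) = 0 := by
    refine (Ψ.map_sub _ _).trans (sub_eq_zero.2 (hz.symm.trans ?_))
    exact ((mul_comm _ _).trans (congrArg (· * Ψ Q) (eval₂Hom_C _ _ (f i₀)).symm)).trans (Ψ.map_mul _ _).symm
  have h : (P - C (f i₀) * Q).coeff m ∈ I := hI ▸ coeff_mem_of_eval₂_eq_zero hf i₀ v
    (fun j => val_frac (f j.1) (hmem j.1)) _
    ((RingHom.congr_fun hval _).symm.trans (congrArg Subtype.val h0)) m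
  rw [coeff_sub, coeff_C_mul] at h
  simpa using add_mem h (Ideal.mul_mem_right (Q.coeff m) I (hmem i₀))

end Algebra

theorem ratioSec_self {R A : Type u} [CommRing R] [CommRing A] [Algebra R A] (𝒜 : ℕ → Submodule R A) [GradedAlgebra 𝒜]
    (g : 𝒜 1) : ProjCoh.ratioSec 𝒜 g g = 1 := by
  refine Subtype.ext (funext fun x => HomogeneousLocalization.val_injective _ ?_)
  show HomogeneousLocalization.val (HomogeneousLocalization.mk ⟨1, g, g, x.2⟩) = HomogeneousLocalization.val 1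
  rw [HomogeneousLocalization.val_mk, HomogeneousLocalization.val_one]
  exact Localization.mk_self (⟨g.1, x.2⟩ : x.1.asHomogeneousIdeal.toIdeal.primeCompl)

variable {X X' : Scheme.{u}} [IsAffine X] (𝓘 : X.IdealSheafData) (b : X' ⟶ X) [QuasiCompact b]

/-- The whole of an affine scheme. -/
abbrev topU : X.affineOpens := ⟨⊤, isAffineOpen_top X⟩

/-- The functions on the centre. -/
abbrev CR : Type u := Γ(X, ⊤) ⧸ 𝓘.ideal topU

/-- The exceptional divisor. -/
abbrev exc : Scheme.{u} := (𝓘.comap b).subscheme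

/-- Its inclusion. -/
abbrev jExc : exc 𝓘 b ⟶ X' := (𝓘.comap b).subschemeι

/-- The conormal line bundle of the exceptional divisor. -/
abbrev conormal : (exc 𝓘 b).Modules :=
  (Scheme.Modules.pullback (jExc 𝓘 b)).obj (ClSub.idealMod (𝓘.comap b))

theorem centre_appTop_eq_zero (a : Γ(X, ⊤)) (ha : a ∈ 𝓘.ideal topU) : (jExc 𝓘 b ≫ b).appTop a = 0 := by
  have hle : 𝓘 ≤ (jExc 𝓘 b ≫ b).ker := by
    rw [Scheme.Hom.ker_comp, Scheme.IdealSheafData.le_map_iff_comap_le, Scheme.IdealSheafData.ker_subschemeι]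
  have h := hle topU ha
  rw [Scheme.Hom.ker_apply, RingHom.mem_ker] at h
  exact h

/-- The map to the centre. -/
def toCentre : exc 𝓘 b ⟶ Spec (CommRingCat.of (CR 𝓘)) :=
  (exc 𝓘 b).toSpecΓ ≫ Spec.map (CommRingCat.ofHom
    (Ideal.Quotient.lift (𝓘.ideal topU) (jExc 𝓘 b ≫ b).appTop.hom (centre_appTop_eq_zero 𝓘 b)))

theorem toGlobal_toCentre (a : Γ(X, ⊤)) :
    ProjUP.toGlobal (toCentre 𝓘 b) (Ideal.Quotient.mk (𝓘.ideal topU) a) = (jExc 𝓘 b ≫ b).appTop a := by
  rw [toCentre, ProjUPLib.toGlobal_toSpecΓ]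
  exact Ideal.Quotient.lift_mk _ _ _

/-- The exceptional divisor of the blow-up in a quasi-regular sequence of `m + 1` elements. -/
theorem exists_exceptional_iso (hb : BlowUp.IsBlowUp b 𝓘) {m : ℕ} (f : Fin (m + 1) → Γ(X, ⊤))
    (hI : 𝓘.ideal topU = Ideal.span (Set.range f)) (hf : CAlgX.IsQuasiRegular f) :
    ∃ (r : exc 𝓘 b ⟶ CohB1.ProjSpace m (CR 𝓘)) (_ : IsIso r),
      r ≫ CohB1.ProjSpace.toSpec m (CR 𝓘) = toCentre 𝓘 b ∧
      Nonempty ((Scheme.Modules.pullback r).obj (Twist.twistProjSpace m (CR 𝓘) 1) ≅ conormal 𝓘 b) := by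
  obtain ⟨θ, hθ⟩ := BlowProjLib.exists_theta 𝓘 b
  let U : X.affineOpens := topU
  let J := 𝓘.comap b
  have hmem : ∀ i, f i ∈ 𝓘.ideal U := fun i => hI ▸ Ideal.subset_span ⟨i, rfl⟩
  choose e he using fun i => (OmegaAffLib.mem_range_idealSect 𝓘 U (f i)).1 (hmem i)
  let σ : Fin (m + 1) → ProjUP.Γm (ClSub.idealMod J) := fun i => θ.app ⊤ (e i)
  have hJ : PicF.IsInvertible (ClSub.idealMod J) := (Groth.Agent.S8914.result J).2 hb.1
  let W : Fin (m + 1) → X'.Opens := fun i => chartOpen 𝓘 U (f i) b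
  have hgl : ∀ i, gl (σ i) = W i := fun i => by
    ext x
    refine (mem_gl_iff hJ).trans ?_
    refine (BlowProjLib.bijective_theta_iff hθ hb U x trivial (e i)).trans ?_
    rw [he]
    rfl
  let L := conormal 𝓘 b
  have hL : PicF.IsInvertible L := AmpleLib.isInvertible_pullback _ hJ
  let s : Fin (m + 1) → ProjUP.Γm L := fun i => ProjUP.pullSec (jExc 𝓘 b) _ (σ i)
  have hgls : ∀ i, gl (s i) = jExc 𝓘 b ⁻¹ᵁ W i := fun i => by
    show gl (ProjUP.pullSec _ _ _) = _
    rw [gl_pullSec _ hJ, hgl]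
  have hgen : ProjUP.GeneratedBy L s := fun x => by
    obtain ⟨a, ⟨i, rfl⟩, hx⟩ := BlowChartLib.exists_mem_chartOpen 𝓘 U b hb (Set.range f) hI.symm
      (jExc 𝓘 b x) trivial
    have hxg : x ∈ gl (s i) := (hgls i).ge hx
    refine eq_top_iff.2 fun z _ => ?_
    obtain ⟨c, rfl⟩ := ((mem_gl_iff hL).1 hxg).2 z
    exact Submodule.smul_mem _ _ (Submodule.subset_span ⟨i, rfl⟩)
  obtain ⟨r, hr, τ, hτ⟩ := exists_hom_projSpace (toCentre 𝓘 b) hL s hgen
  refine ⟨r, ?_, hr, ⟨τ⟩⟩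
  let 𝒜 := CohB1.polyGrading m (CR 𝓘)
  let X1 : Fin (m + 1) → 𝒜 1 := fun i => ⟨MvPolynomial.X i, MvPolynomial.isHomogeneous_X _ i⟩
  let κι : ULift.{u} (Fin (m + 1)) → MvPolynomial (Fin (m + 1)) (CR 𝓘) := fun i => MvPolynomial.X i.down
  have hκ : ∀ i, κι i ∈ 𝒜 1 := fun i => MvPolynomial.isHomogeneous_X _ i.down
  have hadj : Algebra.adjoin (CR 𝓘) (Set.range κι) = ⊤ := by
    rw [eq_top_iff, ← MvPolynomial.adjoin_range_X]
    exact Algebra.adjoin_mono fun _ ⟨i, hi⟩ => ⟨⟨i⟩, hi⟩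
  let D : Fin (m + 1) → (CohB1.ProjSpace m (CR 𝓘)).Opens := fun i => Proj.basicOpen 𝒜 (X1 i).1
  have hτ' : ∀ i, τ.hom.app ⊤ (pForm r (X1 i)) = s i := hτ
  have hD : ∀ i, r ⁻¹ᵁ D i = gl (s i) := fun i => by
    rw [← hτ' i, gl_iso τ, gl_pForm hκ r hadj]
  refine (IsZariskiLocalAtTarget.iff_of_iSup_eq_top (P := MorphismProperty.isomorphisms Scheme) D
    (AmpleEmb.iSup_stdOpen m (CR 𝓘))).2 fun i => ?_
  have hDaff : IsAffineOpen (D i) := Proj.isAffineOpen_basicOpen 𝒜 (X1 i).1 (X1 i).2 one_pos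
  have hWaff : IsAffineOpen (W i) := isAffineOpen_chartOpen hb (hmem i)
  have hV : r ⁻¹ᵁ D i = jExc 𝓘 b ⁻¹ᵁ W i := (hD i).trans (hgls i)
  have hVaff : IsAffineOpen (r ⁻¹ᵁ D i) := hV ▸ hWaff.preimage (jExc 𝓘 b)
  haveI : IsAffine (r ⁻¹ᵁ D i).toScheme := hVaff
  haveI : IsAffine (D i).toScheme := hDaff
  let V : (exc 𝓘 b).Opens := jExc 𝓘 b ⁻¹ᵁ W i
  -- the functions on the chart
  let ε : Γ(X', W i) →+* ↥(BlowUp.affineAlgebra Γ(X, ⊤) (𝓘.ideal U) (f i)) :=
    BlowProjLib.chartFun hb (hmem i)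
  have hεbij : Function.Bijective ε := by
    refine ⟨BlowProjLib.chartFun_injective hb (hmem i), fun z => ?_⟩
    have h1 : emb hb (hmem i) ⁻¹ᵁ W i = ⊤ := top_le_iff.1 (BlowProjLib.top_le_emb hb (hmem i))
    haveI : IsIso ((emb hb (hmem i)).app (W i)) :=
      (emb hb (hmem i)).isIso_app _ (opensRange_emb hb (hmem i)).ge
    haveI : IsIso ((emb hb (hmem i)).appLE (W i) ⊤ (BlowProjLib.top_le_emb hb (hmem i))) := by
      rw [Scheme.Hom.appLE]
      haveI : IsIso (homOfLE (BlowProjLib.top_le_emb hb (hmem i))) :=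
        ⟨homOfLE h1.le, Subsingleton.elim _ _, Subsingleton.elim _ _⟩
      infer_instance
    exact (ConcreteCategory.bijective_of_isIso ((emb hb (hmem i)).appLE (W i) ⊤
      (BlowProjLib.top_le_emb hb (hmem i)) ≫ (Scheme.ΓSpecIso _).hom)).2 z
  let εe := RingEquiv.ofBijective ε hεbij
  have hle : W i ≤ b ⁻¹ᵁ U.1 := le_top
  have hεbase : ∀ a, ε (b.appLE U.1 (W i) hle a) = algebraMap _ _ a := fun a =>
    BlowProjLib.chartFun_base hb (hmem i) hle a
  have hεcoef : ∀ k, ∀ h : W i ≤ gl (σ i),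
      ε (X'.presheaf.map (homOfLE h).op (coef hJ (σ i) (σ k))) = frac (f k) (hmem k) := fun k h => by
    refine (mul_cancel_right_mem_nonZeroDivisors
      (BlowChartLib.mem_nonZeroDivisors (A := Γ(X, ⊤)) (I := 𝓘.ideal U) (a := f i))).1 ?_
    rw [frac_mul]
    have h0 : ∀ l, OmegaSh.idealSect J (W i) (resT (σ l) (W i)) = b.appLE U.1 (W i) hle (f l) := fun l => by
      rw [← he l]
      have hn := hθ ⊤ (e l)
      refine ((ConormalLib.idealSect_res J (le_top : W i ≤ ⊤) (σ l)).trans ?_)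
      show X'.presheaf.map _ (OmegaSh.idealSect J (b ⁻¹ᵁ ⊤) (θ.app ⊤ (e l))) = _
      rw [hn]
      rfl
    have h1 := congrArg (OmegaSh.idealSect J (W i)) (res_coef_smul hJ (σ i) (σ k) h)
    rw [OmegaAffLib.idealSect_smul, h0, h0] at h1
    have h2 := congrArg ε h1
    rw [map_mul, hεbase, hεbase] at h2
    exact h2
  let q : ↥(BlowUp.affineAlgebra Γ(X, ⊤) (𝓘.ideal U) (f i)) →+* Γ(exc 𝓘 b, V) :=
    ((jExc 𝓘 b).app (W i)).hom.comp εe.symm.toRingHom
  have hq : Function.Surjective q :=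
    (Scheme.Hom.app_surjective (jExc 𝓘 b) (W i) hWaff).comp εe.symm.surjective
  have hqk : ∀ z, q z = 0 → z ∈ Ideal.span {algebraMap Γ(X, ⊤) _ (f i)} := fun z hz => by
    have h1 : εe.symm z ∈ J.ideal (⟨W i, hWaff⟩ : X'.affineOpens) := by
      rw [← Scheme.IdealSheafData.ker_subschemeι J, Scheme.Hom.ker_apply, RingHom.mem_ker]
      exact hz
    rw [IdealStalkLib.comap_ideal 𝓘 b U.2 hWaff hle] at h1
    have h2 := Ideal.mem_map_of_mem ε h1
    rw [Ideal.map_map, show ε.comp (b.appLE U.1 (W i) hle).hom = algebraMap _ _ from RingHom.ext hεbase,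
      map_eq_span (hmem i)] at h2
    rwa [show ε (εe.symm z) = z from εe.apply_symm_apply z] at h2
  -- the comparison with the chart of projective space
  let ρ : Γ(CohB1.ProjSpace m (CR 𝓘), D i) →+* Γ(exc 𝓘 b, V) := (r.appLE (D i) V hV.ge).hom
  let Ω : MvPolynomial (Fin (m + 1)) (CR 𝓘) →+* Γ(CohB1.ProjSpace m (CR 𝓘), D i) :=
    MvPolynomial.eval₂Hom (ProjCoh.φV (ProjCoh.projφ 𝒜) (D i)) fun a => ProjCoh.ratioSec 𝒜 (X1 i) (X1 a)
  have hΩ : Function.Surjective Ω := ProjCoh.ratio_generated_proj (𝒜 := 𝒜) X1 MvPolynomial.adjoin_range_X i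
  have hρC : ∀ a : Γ(X, ⊤), ρ (ProjCoh.φV (ProjCoh.projφ 𝒜) (D i) (Ideal.Quotient.mk _ a)) =
      q (algebraMap _ _ a) := fun a => by
    have e1 : εe.symm (algebraMap _ _ a) = b.appLE U.1 (W i) hle a := by
      rw [RingEquiv.symm_apply_eq]; exact (hεbase a).symm
    show ρ _ = (jExc 𝓘 b).app (W i) (εe.symm (algebraMap _ _ a))
    rw [e1]
    have h1 : ρ (ProjCoh.φV (ProjCoh.projφ 𝒜) (D i) (Ideal.Quotient.mk _ a)) =
        (exc 𝓘 b).presheaf.map (homOfLE (le_top : V ≤ ⊤)).op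
          (ProjUP.toGlobal (toCentre 𝓘 b) (Ideal.Quotient.mk _ a)) := by
      rw [← hr]
      show ((CohB1.ProjSpace m (CR 𝓘)).presheaf.map (homOfLE le_top).op ≫ r.appLE (D i) V hV.ge) _ =
        (r.appTop ≫ (exc 𝓘 b).presheaf.map (homOfLE (le_top : V ≤ ⊤)).op) _
      rw [Scheme.Hom.map_appLE]
      rfl
    rw [h1, toGlobal_toCentre]
    rw [Scheme.Hom.app_eq_appLE, ← CommRingCat.comp_apply, ← CommRingCat.comp_apply, Scheme.Hom.appLE_comp_appLE,
      Scheme.Hom.appTop, Scheme.Hom.app_eq_appLE, Scheme.Hom.appLE_map]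
  have hρX : ∀ k, ρ (ProjCoh.ratioSec 𝒜 (X1 i) (X1 k)) = q (frac (f k) (hmem k)) := fun k => by
    have h := (hgl i).ge
    have e1 : εe.symm (frac (f k) (hmem k)) = X'.presheaf.map (homOfLE h).op (coef hJ (σ i) (σ k)) := by
      rw [RingEquiv.symm_apply_eq]; exact (hεcoef k h).symm
    show ρ _ = (jExc 𝓘 b).app (W i) (εe.symm (frac (f k) (hmem k)))
    rw [e1]
    refine ((gen_gl hL (s i)).res (hgls i).ge V le_rfl).1 ?_
    show ρ _ • _ = _ • _
    rw [res_self']
    rw [show L.presheaf.map (homOfLE (hgls i).ge).op (resT (s i) (gl (s i))) = resT (s i) V from res_res _ _ _]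
    show ρ (ProjCoh.ratioSec 𝒜 (X1 i) (X1 k)) • resT (s i) V =
      (jExc 𝓘 b).app (W i) (X'.presheaf.map (homOfLE h).op (coef hJ (σ i) (σ k))) • resT (s i) V
    have h1 := congrArg (τ.hom.app V) (appLE_ratio_smul r (X1 i) (X1 k) (U := V) hV.ge)
    rw [Scheme.Modules.Hom.app_smul] at h1
    have hn : ∀ l, τ.hom.app V (resT (pForm r (X1 l)) V) = resT (s l) V := fun l => by
      rw [← hτ' l]
      exact ConcreteCategory.congr_hom (τ.hom.mapPresheaf.naturality (homOfLE (le_top : V ≤ ⊤)).op) _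
    rw [hn, hn] at h1
    refine h1.trans ?_
    rw [resT_pullSec (jExc 𝓘 b) (le_rfl : V ≤ jExc 𝓘 b ⁻¹ᵁ W i),
      resT_pullSec (jExc 𝓘 b) (le_rfl : V ≤ jExc 𝓘 b ⁻¹ᵁ W i), ← res_coef_smul hJ (σ i) (σ k) h, pullMap_smul,
      Scheme.Hom.appLE_eq_app]
  obtain ⟨Ψ, hΨ, hΨC, hΨX, hΨk⟩ := exists_presentation' hf hI i
  -- the coordinates other than the `i`-th
  let π : MvPolynomial (Fin (m + 1)) Γ(X, ⊤) →+* MvPolynomial {j : Fin (m + 1) // j ≠ i} Γ(X, ⊤) :=
    MvPolynomial.eval₂Hom MvPolynomial.C fun k => if h : k = i then 1 else MvPolynomial.X ⟨k, h⟩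
  let incl : MvPolynomial {j : Fin (m + 1) // j ≠ i} (CR 𝓘) →+* MvPolynomial (Fin (m + 1)) (CR 𝓘) :=
    (MvPolynomial.rename Subtype.val).toRingHom
  let π' : MvPolynomial (Fin (m + 1)) (CR 𝓘) →+* MvPolynomial {j : Fin (m + 1) // j ≠ i} (CR 𝓘) :=
    MvPolynomial.eval₂Hom MvPolynomial.C fun k => if h : k = i then 1 else MvPolynomial.X ⟨k, h⟩
  have hcomp : ρ.comp (Ω.comp (MvPolynomial.map (Ideal.Quotient.mk (𝓘.ideal U)))) = q.comp (Ψ.comp π) := by
    refine MvPolynomial.ringHom_ext (fun a => ?_) fun k => ?_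
    · show ρ (Ω (MvPolynomial.map _ (MvPolynomial.C a))) = q (Ψ (π (MvPolynomial.C a)))
      rw [MvPolynomial.map_C, MvPolynomial.eval₂Hom_C, MvPolynomial.eval₂Hom_C, hΨC]
      exact hρC a
    · show ρ (Ω (MvPolynomial.map _ (MvPolynomial.X k))) = q (Ψ (π (MvPolynomial.X k)))
      rw [MvPolynomial.map_X, MvPolynomial.eval₂Hom_X', MvPolynomial.eval₂Hom_X']
      refine (hρX k).trans ?_
      by_cases hk : k = i
      · subst hk
        rw [dif_pos rfl, map_one, BlowChartLib.frac_self]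
      · rw [dif_neg hk]
        exact congrArg q (hΨX ⟨k, hk⟩).symm
  have hΩπ : Ω = Ω.comp (incl.comp π') := by
    refine MvPolynomial.ringHom_ext (fun a => ?_) fun k => ?_
    · simp [incl, π']
    · by_cases hk : k = i
      · subst hk
        show Ω (MvPolynomial.X k) = Ω (incl (π' (MvPolynomial.X k)))
        have e : π' (MvPolynomial.X k) = 1 := by simp [π']
        rw [e, map_one, map_one, MvPolynomial.eval₂Hom_X']
        exact ratioSec_self 𝒜 (X1 k)
      · simp [incl, π', hk]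
  have hρbij : Function.Bijective ρ := by
    constructor
    · refine (injective_iff_map_eq_zero ρ).2 fun z hz => ?_
      obtain ⟨p, rfl⟩ := hΩ z
      obtain ⟨p, rfl⟩ := MvPolynomial.map_surjective _ Ideal.Quotient.mk_surjective p
      have h1 : q (Ψ (π p)) = 0 := by
        rw [← hz]; exact (RingHom.congr_fun hcomp p).symm
      have h2 : MvPolynomial.map (Ideal.Quotient.mk (𝓘.ideal U)) (π p) = 0 := by
        ext d
        rw [MvPolynomial.coeff_map, MvPolynomial.coeff_zero, Ideal.Quotient.eq_zero_iff_mem]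
        exact hΨk _ (hqk _ h1) d
      have h3 : (π'.comp (MvPolynomial.map (Ideal.Quotient.mk (𝓘.ideal U)))) =
          (MvPolynomial.map (Ideal.Quotient.mk (𝓘.ideal U))).comp π := by
        refine MvPolynomial.ringHom_ext (fun a => ?_) fun k => ?_
        · show π' (MvPolynomial.map _ (MvPolynomial.C a)) = MvPolynomial.map _ (π (MvPolynomial.C a))
          rw [MvPolynomial.map_C, MvPolynomial.eval₂Hom_C, MvPolynomial.eval₂Hom_C, MvPolynomial.map_C]
        · show π' (MvPolynomial.map _ (MvPolynomial.X k)) = MvPolynomial.map _ (π (MvPolynomial.X k))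
          rw [MvPolynomial.map_X, MvPolynomial.eval₂Hom_X', MvPolynomial.eval₂Hom_X']
          by_cases hk : k = i
          · rw [dif_pos hk, dif_pos hk, map_one]
          · rw [dif_neg hk, dif_neg hk, MvPolynomial.map_X]
      rw [RingHom.congr_fun hΩπ, RingHom.comp_apply, RingHom.comp_apply,
        show π' (MvPolynomial.map _ p) = 0 from (RingHom.congr_fun h3 p).trans h2, map_zero, map_zero]
    · intro z
      obtain ⟨w, rfl⟩ := hq z
      obtain ⟨P, rfl⟩ := hΨ w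
      refine ⟨Ω (MvPolynomial.map (Ideal.Quotient.mk (𝓘.ideal U)) (MvPolynomial.rename Subtype.val P)), ?_⟩
      refine (RingHom.congr_fun hcomp _).trans (congrArg q (congrArg Ψ ?_))
      have h3 : π.comp (MvPolynomial.rename Subtype.val).toRingHom = RingHom.id _ := by
        refine MvPolynomial.ringHom_ext (fun a => by simp [π]) fun k => ?_
        simp [π, k.2]
      exact RingHom.congr_fun h3 P
  show IsIso (r ∣_ D i)
  haveI : IsIso (r.appLE (D i) V hV.ge) := (ConcreteCategory.isIso_iff_bijective _).2 hρbij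
  haveI : IsIso (r.app (D i)) := by
    haveI : IsIso (homOfLE hV.ge) := ⟨homOfLE hV.le, Subsingleton.elim _ _, Subsingleton.elim _ _⟩
    haveI : IsIso (r.app (D i) ≫ (exc 𝓘 b).presheaf.map (homOfLE hV.ge).op) := ‹IsIso (r.appLE (D i) V hV.ge)›
    exact IsIso.of_isIso_comp_right (r.app (D i)) ((exc 𝓘 b).presheaf.map (homOfLE hV.ge).op)
  refine (HasAffineProperty.iff_of_isAffine (P := MorphismProperty.isomorphisms Scheme)).2 ⟨inferInstance, ?_⟩
  show IsIso (r ∣_ D i).appTop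
  rw [morphismRestrict_appTop]
  have key : ∀ O : (CohB1.ProjSpace m (CR 𝓘)).Opens, O = D i → IsIso (r.app O) := by
    rintro _ rfl; infer_instance
  haveI := key _ (D i).ι_image_top
  infer_instance

end Groth.Agent.BlowExcLib
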