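import Groth.Agent.BlowExcLib.AntiCan

/-!
# The first cohomology of a kernel on the twists
-/

set_option autoImplicit false
set_option backward.isDefEq.respectTransparency false
set_option linter.style.haveILetI false
set_option maxHeartbeats 1000000

universe u

open CategoryTheory CategoryTheory.Limits AlgebraicGeometry TopologicalSpace Opposite
open Groth.Agent.PullbackMod Groth.Agent.DCohLib Groth.Agent.AmpleLib Groth.Agent.IntLib Groth.Agent.BlowExistsLib

noncomputable section

namespace Groth.Agent.BlowExcLib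

variable {X : Scheme.{u}}

/-- No `H¹` on the left when sections lift. -/
theorem subsingleton_one_of_H_surjective {S : ShortComplex X.Modules} (hS : S.ShortExact)
    (h2 : Subsingleton (Coh.HH X S.X₂ 1))
    (hs : Function.Surjective (Sheaf.H.map ((SheafOfModules.toSheaf X.ringCatSheaf).map S.g) 0)) :
    Subsingleton (Coh.HH X S.X₁ 1) := by
  refine subsingleton_of_forall_eq 0 fun z => ?_
  obtain ⟨x₃, hx₃⟩ := Abelian.Ext.covariant_sequence_exact₁ (S := S.map (QCohLib.toAbF X)) _ (QCohLib.toAb_shortExact hS) z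
    (by exact @Subsingleton.elim _ h2 _ _) (zero_add 1)
  obtain ⟨w, hw⟩ := hs x₃
  rw [← hx₃, show x₃ = Abelian.Ext.comp w (Abelian.Ext.mk₀ (S.map (QCohLib.toAbF X)).g) (add_zero 0) from hw.symm,
    Abelian.Ext.comp_assoc_of_second_deg_zero, ShortComplex.ShortExact.comp_extClass, Abelian.Ext.comp_zero]

/-- Kernels of maps between sums of line bundles, in twists. -/
theorem van_kernel {Q P A B : X.Modules} {a b : ℕ} (g : Q ⟶ P) [Epi g]
    (hQ : Nonempty (Q ≅ ∐ fun _ : Fin a => A)) (hP : Nonempty (P ≅ ∐ fun _ : Fin b => B))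
    {L : X.Modules} (hL : PicF.IsInvertible L) (j : ℕ)
    (h₂ : Van (IntLib.mk A * IntLib.mk L) (j + 1)) (h₃ : Van (IntLib.mk B * IntLib.mk L) j) :
    Van (IntLib.mk (kernel g) * IntLib.mk L) (j + 1) := by
  have hS : (ShortComplex.mk (kernel.ι g) g (kernel.condition g)).ShortExact :=
    { exact := ShortComplex.exact_kernel g }
  exact Van.of _ (mk_tensor _ _) (AffStratLib.subsingleton_left
    (CurveLib.shortExact_tensR hS (CurveLib.freeAt_one_of_isInvertible hL)) j
    (subsingleton_sum_twist j hP h₃) (subsingleton_sum_twist (j + 1) hQ h₂))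

variable {k : Type u} [Field k] {n : ℕ} (π : X ⟶ CohB1.ProjSpace n k) {e : (MCls X)ˣ}
  {Q P : X.Modules} {a b : ℕ} (g : Q ⟶ P) [Epi g]
  (hQ : Nonempty (Q ≅ ∐ fun _ : Fin a => (Scheme.Modules.pullback π).obj (Twist.twistProjSpace n k 1)))
  (hP : Nonempty (P ≅ ∐ fun _ : Fin b => (Scheme.Modules.pullback π).obj (Twist.twistProjSpace n k 2)))

include hQ hP in
/-- Going up in the degree. -/
theorem van_kernel_up (hn : 3 ≤ n) (V : TwistVan π e) {J : X.Modules} (hJ : PicF.IsInvertible J)
    (hJe : IntLib.mk J = (e : MCls X)) (d : ℕ)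
    (h0 : Van (IntLib.mk (kernel g) * (pcls π (d : ℤ) * ((e ^ (d : ℤ) : (MCls X)ˣ) : MCls X))) 1)
    (c : ℤ) (hc : (d : ℤ) ≤ c) :
    Van (IntLib.mk (kernel g) * (pcls π c * ((e ^ (d : ℤ) : (MCls X)ˣ) : MCls X))) 1 := by
  let T := CMRegLib.xData k π (CohB1.tensorMod (kernel g) (CohB1.tensorPow J d))
  have hT : ∀ c' : ℤ, IntLib.mk (T.F c') =
      IntLib.mk (kernel g) * (pcls π c' * ((e ^ (d : ℤ) : (MCls X)ˣ) : MCls X)) := fun c' => by
    rw [mk_xData_F, mk_tensor, mk_tensorPow, hJe, zpow_natCast, Units.val_pow_eq_pow_val, mul_assoc, mul_comm (pcls π c')]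
  induction c, hc using Int.le_induction with
  | base => exact h0
  | succ c hc ih =>
    refine Van.of _ (hT (c + 1)) (koszul_vanish_bdd T (c + 1) 1 fun i hi => ?_)
    rcases Nat.eq_zero_or_pos i with rfl | hi0
    · exact ih _ ((hT _).trans (by simp))
    rw [Fintype.card_fin] at hi
    let c' : ℤ := c + 1 - ((1 + i : ℕ) : ℤ)
    have hc' : c' = c - i := by simp only [c']; push_cast; ring
    let L := CohB1.tensorMod ((Scheme.Modules.pullback π).obj (Twist.twistProjSpace n k c')) (CohB1.tensorPow J d)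
    have hL : IntLib.mk L = pcls π c' * ((e ^ (d : ℤ) : (MCls X)ˣ) : MCls X) := by
      rw [mk_tensor, mk_tensorPow, hJe, zpow_natCast, Units.val_pow_eq_pow_val]
      rfl
    obtain ⟨j, rfl⟩ : ∃ j, i = j + 1 := ⟨i - 1, by omega⟩
    have key : Van (IntLib.mk (kernel g) * IntLib.mk L) (j + 1 + 1) := by
      refine van_kernel g hQ hP (isInvertible_tensor (isInvertible_pullback π (isInvertible_twist c'))
        (isInvertible_tensorPow hJ d)) (j + 1) ?_ ?_
      · rw [hL, ← mul_assoc]
        refine Eq.subst (motive := fun z => Van (z * _) (j + 1 + 1)) (pcls_add π 1 c') ?_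
        exact V.pos _ d _ (by omega) (by omega) (fun h => by omega)
      · rw [hL, ← mul_assoc]
        refine Eq.subst (motive := fun z => Van (z * _) (j + 1)) (pcls_add π 2 c') ?_
        rcases Nat.eq_zero_or_pos j with rfl | hj
        · exact V.one _ d (by push_cast at hc'; omega)
        · exact V.pos _ d _ (by omega) (by omega) (fun h => by omega)
    rw [hL] at key
    have h' := key _ (hT c')
    rwa [show j + 1 + 1 = 1 + (j + 1) by omega] at h'

include hQ hP in
/-- Along the diagonal, by the projection. -/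
theorem van_kernel_diag [IsAlgClosed k] {p : ↥(CohB1.ProjSpace n k)} (hp : IsClosed ({p} : Set ↥(CohB1.ProjSpace n k)))
    (hπ : BlowUp.IsBlowUp π (Scheme.IdealSheafData.vanishingIdeal ⟨{p}, hp⟩)) (hn : 3 ≤ n)
    (h0 : Van (IntLib.mk (kernel g)) 1) (d : ℕ) :
    Van (IntLib.mk (kernel g) * Mcl p hp π hπ (d : ℤ) (d : ℤ)) 1 := by
  obtain ⟨m, rfl⟩ : ∃ m, n = m + 1 := ⟨n - 1, by omega⟩
  obtain ⟨q, hq⟩ := exists_projection p hp π hπ.1
  have hu : punit q = punit π * eUnit p hp π hπ := Units.ext (by rw [Units.val_mul, eUnit_eq]; exact hq)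
  have hq' : ∀ b : ℤ, pcls q b = Mcl p hp π hπ b b := fun b => by
    rw [pcls_eq_zpow q, hu, mul_zpow, Units.val_mul, ← pcls_eq_zpow π, Mcl]
  let T := CMRegLib.xData k q (kernel g)
  have hT : ∀ b : ℤ, IntLib.mk (T.F b) = IntLib.mk (kernel g) * Mcl p hp π hπ b b := fun b => by
    rw [mk_xData_F, hq']
  induction d with
  | zero =>
    intro M hM
    refine h0 M (hM.trans ?_)
    rw [Nat.cast_zero, Mcl_zero, pcls_zero, mul_one]
  | succ d ih =>
    refine Van.of _ (hT _) (koszul_vanish_bdd T _ 1 fun i hi => ?_)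
    rcases Nat.eq_zero_or_pos i with rfl | hi0
    · exact ih _ ((hT _).trans (by push_cast; simp))
    rw [Fintype.card_fin] at hi
    let c' : ℤ := ((d + 1 : ℕ) : ℤ) - ((1 + i : ℕ) : ℤ)
    have hc' : c' = (d : ℤ) - i := by simp only [c']; push_cast; ring
    obtain ⟨j, rfl⟩ : ∃ j, i = j + 1 := ⟨i - 1, by omega⟩
    have key : Van (IntLib.mk (kernel g) * IntLib.mk ((Scheme.Modules.pullback q).obj (Twist.twistProjSpace m k c')))
        (j + 1 + 1) := by
      refine van_kernel g hQ hP (isInvertible_pullback q (isInvertible_twist c')) (j + 1) ?_ ?_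
      all_goals rw [show IntLib.mk ((Scheme.Modules.pullback q).obj (Twist.twistProjSpace m k c')) =
        Mcl p hp π hπ c' c' from hq' c', Mcl, ← mul_assoc]
      · refine Eq.subst (motive := fun z => Van (z * _) (j + 1 + 1)) (pcls_add π 1 c') ?_
        obtain ⟨D, hD | hD⟩ := c'.eq_nat_or_neg
        · rw [hD]; exact van_nonneg p hp π hπ (by omega) _ D _ (by omega) (by omega) (fun h => by omega)
        · rw [hD]
          exact van_nonpos p hp π hπ (by omega) _ _ (van_base p hp π hπ (by omega) _ _ (by omega) (fun h => by omega)) D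
            (Or.inr (by omega))
      · refine Eq.subst (motive := fun z => Van (z * _) (j + 1)) (pcls_add π 2 c') ?_
        obtain ⟨D, hD | hD⟩ := c'.eq_nat_or_neg
        · rw [hD]
          rcases Nat.eq_zero_or_pos j with rfl | hj
          · exact van_one p hp π hπ (by omega) _ D (by omega)
          · exact van_nonneg p hp π hπ (by omega) _ D _ (by omega) (by omega) (fun h => by omega)
        · rw [hD]
          exact van_nonpos p hp π hπ (by omega) _ _ (van_base p hp π hπ (by omega) _ _ (by omega) (fun h => by omega)) D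
            (Or.inr (by omega))
    have h' := key _ ((hT c').trans (congrArg _ (hq' c').symm))
    rwa [show j + 1 + 1 = 1 + (j + 1) by omega] at h'

include hQ hP in
/-- The first cohomology of the kernel in the positive twists. -/
theorem van_kernel_anti [IsAlgClosed k] (hn : 3 ≤ n) {s : ℕ} (Z : Fin s → ↥(CohB1.ProjSpace n k))
    (hZc : ∀ i, IsClosed ({Z i} : Set ↥(CohB1.ProjSpace n k))) (hZ : IsClosed (Set.range Z))
    (hπ : BlowUp.IsBlowUp π (Scheme.IdealSheafData.vanishingIdeal ⟨Set.range Z, hZ⟩)) (hs : s ≤ 1)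
    (V : TwistVan π e)
    (he : (e : MCls X) =
        IntLib.mk (ClSub.idealMod (BlowUp.exceptional π (Scheme.IdealSheafData.vanishingIdeal ⟨Set.range Z, hZ⟩))))
    (hg0 : Function.Surjective (Sheaf.H.map ((SheafOfModules.toSheaf X.ringCatSheaf).map g) 0))
    (c : ℤ) (d : ℕ) (hcd : (d : ℤ) ≤ c) :
    Van (IntLib.mk (kernel g) * (pcls π c * ((e ^ (d : ℤ) : (MCls X)ˣ) : MCls X))) 1 := by
  have hQ1 : Subsingleton (Coh.HH X Q 1) := by
    obtain ⟨u⟩ := hQ
    exact CurveLib.subsingleton_HH_iso u.symm 1 (subsingleton_HH_sigma _ fun _ => V.base 1 1 (by omega) (by omega) _ rfl)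
  have hS : (ShortComplex.mk (kernel.ι g) g (kernel.condition g)).ShortExact :=
    { exact := ShortComplex.exact_kernel g }
  have h0 : Van (IntLib.mk (kernel g)) 1 := Van.of _ rfl (subsingleton_one_of_H_surjective hS hQ1 hg0)
  have hJ : PicF.IsInvertible
      (ClSub.idealMod (BlowUp.exceptional π (Scheme.IdealSheafData.vanishingIdeal ⟨Set.range Z, hZ⟩))) :=
    (Groth.Agent.S8914.result _).2 hπ.1
  interval_cases s
  · have he1 : e = 1 := Units.ext (by
      have hI : Scheme.IdealSheafData.vanishingIdeal ⟨Set.range Z, hZ⟩ = ⊤ := by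
        refine Scheme.IdealSheafData.ext (funext fun U => ?_)
        show PrimeSpectrum.vanishingIdeal (U.2.fromSpec ⁻¹' Set.range Z) = ⊤
        rw [Set.range_eq_empty, Set.preimage_empty, PrimeSpectrum.vanishingIdeal_empty]
      rw [he, Units.val_one]
      show IntLib.mk (ClSub.idealMod ((Scheme.IdealSheafData.vanishingIdeal ⟨Set.range Z, hZ⟩).comap π)) = 1
      rw [hI, Scheme.IdealSheafData.comap_top, mk_idealMod_top])
    have h := van_kernel_up π g hQ hP hn V hJ he.symm 0 (by
      rw [Nat.cast_zero, pcls_zero, zpow_zero, Units.val_one, mul_one, mul_one]; exact h0) c (by omega)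
    rw [he1, one_zpow] at h ⊢
    exact h
  · have hE : (⟨Set.range Z, hZ⟩ : Closeds ↥(CohB1.ProjSpace n k)) = ⟨{Z 0}, hZc 0⟩ :=
      Closeds.ext Set.range_unique
    have hπ₁ : BlowUp.IsBlowUp π (Scheme.IdealSheafData.vanishingIdeal ⟨{Z 0}, hZc 0⟩) := hE ▸ hπ
    have hee : eUnit (Z 0) (hZc 0) π hπ₁ = e := Units.ext (by rw [eUnit_eq, he, hE])
    refine van_kernel_up π g hQ hP hn V hJ he.symm d ?_ c hcd
    have h := van_kernel_diag π g hQ hP (hZc 0) hπ₁ hn h0 d
    rwa [Mcl, hee] at h

end Groth.Agent.BlowExcLib
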