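import Groth.Agent.BlowExcLib.KoszulLeft

/-!
# The Koszul vanishing with the number of coordinates as a bound
-/

set_option autoImplicit false
set_option backward.isDefEq.respectTransparency false
set_option linter.style.haveILetI false
set_option maxHeartbeats 1000000

universe u

open CategoryTheory CategoryTheory.Limits AlgebraicGeometry CochainComplex

noncomputable section

namespace Groth.Agent.BlowExcLib

open Groth.Agent.CMRegLib

variable {X : Scheme.{u}} {ι : Type} [Fintype ι]

/-- Only as many degrees as coordinates enter. -/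
theorem koszul_vanish_bdd (T : ProjCoh.MulData X ι) (d : ℤ) (q : ℕ)
    (h : ∀ e : ℕ, e < Fintype.card ι → Subsingleton (Coh.HH X (T.F (d - (1 + e : ℕ))) (q + e))) :
    Subsingleton (Coh.HH X (T.F d) q) := by
  classical
  let S := stage T (Finset.univ : Finset ι).toList
  have hK := acyclic_stage T _ (fun i => Finset.mem_toList.2 (Finset.mem_univ i)) d
  have hlen : (Finset.univ : Finset ι).toList.length = Fintype.card ι := Finset.length_toList _
  have hz : ∀ j : ℤ, j < -(Fintype.card ι : ℕ) → IsZero ((S.K d).X j) := fun j hj =>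
    isZero_stage_lt T _ d j (by rw [hlen]; exact hj)
  have h0 := subsingleton_cycles (S.K d) hK hz (Fintype.card ι + 1) 0 (by omega) q fun e => by
    rcases lt_or_ge e (Fintype.card ι) with he | he
    · refine subsingleton_term S _ _ _ ?_
      have := h e he
      rwa [show d + -(((0 + 1 + e : ℕ)) : ℤ) = d - ((1 + e : ℕ) : ℤ) by push_cast; ring]
    · exact subsingleton_zero (hz _ (by omega)) _
  haveI := (S.K d).isIso_iCycles 0 1 (by simp) ((S.pos d 1 zero_lt_one).eq_of_tgt _ _)
  haveI := S.isoε d
  exact @ProjCoh.subsingleton_of_iso _ _ _ (asIso ((S.K d).iCycles 0) ≪≫ asIso (S.ε d)) q (by simpa using h0)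

/-- The Koszul surjectivity on global sections. -/
theorem koszul_surj_bdd (T : ProjCoh.MulData X ι) (d : ℤ)
    (h : ∀ e : ℕ, e + 1 < Fintype.card ι → Subsingleton (Coh.HH X (T.F (d - (2 + e : ℕ))) (1 + e)))
    (s : Γ(T.F d, ⊤)) : mulSum T d s := by
  classical
  let S := stage T (Finset.univ : Finset ι).toList
  have hK := acyclic_stage T _ (fun i => Finset.mem_toList.2 (Finset.mem_univ i)) d
  have hlen : (Finset.univ : Finset ι).toList.length = Fintype.card ι := Finset.length_toList _
  have hz : ∀ j : ℤ, j < -(Fintype.card ι : ℕ) → IsZero ((S.K d).X j) := fun j hj =>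
    isZero_stage_lt T _ d j (by rw [hlen]; exact hj)
  have h1 : Subsingleton (Coh.HH X ((S.K d).cycles (-1)) 1) := by
    simpa using subsingleton_cycles (S.K d) hK hz (Fintype.card ι + 1) 1 (by omega) 1 fun e => by
      rcases lt_or_ge (e + 1) (Fintype.card ι) with he | he
      · refine subsingleton_term S _ _ _ ?_
        have := h e he
        rwa [show d + -(((1 + 1 + e : ℕ)) : ℤ) = d - ((2 + e : ℕ) : ℤ) by push_cast; ring]
      · exact subsingleton_zero (hz _ (by omega)) _
  have hse := shortExact_cycles (S.K d) hK (-1) 0 (by norm_num)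
  haveI := (S.K d).isIso_iCycles 0 1 (by simp) ((S.pos d 1 zero_lt_one).eq_of_tgt _ _)
  haveI := S.isoε d
  obtain ⟨z, hz⟩ := @CohBase.sections_surjective _ _ _ (QCohLib.toAb_shortExact hse) ⊤
    (SerreAff.subsingleton_HU_top h1)
    ((inv (S.ε d) ≫ inv ((S.K d).iCycles 0)).app ⊤ s)
  have := img_stage T _ d z
  convert this using 2
  show s = (((S.K d).d (-1) 0) ≫ S.ε d).app ⊤ z
  rw [← (S.K d).toCycles_i (-1) 0]
  show s = (S.ε d).app ⊤ (((S.K d).iCycles 0).app ⊤ (((S.K d).toCycles (-1) 0).app ⊤ z))
  rw [show ((S.K d).toCycles (-1) 0).app ⊤ z = _ from hz]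
  exact (congr($(show (inv (S.ε d) ≫ inv ((S.K d).iCycles 0)) ≫ (S.K d).iCycles 0 ≫ S.ε d = 𝟙 _ by simp).app ⊤ s)).symm

/-- The vanishing from the left, with the bound. -/
theorem koszul_vanish_left_bdd (T : ProjCoh.MulData X ι) (d : ℤ) (q : ℕ)
    (h : ∀ e : ℕ, e ≤ q → e < Fintype.card ι → Subsingleton (Coh.HH X (T.F (d + 1 + e)) (q - e))) :
    Subsingleton (Coh.HH X (T.F d) q) := by
  classical
  let l := (Finset.univ : Finset ι).toList
  let L : ℤ := (l.length : ℤ)
  have hlen : L = (Fintype.card ι : ℤ) := congrArg Nat.cast (Finset.length_toList _)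
  let S := stage T l
  let K := S.K (d + L)
  have hK : K.Acyclic := acyclic_stage T l (fun i => Finset.mem_toList.2 (Finset.mem_univ i)) _
  have hz : ∀ j : ℤ, j < -L → IsZero (K.X j) := fun j hj => isZero_stage_lt T l _ j hj
  have h1 : Subsingleton (Coh.HH X (K.cycles (-L + 1)) q) := subsingleton_cycles_left K hK q _ fun e he => by
    rcases lt_or_ge e (Fintype.card ι) with hb | hb
    · refine subsingleton_term S _ _ _ ?_
      have := h e he hb
      rwa [show d + L + (-L + 1 + e) = d + 1 + e by ring]
    · exact subsingleton_zero (S.pos _ _ (by omega)) _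
  have hS := shortExact_cycles K hK (-L) (-L + 1) rfl
  have h0 : IsZero (K.cycles (-L)) := by
    have := shortExact_cycles K hK (-L - 1) (-L) (by ring)
    haveI : Epi (K.toCycles (-L - 1) (-L)) := this.epi_g
    exact IsZero.of_epi (K.toCycles (-L - 1) (-L)) (hz _ (by omega))
  have h2 : Subsingleton (Coh.HH X (K.X (-L)) q) := SerreAff.subsingleton_mid hS q (subsingleton_zero h0 q) h1
  obtain ⟨e⟩ := nonempty_stage_first T l (d + L) (-L) rfl
  exact CurveLib.subsingleton_HH_iso (e ≪≫ eqToIso (congrArg T.F (show d + L + -L = d by ring))) q h2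

end Groth.Agent.BlowExcLib
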