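import Groth.Agent.BlowExcLib.Points
import Groth.Agent.AffStratLib.Vanish
import Groth.Agent.CastLib.InterFibreClass
import Groth.Agent.BlowProdLib.Basic
import Groth.Agent.ParaFLib.Gen

/-!
# The blow-up in finitely many points: exceptional divisors and twists
-/

set_option autoImplicit false
set_option backward.isDefEq.respectTransparency false
set_option linter.style.haveILetI false
set_option maxHeartbeats 1000000

universe u

open CategoryTheory CategoryTheory.Limits AlgebraicGeometry TopologicalSpace Opposite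
open Groth.Agent.PullbackMod Groth.Agent.DCohLib Groth.Agent.AmpleLib Groth.Agent.IntLib Groth.Agent.BlowExistsLib

noncomputable section

namespace Groth.Agent.BlowExcLib

theorem mk_idealMod_top {X : Scheme.{u}} : IntLib.mk (ClSub.idealMod (⊤ : X.IdealSheafData)) = 1 :=
  (mk_congr idealMod_top_iso.some).trans mk_structureModule

/-- Invertible modules on one point are trivial. -/
theorem mk_eq_one_of_subsingleton {S : Scheme.{u}} [Subsingleton S] {L : S.Modules} (hL : PicF.IsInvertible L) :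
    IntLib.mk L = 1 := by
  rcases isEmpty_or_nonempty S with hS | ⟨⟨x⟩⟩
  · haveI := hS
    have h : ∀ M : S.Modules, IsZero M := fun M => DCohLib.isZero_of_stalks fun x => isEmptyElim x
    exact (mk_congr ((h L).iso (h (Coh.structureModule S)))).trans mk_structureModule
  · obtain ⟨W, e, hxW, he⟩ := ParaFLib.exists_gen_nhd hL x
    obtain rfl : W = ⊤ := top_le_iff.1 fun y _ => Subsingleton.elim x y ▸ hxW
    obtain ⟨i⟩ := ParaFLib.nonempty_iso_of_gen he
    have hid : IntLib.mk L = IntLib.mk ((Scheme.Modules.pullback S.topIso.inv).obj (L.restrict (⊤ : S.Opens).ι)) :=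
      mk_congr ((Scheme.Modules.pullbackId S).symm.app L ≪≫
        (Scheme.Modules.pullbackCongr (show 𝟙 S = S.topIso.inv ≫ (⊤ : S.Opens).ι by
          rw [← Scheme.topIso_hom, Iso.inv_hom_id])).app L ≪≫
        ((Scheme.Modules.pullbackComp S.topIso.inv (⊤ : S.Opens).ι).app L).symm ≪≫
        (Scheme.Modules.pullback S.topIso.inv).mapIso (restrictIso _ L).symm)
    rw [hid, mk_pullback_congr _ (mk_congr i), mk_pullback_one]

theorem subsingleton_HH_zero_of_mono {X : Scheme.{u}} {A B : X.Modules} (f : A ⟶ B) [Mono f]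
    (h : Subsingleton (Coh.HH X B 0)) : Subsingleton (Coh.HH X A 0) := by
  refine subsingleton_of_forall_eq 0 fun z => ?_
  haveI : Mono ((QCohLib.toAbF X).map f) := by
    have := (QCohLib.toAb_shortExact (DevLib.cokerSeq_shortExact f)).mono_f
    exact this
  obtain ⟨g, rfl⟩ := (Abelian.Ext.mk₀_bijective _ _).2 z
  have h0 : Sheaf.H.map ((QCohLib.toAbF X).map f) 0 (Abelian.Ext.mk₀ g) = 0 := @Subsingleton.elim _ h _ _
  have h1 : Abelian.Ext.mk₀ (g ≫ (QCohLib.toAbF X).map f) = 0 := by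
    rw [← Abelian.Ext.mk₀_comp_mk₀]
    exact h0
  have h2 : g ≫ (QCohLib.toAbF X).map f = 0 :=
    (Abelian.Ext.mk₀_bijective _ _).1 (h1.trans (Abelian.Ext.mk₀_zero _ _).symm)
  rw [(cancel_mono ((QCohLib.toAbF X).map f)).1 (h2.trans zero_comp.symm), Abelian.Ext.mk₀_zero]

section Points

variable {Y X : Scheme.{u}} [IsLocallyNoetherian Y] {s : ℕ} (P : Fin s → ↥Y) (hP : Function.Injective P)
  (hPc : ∀ t, IsClosed ({P t} : Set Y)) (hZ : IsClosed (Set.range P))
  (hreg : ∀ t, IsRegularLocalRing (Y.presheaf.stalk (P t))) {n : ℕ}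
  (hd : ∀ t, ringKrullDim (Y.presheaf.stalk (P t)) = n) (π : X ⟶ Y)
  (hπ : BlowUp.IsBlowUp π (Scheme.IdealSheafData.vanishingIdeal ⟨Set.range P, hZ⟩))

/-- The ideal of the exceptional divisor over one point. -/
abbrev excIdeal (t : Fin s) : X.IdealSheafData :=
  (Scheme.IdealSheafData.vanishingIdeal ⟨{P t}, hPc t⟩).comap π

theorem subsingleton_point (t : Fin s) :
    Subsingleton ↥(Scheme.IdealSheafData.vanishingIdeal ⟨{P t}, hPc t⟩).subscheme := by
  let I := Scheme.IdealSheafData.vanishingIdeal (⟨{P t}, hPc t⟩ : Closeds Y)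
  have hsub : ∀ z, I.subschemeι z = P t := fun z => by
    have h := I.range_subschemeι.le ⟨z, rfl⟩
    by_contra hne
    obtain ⟨_, ⟨U : Y.Opens, hU, rfl⟩, hzU, hUW⟩ := Y.isBasis_affineOpens.exists_subset_of_mem_open
      (a := I.subschemeι z) (u := ({P t} : Set Y)ᶜ) hne (hPc t).isOpen_compl
    have h2 := (Scheme.IdealSheafData.mem_support_iff_of_mem (U := ⟨U, hU⟩) hzU).1 h
    rw [Scheme.mem_zeroLocus_iff] at h2
    have hpre : hU.fromSpec ⁻¹' ({P t} : Set Y) = ∅ :=
      Set.eq_empty_iff_forall_notMem.2 fun p hp => hUW (hU.range_fromSpec.le ⟨p, rfl⟩) hp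
    refine h2 1 ?_ (by rw [Scheme.basicOpen_of_isUnit _ isUnit_one]; exact hzU)
    show (1 : Γ(Y, U)) ∈ PrimeSpectrum.vanishingIdeal (hU.fromSpec ⁻¹' ({P t} : Set Y))
    rw [hpre, PrimeSpectrum.vanishingIdeal_empty]
    trivial
  exact ⟨fun a b => I.subschemeι.isClosedEmbedding.injective ((hsub a).trans (hsub b).symm)⟩

include hZ in
theorem comap_range_eq_of_avoid (t : Fin s) (U : Y.Opens) (hU : ∀ t', P t' ∈ U → P t' = P t) :
    (Scheme.IdealSheafData.vanishingIdeal ⟨Set.range P, hZ⟩).comap U.ι =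
      (Scheme.IdealSheafData.vanishingIdeal ⟨{P t}, hPc t⟩).comap U.ι := by
  refine Scheme.IdealSheafData.ext (funext fun W => ?_)
  have hW : IsAffineOpen (U.ι ''ᵁ W.1) := W.2.image_of_isOpenImmersion _
  have e : W.1 ≤ U.ι ⁻¹ᵁ (U.ι ''ᵁ W.1) := (U.ι.preimage_image_eq W.1).ge
  rw [IdealStalkLib.comap_ideal _ U.ι hW W.2 e, IdealStalkLib.comap_ideal _ U.ι hW W.2 e]
  congr 1
  show PrimeSpectrum.vanishingIdeal (hW.fromSpec ⁻¹' Set.range P) = PrimeSpectrum.vanishingIdeal (hW.fromSpec ⁻¹' {P t})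
  congr 1
  ext p
  refine ⟨fun ⟨t', ht'⟩ => ?_, fun h => ⟨t, h.symm⟩⟩
  have hm : hW.fromSpec p ∈ U := by
    obtain ⟨w, -, hw⟩ := hW.range_fromSpec.le ⟨p, rfl⟩
    exact hw ▸ w.2
  show hW.fromSpec p = P t
  rw [← ht']
  exact hU t' (ht' ▸ hm)

theorem comap_single_eq_top (t : Fin s) (U : Y.Opens) (hU : P t ∉ U) :
    (Scheme.IdealSheafData.vanishingIdeal ⟨{P t}, hPc t⟩).comap U.ι = ⊤ := by
  refine Scheme.IdealSheafData.ext (funext fun W => ?_)
  have hW : IsAffineOpen (U.ι ''ᵁ W.1) := W.2.image_of_isOpenImmersion _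
  rw [IdealStalkLib.comap_ideal _ U.ι hW W.2 (U.ι.preimage_image_eq W.1).ge]
  show Ideal.map _ (PrimeSpectrum.vanishingIdeal (hW.fromSpec ⁻¹' {P t})) = ⊤
  rw [show hW.fromSpec ⁻¹' {P t} = ∅ from Set.eq_empty_iff_forall_notMem.2 fun p (hp : hW.fromSpec p = P t) => hU (by
    obtain ⟨w, -, hw⟩ := hW.range_fromSpec.le ⟨p, rfl⟩
    exact hp ▸ hw ▸ w.2), PrimeSpectrum.vanishingIdeal_empty, Ideal.map_top]

include hP hPc hZ in
/-- An open around one of the points avoiding the others. -/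
theorem exists_avoid (t : Fin s) : ∃ U : Y.Opens, P t ∈ U ∧ IsAffineOpen U ∧ ∀ t', P t' ∈ U → P t' = P t := by
  have hC : IsClosed (⋃ t' ∈ {t' : Fin s | t' ≠ t}, ({P t'} : Set Y)) :=
    (Set.toFinite _).isClosed_biUnion fun t' _ => hPc t'
  have hmem : P t ∈ (⋃ t' ∈ {t' : Fin s | t' ≠ t}, ({P t'} : Set Y))ᶜ := by
    intro h
    simp only [Set.mem_iUnion, Set.mem_singleton_iff] at h
    obtain ⟨t', ht', e⟩ := h
    exact ht' (hP e.symm)
  obtain ⟨_, ⟨U : Y.Opens, hU, rfl⟩, htU, hUW⟩ :=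
    Y.isBasis_affineOpens.exists_subset_of_mem_open hmem hC.isOpen_compl
  refine ⟨U, htU, hU, fun t' ht' => ?_⟩
  by_contra hne
  refine hUW ht' ?_
  simp only [Set.mem_iUnion, Set.mem_singleton_iff]
  exact ⟨t', fun e => hne (congrArg P e), rfl⟩

include hP hπ in
theorem isEffCartier_excIdeal (t : Fin s) : BlowUp.IsEffCartierIdeal (excIdeal P hPc π t) := by
  obtain ⟨U, htU, -, hU⟩ := exists_avoid P hP hPc hZ t
  refine BlowProdLib.isEffCartier_of_local _ fun x => ?_
  by_cases hx : π x ∈ U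
  · refine ⟨_, (π ⁻¹ᵁ U).ι, inferInstance, ⟨x, hx⟩, rfl, ?_⟩
    rw [comap_restrict, ← comap_range_eq_of_avoid P hPc hZ t U hU]
    exact (RGBlowLib.Union.isBlowUp_restrict hπ U).1
  · let O : Y.Opens := ⟨({P t} : Set Y)ᶜ, (hPc t).isOpen_compl⟩
    refine ⟨_, (π ⁻¹ᵁ O).ι, inferInstance, ⟨x, fun h => hx (show π x ∈ U from h ▸ htU)⟩, rfl, ?_⟩
    rw [comap_restrict, comap_single_eq_top P hPc t O (fun h => h rfl), Scheme.IdealSheafData.comap_top]
    exact BlowCompLib.isEffCartier_top

include hP hπ hreg hd in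
/-- The exceptional divisor over a point is a projective space, with conormal bundle `O(1)`. -/
theorem exists_exc_point (t : Fin s) {m : ℕ} (hm : n = m + 1) :
    ∃ (R : Type u) (_ : CommRing R) (r : (excIdeal P hPc π t).subscheme ⟶ CohB1.ProjSpace m R) (_ : IsIso r),
      Nonempty ((Scheme.Modules.pullback r).obj (Twist.twistProjSpace m R 1) ≅
        (Scheme.Modules.pullback (excIdeal P hPc π t).subschemeι).obj (ClSub.idealMod (excIdeal P hPc π t))) := by
  subst hm
  obtain ⟨U₀, htU₀, hU₀, hU⟩ := exists_avoid P hP hPc hZ t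
  obtain ⟨g, f, hg, hf, hspan⟩ := exists_point_params hU₀ htU₀ (hPc t) (hreg t) (m + 1) (hd t)
  let V := Y.basicOpen g
  have hV : ∀ t', P t' ∈ V → P t' = P t := fun t' h => hU t' (Y.basicOpen_le g h)
  have hI : (Scheme.IdealSheafData.vanishingIdeal ⟨{P t}, hPc t⟩).ideal ⟨V, hU₀.basicOpen g⟩ = Ideal.span (Set.range f) := by
    refine ((Scheme.IdealSheafData.vanishingIdeal ⟨{P t}, hPc t⟩).map_ideal_basicOpen ⟨U₀, hU₀⟩ g).symm.trans
      (Eq.trans ?_ hspan.symm)
    congr 1
    have hpre : hU₀.fromSpec ⁻¹' ({P t} : Set Y) = {hU₀.primeIdealOf ⟨P t, htU₀⟩} := by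
      ext p
      refine ⟨fun h => hU₀.fromSpec.isOpenEmbedding.injective ((show hU₀.fromSpec p = P t from h).trans
        (hU₀.fromSpec_primeIdealOf ⟨P t, htU₀⟩).symm), ?_⟩
      rintro rfl
      exact hU₀.fromSpec_primeIdealOf ⟨P t, htU₀⟩
    show PrimeSpectrum.vanishingIdeal (hU₀.fromSpec ⁻¹' ({P t} : Set Y)) = _
    rw [hpre, PrimeSpectrum.vanishingIdeal_singleton]
  obtain ⟨hVa, m', f', -, hf', hI'⟩ := exists_local_data (r := m) (V := V)
    (𝓘 := Scheme.IdealSheafData.vanishingIdeal ⟨{P t}, hPc t⟩) ⟨hU₀.basicOpen g, m, f, le_rfl, hf, hI⟩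
  clear hI' hf' f' m'
  haveI := hVa
  haveI := isNoetherian_toScheme (Y := Y) (hU₀.basicOpen g)
  let I' := (Scheme.IdealSheafData.vanishingIdeal ⟨{P t}, hPc t⟩).comap V.ι
  have hb : BlowUp.IsBlowUp (π ∣_ V) I' := by
    have := RGBlowLib.Union.isBlowUp_restrict hπ V
    rwa [comap_range_eq_of_avoid P hPc hZ t V hV] at this
  have e₀ : (⊤ : V.toScheme.Opens) ≤ V.ι ⁻¹ᵁ V := fun x _ => x.2
  have hbij : Function.Bijective (V.ι.appLE V ⊤ e₀) := by
    haveI : IsIso (V.ι.app V) := V.ι.isIso_app V (Scheme.Opens.opensRange_ι V).ge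
    haveI : IsIso (homOfLE e₀) := ⟨homOfLE le_top, Subsingleton.elim _ _, Subsingleton.elim _ _⟩
    rw [Scheme.Hom.appLE]
    exact ConcreteCategory.bijective_of_isIso _
  have hI' : I'.ideal topU = Ideal.span (Set.range fun i => V.ι.appLE V ⊤ e₀ (f i)) := by
    rw [IdealStalkLib.comap_ideal _ V.ι (hU₀.basicOpen g) (isAffineOpen_top _) e₀, hI, Ideal.map_span, ← Set.range_comp]
    rfl
  haveI := quasiCompact_of_FG hb (isFiniteTypeIdeal I')
  obtain ⟨r', hr', -, ⟨τ⟩⟩ := exists_exceptional_iso I' (π ∣_ V) hb _ hI' (isQuasiRegular_equiv _ hbij hf)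
  haveI := hr'
  let J := excIdeal P hPc π t
  let j := J.subschemeι
  let W := π ⁻¹ᵁ V
  haveI : IsClosedImmersion (j ∣_ W) := IsZariskiLocalAtTarget.restrict (inferInstanceAs (IsClosedImmersion J.subschemeι)) W
  have hker : (j ∣_ W).ker = I'.comap (π ∣_ V) := by
    rw [ker_restrict, Scheme.IdealSheafData.ker_subschemeι]
    exact comap_restrict V
  have hex : ∃ e : (I'.comap (π ∣_ V)).subscheme ⟶ (j ⁻¹ᵁ W).toScheme,
      IsIso e ∧ e ≫ (j ∣_ W) = (I'.comap (π ∣_ V)).subschemeι := by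
    rw [← hker]; exact CanonFac.exists_part (j ∣_ W)
  obtain ⟨e, he, hej⟩ := hex
  have htop : j ⁻¹ᵁ W = ⊤ := top_le_iff.1 fun z _ => by
    show π (j z) ∈ V
    let q := Scheme.IdealSheafData.subschemeMap J (Scheme.IdealSheafData.vanishingIdeal ⟨{P t}, hPc t⟩) π
      (Scheme.IdealSheafData.le_map_iff_comap_le.2 le_rfl)
    have hq : π (j z) = (Scheme.IdealSheafData.vanishingIdeal ⟨{P t}, hPc t⟩).subschemeι (q z) := by
      rw [← Scheme.Hom.comp_apply, ← Scheme.Hom.comp_apply, Scheme.IdealSheafData.subschemeMap_subschemeι]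
    rw [hq]
    haveI := subsingleton_point P hPc t
    obtain ⟨w, hw⟩ : ∃ w, (Scheme.IdealSheafData.vanishingIdeal ⟨{P t}, hPc t⟩).subschemeι w = P t := by
      have h : P t ∈ (Scheme.IdealSheafData.vanishingIdeal ⟨{P t}, hPc t⟩).support :=
        Scheme.IdealSheafData.le_support_iff_le_vanishingIdeal.2 le_rfl (Set.mem_singleton (P t))
      exact (Scheme.IdealSheafData.range_subschemeι _).ge h
    rw [Subsingleton.elim (q z) w, hw]
    exact hg
  haveI : IsIso (j ⁻¹ᵁ W).ι := by
    rw [htop, ← Scheme.topIso_hom]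
    infer_instance
  haveI := he
  let φ : (I'.comap (π ∣_ V)).subscheme ⟶ J.subscheme := e ≫ (j ⁻¹ᵁ W).ι
  haveI : IsIso φ := inferInstanceAs (IsIso (e ≫ (j ⁻¹ᵁ W).ι))
  have hφ : φ ≫ j = (I'.comap (π ∣_ V)).subschemeι ≫ W.ι := by
    show (e ≫ (j ⁻¹ᵁ W).ι) ≫ j = _
    rw [Category.assoc, ← morphismRestrict_ι, ← Category.assoc, hej]
  obtain ⟨c⟩ := JacLib.nonempty_iso_pullback_idealMod W.ι J (isEffCartier_excIdeal P hP hPc hZ π hπ t)
    (by rw [comap_restrict]; exact hb.1)
  refine ⟨CR I', inferInstance, inv φ ≫ r', inferInstance, ⟨?_⟩⟩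
  exact ((Scheme.Modules.pullbackComp (inv φ) r').app _).symm ≪≫
    (Scheme.Modules.pullback (inv φ)).mapIso (τ ≪≫
      (Scheme.Modules.pullback _).mapIso (eqToIso (congrArg ClSub.idealMod (comap_restrict V).symm) ≪≫ c.symm) ≪≫
      (Scheme.Modules.pullbackComp _ W.ι).app _ ≪≫ (Scheme.Modules.pullbackCongr hφ.symm).app _ ≪≫
      ((Scheme.Modules.pullbackComp φ j).app _).symm) ≪≫
    (Scheme.Modules.pullbackComp (inv φ) φ).app _ ≪≫ (Scheme.Modules.pullbackCongr (IsIso.inv_hom_id φ)).app _ ≪≫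
    (Scheme.Modules.pullbackId _).app _

include hP hπ in
/-- The other exceptional ideals are trivial on the divisor over a point. -/
theorem mk_pullback_excIdeal_of_ne (t t' : Fin s) (h : t' ≠ t) :
    IntLib.mk ((Scheme.Modules.pullback (excIdeal P hPc π t).subschemeι).obj (ClSub.idealMod (excIdeal P hPc π t'))) = 1 := by
  let j := (excIdeal P hPc π t).subschemeι
  let q := Scheme.IdealSheafData.subschemeMap (excIdeal P hPc π t) (Scheme.IdealSheafData.vanishingIdeal ⟨{P t}, hPc t⟩) π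
    (Scheme.IdealSheafData.le_map_iff_comap_le.2 le_rfl)
  have hq : q ≫ (Scheme.IdealSheafData.vanishingIdeal ⟨{P t}, hPc t⟩).subschemeι = j ≫ π :=
    Scheme.IdealSheafData.subschemeMap_subschemeι _ _ _ _
  let O : Y.Opens := ⟨({P t'} : Set Y)ᶜ, (hPc t').isOpen_compl⟩
  have hO : Set.range (j ≫ π) ⊆ Set.range O.ι := by
    rintro _ ⟨z, rfl⟩
    rw [Scheme.Opens.range_ι, ← hq, Scheme.Hom.comp_apply]
    show _ ≠ P t'
    intro hz
    have h1 : P t ∈ (Scheme.IdealSheafData.vanishingIdeal ⟨{P t}, hPc t⟩).support :=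
      Scheme.IdealSheafData.le_support_iff_le_vanishingIdeal.2 le_rfl (Set.mem_singleton (P t))
    obtain ⟨w, hw⟩ := (Scheme.IdealSheafData.range_subschemeι _).ge h1
    haveI := subsingleton_point P hPc t
    rw [Subsingleton.elim (q z) w, hw] at hz
    exact h (hP hz).symm
  let l := IsOpenImmersion.lift O.ι (j ≫ π) hO
  have h0 : (excIdeal P hPc π t').comap j = ⊤ := by
    show (Scheme.IdealSheafData.comap _ π).comap j = ⊤
    rw [← Scheme.IdealSheafData.comap_comp, ← IsOpenImmersion.lift_fac O.ι (j ≫ π) hO,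
      Scheme.IdealSheafData.comap_comp, comap_single_eq_top P hPc t' O (fun h => h rfl), Scheme.IdealSheafData.comap_top]
  obtain ⟨c⟩ := JacLib.nonempty_iso_pullback_idealMod j (excIdeal P hPc π t') (isEffCartier_excIdeal P hP hPc hZ π hπ t')
    (by rw [h0]; exact BlowCompLib.isEffCartier_top)
  rw [mk_congr c, h0, mk_idealMod_top]

/-- Line bundles from the base are trivial on the divisor over a point. -/
theorem mk_pullback_base (t : Fin s) {N : Y.Modules} (hN : PicF.IsInvertible N) :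
    IntLib.mk ((Scheme.Modules.pullback (excIdeal P hPc π t).subschemeι).obj ((Scheme.Modules.pullback π).obj N)) = 1 := by
  let q := Scheme.IdealSheafData.subschemeMap (excIdeal P hPc π t) (Scheme.IdealSheafData.vanishingIdeal ⟨{P t}, hPc t⟩) π
    (Scheme.IdealSheafData.le_map_iff_comap_le.2 le_rfl)
  have hq : q ≫ (Scheme.IdealSheafData.vanishingIdeal ⟨{P t}, hPc t⟩).subschemeι = (excIdeal P hPc π t).subschemeι ≫ π :=
    Scheme.IdealSheafData.subschemeMap_subschemeι _ _ _ _
  haveI := subsingleton_point P hPc t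
  refine ((mk_congr ((Scheme.Modules.pullbackComp _ π).app N ≪≫ (Scheme.Modules.pullbackCongr hq.symm).app N ≪≫
    ((Scheme.Modules.pullbackComp q _).app N).symm)).trans ?_)
  rw [Functor.comp_obj, mk_pullback_congr q ((mk_eq_one_of_subsingleton
    (isInvertible_pullback (Scheme.IdealSheafData.vanishingIdeal ⟨{P t}, hPc t⟩).subschemeι hN)).trans mk_structureModule.symm),
    mk_pullback_one]

/-- The twist `π^*N ⊗ ∏ I_t^{d_t}` as a class. -/
def twistCls (N : Y.Modules) (d : Fin s → ℕ) : MCls X :=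
  IntLib.mk ((Scheme.Modules.pullback π).obj N) * ∏ t, IntLib.mk (ClSub.idealMod (excIdeal P hPc π t)) ^ d t

theorem twistCls_eq (N : Y.Modules) (d : Fin s → ℕ) :
    IntLib.mk (CohB1.tensorMod ((Scheme.Modules.pullback π).obj N)
      (FGA.multiTwist (fun t : Fin s => ClSub.idealMod (excIdeal P hPc π t)) d)) = twistCls P hPc π N d := by
  rw [mk_tensor, CastLib.mk_multiTwist]
  rfl

include hP hπ hreg hd in
/-- Raising the multiplicity at one point. -/
theorem exists_step [IsNoetherian X] {N : Y.Modules} (hN : PicF.IsInvertible N) (d : Fin s → ℕ) (t : Fin s) (hn : 1 ≤ n) :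
    ∃ S : ShortComplex X.Modules, S.ShortExact ∧ IntLib.mk S.X₁ = twistCls P hPc π N (d + Pi.single t 1) ∧
      IntLib.mk S.X₂ = twistCls P hPc π N d ∧ ∀ q : ℕ, 1 ≤ q → Subsingleton (Coh.HH X S.X₃ q) := by
  let J := excIdeal P hPc π t
  have hE := isEffCartier_excIdeal P hP hPc hZ π hπ
  let M := CohB1.tensorMod ((Scheme.Modules.pullback π).obj N) (FGA.multiTwist (fun t : Fin s => ClSub.idealMod (excIdeal P hPc π t)) d)
  have hM : IntLib.mk M = twistCls P hPc π N d := twistCls_eq P hPc π N d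
  have hMi : PicF.IsInvertible M := by
    refine isInvertible_tensor (isInvertible_pullback π hN) ?_
    rw [FGA.multiTwist]
    generalize List.finRange s = l
    induction l with
    | nil => exact ParaFLib.isInvertible_structureModule
    | cons a l ih => exact isInvertible_tensor (isInvertible_tensorPow ((Groth.Agent.S8914.result _).2 (hE a)) (d a)) ih
  obtain ⟨S, hS, e1, ⟨e2⟩, ⟨e3⟩, -⟩ := RatSingLib.exists_seq J.subschemeι hMi
  refine ⟨S, hS, ?_, (mk_congr e2).trans hM, fun q hq => ?_⟩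
  · rw [e1, Scheme.IdealSheafData.ker_subschemeι, mk_tensor, hM, twistCls, twistCls]
    simp only [Pi.add_apply, pow_add, Finset.prod_mul_distrib]
    rw [show ∏ x, IntLib.mk (ClSub.idealMod (excIdeal P hPc π x)) ^ (Pi.single t 1 : Fin s → ℕ) x =
      IntLib.mk (ClSub.idealMod J) from by rw [Finset.prod_eq_single t (fun x _ hx => by rw [Pi.single_eq_of_ne hx, pow_zero])
        (fun h => absurd (Finset.mem_univ t) h), Pi.single_eq_same, pow_one]]
    exact (mul_comm _ _).trans (mul_assoc _ _ _)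
  · obtain ⟨R, hR, r, hr, ⟨τ⟩⟩ := exists_exc_point P hP hPc hZ hreg hd π hπ t (m := n - 1) (by omega)
    haveI := hr
    haveI : Coh.IsQCoh ((Scheme.Modules.pullback J.subschemeι).obj M) :=
      InvExt.isQCoh_of_isInvertible (isInvertible_pullback _ hMi)
    obtain ⟨E⟩ := SuppHHLib.nonempty_HH_push J.subschemeι ((Scheme.Modules.pullback J.subschemeι).obj M) q
    refine CurveLib.subsingleton_HH_iso e3.symm q ?_
    haveI : Subsingleton (Coh.HH J.subscheme ((Scheme.Modules.pullback J.subschemeι).obj M) q) := by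
      haveI := isQCoh_twistProjSpace (n - 1) R (d t : ℤ)
      refine CurveLib.subsingleton_HH_iso (mk_eq_mk.1 ?_).some q
        (CanonFac.subsingleton_HH_pullback r (Twist.twistProjSpace (n - 1) R (d t : ℤ)) q (ProjTwist.subsingleton_HH (n - 1) R (d t : ℤ) q (by omega) (by omega)))
      symm
      rw [mk_pullback_congr _ ((mk_congr (Iso.refl M)).trans hM |>.trans (show twistCls P hPc π N d =
        IntLib.mk (CohB1.tensorMod ((Scheme.Modules.pullback π).obj N)
          (FGA.multiTwist (fun t : Fin s => ClSub.idealMod (excIdeal P hPc π t)) d)) from hM.symm)),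
        mk_pullback_tensor, mk_pullback_base P hPc π t hN, one_mul]
      have hprod : ∀ l : List (Fin s), IntLib.mk ((Scheme.Modules.pullback J.subschemeι).obj
          (FGA.tensorList (l.map fun i => CohB1.tensorPow (ClSub.idealMod (excIdeal P hPc π i)) (d i)))) =
          (l.map fun i => IntLib.mk ((Scheme.Modules.pullback J.subschemeι).obj (ClSub.idealMod (excIdeal P hPc π i))) ^ d i).prod := by
        intro l
        induction l with
        | nil => exact mk_pullback_one _
        | cons a l ih =>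
          rw [List.map_cons, List.map_cons, List.prod_cons, ← ih, ← mk_pullback_pow]
          exact mk_pullback_tensor _ _ _
      rw [FGA.multiTwist, hprod, ← Fin.prod_univ_def, Finset.prod_eq_single t
        (fun x _ hx => by rw [mk_pullback_excIdeal_of_ne P hP hPc hZ π hπ t x hx, one_pow])
        (fun h => absurd (Finset.mem_univ t) h), ← mk_congr τ, ← mk_pullback_pow]
      exact mk_pullback_congr r ((mk_tensorPow _ _).trans (mk_twist_pow (n - 1) R (d t)))
    exact E.symm.toEquiv.subsingleton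

include hP hπ hreg hd in
/-- Induction on the multiplicities. -/
theorem twist_induction [IsNoetherian X] {N : Y.Modules} (hN : PicF.IsInvertible N) (hn : 1 ≤ n) (Q : X.Modules → Prop)
    (hiso : ∀ {A B : X.Modules}, (A ≅ B) → Q A → Q B)
    (h0 : Q ((Scheme.Modules.pullback π).obj N))
    (hstep : ∀ S : ShortComplex X.Modules, S.ShortExact → (∀ q : ℕ, 1 ≤ q → Subsingleton (Coh.HH X S.X₃ q)) → Q S.X₂ → Q S.X₁)
    (d : Fin s → ℕ) {M : X.Modules} (hM : IntLib.mk M = twistCls P hPc π N d) : Q M := by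
  suffices key : ∀ (D : ℕ) (d : Fin s → ℕ), ∑ t, d t = D → ∀ M : X.Modules, IntLib.mk M = twistCls P hPc π N d → Q M from
    key _ d rfl M hM
  intro D
  induction D with
  | zero =>
    intro d hd0 M hM
    have : ∀ t, d t = 0 := fun t => Finset.sum_eq_zero_iff.1 hd0 t (Finset.mem_univ t)
    rw [twistCls] at hM
    simp only [this, pow_zero, Finset.prod_const_one, mul_one] at hM
    exact hiso (mk_eq_mk.1 hM).some.symm h0
  | succ D ih =>
    intro d hdD M hM
    obtain ⟨t, ht⟩ : ∃ t, d t ≠ 0 := by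
      by_contra h
      push Not at h
      simp [h] at hdD
    let d' : Fin s → ℕ := Function.update d t (d t - 1)
    have hdd : d = d' + Pi.single t 1 := funext fun x => by
      rcases eq_or_ne x t with rfl | hx
      · simp [d']; omega
      · simp [d', hx]
    have hsum : ∑ x, d' x = D := by
      rw [hdd] at hdD
      simp only [Pi.add_apply, Finset.sum_add_distrib] at hdD
      rw [Finset.sum_pi_single'] at hdD
      simp only [Finset.mem_univ, if_true] at hdD
      omega
    obtain ⟨S, hS, h1, h2, h3⟩ := exists_step P hP hPc hZ hreg hd π hπ hN d' t hn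
    rw [← hdd] at h1
    exact hiso (mk_eq_mk.1 (h1.trans hM.symm)).some (hstep S hS h3 (ih d' hsum S.X₂ h2))

end Points

end Groth.Agent.BlowExcLib
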