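import Groth.Agent.CMRegLib.Koszul
import Groth.Agent.AffStratLib.Vanish
import Groth.Agent.BlowExcLib.PointTwist

/-!
# Vanishing read from the left end of the Koszul sequence
-/

set_option autoImplicit false
set_option backward.isDefEq.respectTransparency false
set_option linter.style.haveILetI false
set_option maxHeartbeats 1000000

universe u

open CategoryTheory CategoryTheory.Limits AlgebraicGeometry CochainComplex

noncomputable section

namespace Groth.Agent.BlowExcLib

open Groth.Agent.CMRegLib

variable {X : Scheme.{u}} {ι : Type}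

theorem isZero_stage_lt (T : ProjCoh.MulData X ι) :
    ∀ (l : List ι) (d j : ℤ), j < -(l.length : ℤ) → IsZero (((stage T l).K d).X j)
  | [], d, j, hj => HomologicalComplex.isZero_single_obj_X _ _ _ _ (by simp at hj; omega)
  | a :: l, d, j, hj => IsZero.of_iso (biprod_isZero_iff _ _ |>.2
      ⟨isZero_stage_lt T l _ _ (by simp only [List.length_cons] at hj; push_cast at hj ⊢; omega),
        isZero_stage_lt T l _ _ (by simp only [List.length_cons] at hj; push_cast at hj ⊢; omega)⟩) (coneXIso _ j)

theorem nonempty_stage_first (T : ProjCoh.MulData X ι) :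
    ∀ (l : List ι) (d j : ℤ), j = -(l.length : ℤ) → Nonempty (((stage T l).K d).X j ≅ T.F (d + j))
  | [], d, j, hj => by
      obtain rfl : j = 0 := by simpa using hj
      exact ⟨HomologicalComplex.singleObjXSelf (ComplexShape.up ℤ) 0 (T.F d) ≪≫ eqToIso (by rw [add_zero])⟩
  | a :: l, d, j, hj => by
      simp only [List.length_cons] at hj
      push_cast at hj
      obtain ⟨e⟩ := nonempty_stage_first T l (d - 1) (j + 1) (by omega)
      have hz := isZero_stage_lt T l d j (by omega)
      let b : ((stage T l).K (d - 1)).X (j + 1) ⊞ ((stage T l).K d).X j ≅ ((stage T l).K (d - 1)).X (j + 1) :=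
        { hom := biprod.fst
          inv := biprod.inl
          hom_inv_id := biprod.hom_ext' _ _ (by simp) (hz.eq_of_src _ _)
          inv_hom_id := biprod.inl_fst }
      exact ⟨coneXIso _ j ≪≫ b ≪≫ e ≪≫ eqToIso (congrArg T.F (by omega))⟩

/-- Cohomology of cycles from the terms to their right. -/
theorem subsingleton_cycles_left (K : CochainComplex X.Modules ℤ) (hK : K.Acyclic) : ∀ (q : ℕ) (j : ℤ),
    (∀ e : ℕ, e ≤ q → Subsingleton (Coh.HH X (K.X (j + e)) (q - e))) → Subsingleton (Coh.HH X (K.cycles j) q)
  | 0, j, h => subsingleton_HH_zero_of_mono (K.iCycles j) (by simpa using h 0 le_rfl)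
  | q + 1, j, h => by
      refine AffStratLib.subsingleton_left (shortExact_cycles K hK j (j + 1) rfl) q
        (subsingleton_cycles_left K hK q (j + 1) fun e he => ?_) (by simpa using h 0 (Nat.zero_le _))
      have := h (e + 1) (by omega)
      rwa [show j + ((e + 1 : ℕ) : ℤ) = j + 1 + e by push_cast; ring, show q + 1 - (e + 1) = q - e by omega] at this

variable [Fintype ι]

/-- The Koszul vanishing, from the left. -/
theorem koszul_vanish_left (T : ProjCoh.MulData X ι) (d : ℤ) (q : ℕ)
    (h : ∀ e : ℕ, e ≤ q → Subsingleton (Coh.HH X (T.F (d + 1 + e)) (q - e))) :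
    Subsingleton (Coh.HH X (T.F d) q) := by
  classical
  let l := (Finset.univ : Finset ι).toList
  let L : ℤ := (l.length : ℤ)
  let K := (stage T l).K (d + L)
  have hK : K.Acyclic := acyclic_stage T l (fun i => Finset.mem_toList.2 (Finset.mem_univ i)) _
  have hz : ∀ j : ℤ, j < -L → IsZero (K.X j) := fun j hj => isZero_stage_lt T l _ j hj
  have h1 : Subsingleton (Coh.HH X (K.cycles (-L + 1)) q) := subsingleton_cycles_left K hK q _ fun e he => by
    refine subsingleton_term (stage T l) _ _ _ ?_
    have := h e he
    rwa [show d + L + (-L + 1 + e) = d + 1 + e by ring]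
  have hS := shortExact_cycles K hK (-L) (-L + 1) rfl
  have h0 : IsZero (K.cycles (-L)) := by
    have := shortExact_cycles K hK (-L - 1) (-L) (by ring)
    haveI : Epi (K.toCycles (-L - 1) (-L)) := this.epi_g
    exact IsZero.of_epi (K.toCycles (-L - 1) (-L)) (hz _ (by omega))
  have h2 : Subsingleton (Coh.HH X (K.X (-L)) q) := SerreAff.subsingleton_mid hS q (subsingleton_zero h0 q) h1
  obtain ⟨e⟩ := nonempty_stage_first T l (d + L) (-L) rfl
  exact CurveLib.subsingleton_HH_iso (e ≪≫ eqToIso (congrArg T.F (show d + L + -L = d by ring))) q h2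

end Groth.Agent.BlowExcLib
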