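import Groth.Agent.BlowExcLib.Push
import Groth.Agent.PBundleLib.Coev

/-!
# Higher direct images of inverse images of finite locally free modules
-/

set_option autoImplicit false
set_option backward.isDefEq.respectTransparency false
set_option linter.style.haveILetI false
set_option maxHeartbeats 1000000

universe u

open CategoryTheory CategoryTheory.Limits AlgebraicGeometry TopologicalSpace Opposite
open Groth.Agent.PullbackMod Groth.Agent.BlowExistsLib Groth.Agent.DCohLib Groth.Agent.AmpleLib Groth.Agent.CohBase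

noncomputable section

namespace Groth.Agent.BlowExcLib

theorem subsingleton_HH_sigma {X : Scheme.{u}} {b : ℕ} (f : Fin b → X.Modules) {i : ℕ}
    (h : ∀ j, Subsingleton (Coh.HH X (f j) i)) : Subsingleton (Coh.HH X (∐ f) i) := by
  classical
  refine subsingleton_of_forall_eq 0 fun z => ?_
  let p : ∀ j, (∐ f) ⟶ f j := fun j => Sigma.desc fun i => if e : i = j then eqToHom (congrArg f e) else 0
  have htot : ∑ j, p j ≫ Sigma.ι f j = 𝟙 _ := by
    refine Sigma.hom_ext _ _ fun i => ?_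
    simp [p, Preadditive.comp_sum, dite_comp, Finset.sum_dite_eq]
  let G : ((∐ f) ⟶ (∐ f)) →+ Coh.HH X (∐ f) i :=
    AddMonoidHom.mk' (fun g => Sheaf.H.map ((QCohLib.toAbF X).map g) i z) fun g g' => by
      rw [Functor.map_add]; exact Sheaf.H.map_add_apply _ _ z
  have h1 : G (𝟙 _) = z :=
    (congrArg (fun g => Sheaf.H.map g i z) ((QCohLib.toAbF X).map_id _)).trans (Sheaf.H.map_id_apply _)
  rw [← h1, ← htot, map_sum]
  refine Finset.sum_eq_zero fun j _ => ?_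
  show Sheaf.H.map ((QCohLib.toAbF X).map (p j ≫ Sigma.ι f j)) i z = 0
  rw [Functor.map_comp]
  refine (Sheaf.H.map_comp_apply _ _ z).trans ?_
  rw [@Subsingleton.elim (Coh.HH X (f j) i) (h j) (Sheaf.H.map ((QCohLib.toAbF X).map (p j)) i z) 0]
  exact map_zero _

variable {Y X : Scheme.{u}} {r : ℕ} [IsLocallyNoetherian Y] {𝓘 : Y.IdealSheafData} {σ : X ⟶ Y}

theorem isZero_rpushAb_locFree (hσ : BlowUp.IsBlowUp σ 𝓘) (hN : IsNiceCentre r 𝓘) {E : Y.Modules}
    (hE : FlatMod.IsFinLocFree E) (p : ℕ) (hp : 1 ≤ p) :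
    IsZero ((Coh.RpushAb σ p).obj (Coh.toAb ((Scheme.Modules.pullback σ).obj E))) := by
  haveI := isProper_blowUp hσ
  haveI : Coh.IsQCoh E := (PullbackMod.isQCoh_and_isFP_of_isFinLocFree E hE).1
  haveI : Coh.IsQCoh ((Scheme.Modules.pullback σ).obj E) := PullbackMod.isQCoh_pullback _ _
  obtain ⟨q, rfl⟩ : ∃ q, p = q + 1 := ⟨p - 1, by omega⟩
  refine RpushLib.isZero_rightDerived_at σ.base
    (B := fun V : Y.Opens => IsNice r 𝓘 V ∧ ∃ n, Nonempty (E.restrict (Scheme.Opens.ι (X := Y) V) ≅ FlatMod.freeMod (Scheme.Opens.toScheme (X := Y) V) n)) ?_ _ q ?_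
  · intro W y hy
    obtain ⟨U, n, hyU, ⟨e⟩⟩ := hE y
    obtain ⟨V, hV, hyV, hVW⟩ := hN.exists_nhd (W ⊓ U) y ⟨hy, hyU⟩
    obtain ⟨g⟩ := PBundleLib.nonempty_pullback_free (Y.homOfLE (hVW.trans inf_le_right)) n
    refine ⟨V, ⟨hV, n, ⟨?_⟩⟩, hyV, hVW.trans inf_le_left⟩
    exact restrictIso _ _ ≪≫ (Scheme.Modules.pullbackCongr (Y.homOfLE_ι (hVW.trans inf_le_right))).symm.app E ≪≫
      (Scheme.Modules.pullbackComp _ U.ι).symm.app E ≪≫
      (Scheme.Modules.pullback _).mapIso ((restrictIso _ _).symm ≪≫ e) ≪≫ g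
  rintro (V : Y.Opens) ⟨hV, n, ⟨e⟩⟩
  obtain ⟨g⟩ := PBundleLib.nonempty_pullback_free (σ ∣_ V) n
  let eO : (Coh.structureModule X).restrict (σ ⁻¹ᵁ V).ι ≅ Coh.structureModule (σ ⁻¹ᵁ V).toScheme :=
    restrictIso _ _ ≪≫ pullO _
  have h : Subsingleton (Coh.HH (σ ⁻¹ᵁ V).toScheme (((Scheme.Modules.pullback σ).obj E).restrict (σ ⁻¹ᵁ V).ι) (q + 1)) :=
    CurveLib.subsingleton_HH_iso (restrictIso _ _ ≪≫ (Scheme.Modules.pullbackComp (σ ⁻¹ᵁ V).ι σ).app E ≪≫
      (Scheme.Modules.pullbackCongr (morphismRestrict_ι σ V)).symm.app E ≪≫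
      ((Scheme.Modules.pullbackComp (σ ∣_ V) V.ι).app E).symm ≪≫
      (Scheme.Modules.pullback (σ ∣_ V)).mapIso ((restrictIso _ _).symm ≪≫ e) ≪≫ g).symm (q + 1)
      (subsingleton_HH_sigma _ fun _ => CurveLib.subsingleton_HH_iso eO (q + 1) (subsingleton_O_restrict hσ hV (q + 1) (by omega)))
  have h3 := AmpleEmb.subsingleton_HU_preimage_basicOpen σ ((Scheme.Modules.pullback σ).obj E) hV.1 q h 1
  rwa [Scheme.basicOpen_of_isUnit _ isUnit_one] at h3

end Groth.Agent.BlowExcLib
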