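import Groth.Agent.BlowExcLib.PointCoh
import Groth.Agent.BlowExcLib.CokerSimple
import Groth.Agent.IntLib.Pairing
import Groth.Agent.TwistShriek.PointDim
import Groth.Agent.S10829

/-!
# Cohomology of the twists on the blow-up of the plane in a point
-/

set_option autoImplicit false
set_option backward.isDefEq.respectTransparency false
set_option linter.style.haveILetI false
set_option maxHeartbeats 1000000

universe u

open CategoryTheory CategoryTheory.Limits AlgebraicGeometry TopologicalSpace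
open Groth.Agent.AmpleLib Groth.Agent.IntLib

noncomputable section

namespace Groth.Agent.BlowExcLib

section General

variable {k : Type u} [Field k] {X : Scheme.{u}} [X.Over (Spec (CommRingCat.of k))]
  [IsProper (X ↘ Spec (CommRingCat.of k))]

/-- On a scheme of dimension at most two the third difference of the Euler characteristic vanishes. -/
theorem chiC_third (hdim : topologicalKrullDim X ≤ ((2 : ℕ) : WithBot ℕ∞)) {F A B C : X.Modules}
    (hF : PicF.IsInvertible F) (hA : PicF.IsInvertible A) (hB : PicF.IsInvertible B) (hC : PicF.IsInvertible C) :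
    chiC k (IntLib.mk F) - chiC k (IntLib.mk F * IntLib.mk A) - chiC k (IntLib.mk F * IntLib.mk B)
      - chiC k (IntLib.mk F * IntLib.mk C) + chiC k (IntLib.mk F * IntLib.mk A * IntLib.mk B)
      + chiC k (IntLib.mk F * IntLib.mk A * IntLib.mk C) + chiC k (IntLib.mk F * IntLib.mk B * IntLib.mk C)
      - chiC k (IntLib.mk F * IntLib.mk A * IntLib.mk B * IntLib.mk C) = 0 := by
  haveI := EulerIneqLib.isNoetherian_proper (X := X) k
  have hlt : topologicalKrullDim (CohB1.support F) < ((3 : ℕ) : WithBot ℕ∞) :=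
    lt_of_le_of_lt ((Topology.IsInducing.subtypeVal.topologicalKrullDim_le).trans hdim) (by norm_num)
  have hM : ∀ i : Fin 3, PicF.IsInvertible (![A, B, C] i) := fun i => by fin_cases i <;> assumption
  have h := pairing_prod_eq_zero k (CurveLib.isCoh_of_isInvertible hF) hlt ![A, B, C] hM
  rw [Fin.prod_univ_three] at h
  let g := inv' hA
  let g' := inv' hB
  let g'' := inv' hC
  let o := MonoidAlgebra.of ℤ (IntLib.Inv X)
  have e : (dif (hM 0) * dif (hM 1) * dif (hM 2) : PicRing X) =
      o 1 - o g - o g' - o g'' + o (g * g') + o (g * g'') + o (g' * g'') - o (g * g' * g'') := by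
    show (1 - o g) * (1 - o g') * (1 - o g'') = _
    simp only [map_mul, map_one]
    ring
  rw [e, map_sub, map_add, map_add, map_add, map_sub, map_sub, map_sub] at h
  simp only [o, pairing_of, Submonoid.coe_mul, Submonoid.coe_one, mul_one, ← mul_assoc] at h
  exact h

omit [IsProper (X ↘ Spec (CommRingCat.of k))] in
theorem finrank_H0_eq {S : ShortComplex X.Modules} (hS : S.ShortExact) (h3 : Subsingleton (Coh.HH X S.X₃ 0)) :
    Module.finrank k (Coh.HH X S.X₁ 0) = Module.finrank k (Coh.HH X S.X₂ 0) := by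
  refine (LinearEquiv.ofBijective (CurveLib.hMap (k := k) S.f 0) ⟨CurveLib.hMap_f_zero_injective hS, fun y => ?_⟩).finrank_eq
  exact (CurveLib.range_hMap_f (k := k) hS 0).ge (LinearMap.mem_ker.2 (@Subsingleton.elim _ h3 _ _))

omit [IsProper (X ↘ Spec (CommRingCat.of k))] in
theorem finrank_HH_succ_eq {S : ShortComplex X.Modules} (hS : S.ShortExact) (q : ℕ)
    (h3 : Subsingleton (Coh.HH X S.X₃ q)) (h3' : Subsingleton (Coh.HH X S.X₃ (q + 1))) :
    Module.finrank k (Coh.HH X S.X₁ (q + 1)) = Module.finrank k (Coh.HH X S.X₂ (q + 1)) := by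
  refine (LinearEquiv.ofBijective (CurveLib.hMap (k := k) S.f (q + 1)) ⟨?_, fun y => ?_⟩).finrank_eq
  · rw [injective_iff_map_eq_zero]
    intro x hx
    obtain ⟨w, rfl⟩ := (CurveLib.range_hδ (k := k) hS q).ge (LinearMap.mem_ker.2 hx)
    rw [@Subsingleton.elim _ h3 w 0, map_zero]
  · exact (CurveLib.range_hMap_f (k := k) hS (q + 1)).ge (LinearMap.mem_ker.2 (@Subsingleton.elim _ h3' _ _))

end General

theorem two_mul_choose_two (m : ℕ) : 2 * ((m.choose 2 : ℕ) : ℤ) = (m : ℤ) * ((m : ℤ) - 1) := by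
  induction m with
  | zero => simp
  | succ m ih =>
    rw [Nat.choose_succ_succ, Nat.choose_one_right]
    push_cast
    linarith

section Plane

variable {k : Type u} [Field k] [IsAlgClosed k] (p : ↥(CohB1.ProjSpace 2 k))
  (hp : IsClosed ({p} : Set ↥(CohB1.ProjSpace 2 k))) {X : Scheme.{u}} [X.Over (Spec (CommRingCat.of k))]
  (π : X ⟶ CohB1.ProjSpace 2 k) (hπk : π ≫ CohB1.ProjSpace.toSpec 2 k = X ↘ Spec (CommRingCat.of k))
  (hπ : BlowUp.IsBlowUp π (Scheme.IdealSheafData.vanishingIdeal ⟨{p}, hp⟩))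

/-- The Euler characteristic of a twist. -/
def chiP (c D : ℤ) : ℤ := Curv2.euler k X (exists_mod p hp π hπ c D).choose

include hπk hπ

theorem isProper_plane : IsProper (X ↘ Spec (CommRingCat.of k)) := by
  haveI := isLocallyNoetherian_pn (k := k) (n := 2)
  haveI := isProper_blowUp hπ
  rw [← hπk]
  infer_instance

theorem dim_plane : topologicalKrullDim X ≤ ((2 : ℕ) : WithBot ℕ∞) := by
  haveI := isLocallyNoetherian_pn (k := k) (n := 2)
  obtain ⟨P⟩ := TwistShriek.exists_pointParams hp (ProjSerreLib.regular_stalk p)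
    (ProjSerreLib.dim_closed_point hp)
  exact TwistShriek.PointBlow.topologicalKrullDim_blowUp_le hπ P (le_of_eq (S10829.result k 2))

theorem van_high_plane {M : X.Modules} (i : ℕ) (hi : 3 ≤ i) : Subsingleton (Coh.HH X M i) := by
  haveI := isProper_plane p hp π hπk hπ
  haveI := EulerIneqLib.isNoetherian_proper (X := X) k
  exact CurveLib.subsingleton_HH_of_dim M (dim_plane p hp π hπk hπ) hi

theorem finrank_H0_O : Module.finrank k (Coh.HH X (Coh.structureModule X) 0) = 1 := by
  haveI := isLocallyNoetherian_pn (k := k) (n := 2)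
  have hb : Function.Bijective (π.app ⊤) := by
    have hZ : IsClosed (Set.range fun _ : Fin 1 => p) := by rw [Set.range_const]; exact hp
    exact bijective_app (isBlowUp_range p hp π hπ hZ) (isNiceCentre_projSpace_points (r := 0) (by omega) _ (fun _ => hp) hZ)
      (AlterN1.isNormalScheme_of_regular _ fun x => ProjSerreLib.regular_stalk x) ⊤
  have hP : Function.Bijective (Coh.toGlobal (CohB1.ProjSpace.toSpec 2 k)) :=
    CurveP1Lib.bijective_toGlobal_of_h0 (X := CohB1.ProjSpace 2 k) HypSurfLib.finrank_H0_projSpace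
  have hcomp : (Coh.toGlobal (π ≫ CohB1.ProjSpace.toSpec 2 k) : k → Γ(X, ⊤)) =
      π.app ⊤ ∘ Coh.toGlobal (CohB1.ProjSpace.toSpec 2 k) := by
    funext a; rfl
  refine CIProjLib.finrank_H0_of_bijective ?_
  rw [← hπk]
  show Function.Bijective (Coh.toGlobal (π ≫ CohB1.ProjSpace.toSpec 2 k) : k → Γ(X, ⊤))
  rw [hcomp]
  exact hb.comp hP

theorem chiP_eq (c D : ℤ) :
    haveI := isProper_plane p hp π hπk hπ
    chiP p hp π hπ c D = chiC k (Mcl p hp π hπ c D) := by
  haveI := isProper_plane p hp π hπk hπ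
  rw [chiP, ← chiC_mk, (exists_mod p hp π hπ c D).choose_spec.1]

theorem chiC_eq (c D : ℤ) {M : X.Modules} (hM : IntLib.mk M = Mcl p hp π hπ c D) :
    chiP p hp π hπ c D = (Module.finrank k (Coh.HH X M 0) : ℤ) - Module.finrank k (Coh.HH X M 1) +
      Module.finrank k (Coh.HH X M 2) := by
  haveI := isProper_plane p hp π hπk hπ
  rw [chiP_eq p hp π hπk hπ, ← hM, chiC_mk, CurveLib.euler_eq_sum (K := k) M 3 (fun q hq => van_high_plane p hp π hπk hπ q hq)]
  simp [Finset.sum_range_succ]
  ring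

theorem chiP_eq_zero (c D : ℤ) (h : ∀ i : ℕ, i ≤ 2 → Van (Mcl p hp π hπ c D) i) : chiP p hp π hπ c D = 0 := by
  obtain ⟨M, hM, -⟩ := exists_mod p hp π hπ c D
  haveI := h 0 (by omega) M hM
  haveI := h 1 (by omega) M hM
  haveI := h 2 (by omega) M hM
  rw [chiC_eq p hp π hπk hπ c D hM, Module.finrank_zero_of_subsingleton, Module.finrank_zero_of_subsingleton,
    Module.finrank_zero_of_subsingleton]
  simp

theorem chiP_diagonal (a : ℤ) : chiP p hp π hπ (a - 1) a = 0 :=
  chiP_eq_zero p hp π hπk hπ _ _ fun i _ => van_diagonal p hp π hπ le_rfl a i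

theorem chiP_neg_one (c : ℤ) : chiP p hp π hπ c (-1) = chiP p hp π hπ c 0 := by
  haveI := isProper_plane p hp π hπk hπ
  obtain ⟨S, hS, h1, h2, h3⟩ := exists_seq_exc p hp π hπ le_rfl c (-1)
  haveI := EulerIneqLib.isNoetherian_proper (X := X) k
  obtain ⟨M, hM, hMi⟩ := exists_mod p hp π hπ c (-1)
  obtain ⟨M', hM', hMi'⟩ := exists_mod p hp π hπ c (-1 + 1)
  have c2 : Coh.IsCoh S.X₂ := CurveLib.isCoh_of_isInvertible (ParaFLib.isInvertible_of_iso (mk_eq_mk.1 (hM.trans h2.symm)).some hMi)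
  have c1 : Coh.IsCoh S.X₁ := CurveLib.isCoh_of_isInvertible (ParaFLib.isInvertible_of_iso (mk_eq_mk.1 (hM'.trans h1.symm)).some hMi')
  haveI := hS.mono_f
  have c3 : Coh.IsCoh S.X₃ := (ShStabLib.isCoh_of_iso (hS.gIsCokernel.coconePointUniqueUpToIso (cokernelIsCokernel S.f)).symm
    (QCohLib.isCoh_kernel_cokernel S.f c1 c2).2)
  have h := CurveLib.euler_shortExact (K := k) hS c1 c2 c3
  have hz : Curv2.euler k X S.X₃ = 0 := by
    rw [CurveLib.euler_eq_sum (K := k) S.X₃ 0 (fun q _ => h3 q (by omega) (by omega))]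
    simp
  rw [hz, add_zero, ← chiC_mk, ← chiC_mk, h1, h2] at h
  rw [chiP_eq p hp π hπk hπ, chiP_eq p hp π hπk hπ]
  exact h

theorem chiP_third (c D : ℤ) (a₁ b₁ a₂ b₂ a₃ b₃ : ℤ) :
    chiP p hp π hπ c D - chiP p hp π hπ (c + a₁) (D + b₁) - chiP p hp π hπ (c + a₂) (D + b₂)
      - chiP p hp π hπ (c + a₃) (D + b₃) + chiP p hp π hπ (c + a₁ + a₂) (D + b₁ + b₂)
      + chiP p hp π hπ (c + a₁ + a₃) (D + b₁ + b₃) + chiP p hp π hπ (c + a₂ + a₃) (D + b₂ + b₃)
      - chiP p hp π hπ (c + a₁ + a₂ + a₃) (D + b₁ + b₂ + b₃) = 0 := by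
  haveI := isProper_plane p hp π hπk hπ
  obtain ⟨F, hF, hFi⟩ := exists_mod p hp π hπ c D
  obtain ⟨A, hA, hAi⟩ := exists_mod p hp π hπ a₁ b₁
  obtain ⟨B, hB, hBi⟩ := exists_mod p hp π hπ a₂ b₂
  obtain ⟨C, hC, hCi⟩ := exists_mod p hp π hπ a₃ b₃
  have hmul : ∀ a b a' b', Mcl p hp π hπ (a + a') (b + b') = Mcl p hp π hπ a b * Mcl p hp π hπ a' b' := by
    intro a b a' b'
    rw [Mcl, Mcl, Mcl, pcls_add, zpow_add, Units.val_mul, mul_mul_mul_comm]
  have h := chiC_third (k := k) (dim_plane p hp π hπk hπ) hFi hAi hBi hCi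
  rw [hF, hA, hB, hC] at h
  simp only [chiP_eq p hp π hπk hπ, hmul]
  exact h

theorem chiP_base : ∀ c : ℤ, 2 * chiP p hp π hπ c 0 = (c + 1) * (c + 2) := by
  haveI := isProper_plane p hp π hπk hπ
  have h0 : chiP p hp π hπ 0 0 = 1 := by
    have hc : IntLib.mk (Coh.structureModule X) = Mcl p hp π hπ 0 0 := by
      rw [Mcl_zero, pcls_zero, mk_structureModule]
    haveI := van_base p hp π hπ le_rfl 0 1 (by omega) (by omega) (Coh.structureModule X) (hc.trans (Mcl_zero p hp π hπ 0))
    haveI := van_base p hp π hπ le_rfl 0 2 (by omega) (by omega) (Coh.structureModule X) (hc.trans (Mcl_zero p hp π hπ 0))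
    rw [chiC_eq p hp π hπk hπ 0 0 hc, finrank_H0_O p hp π hπk hπ, Module.finrank_zero_of_subsingleton,
      Module.finrank_zero_of_subsingleton]
    simp
  have hz : ∀ c : ℤ, -2 ≤ c → c ≤ -1 → chiP p hp π hπ c 0 = 0 := fun c h h' =>
    chiP_eq_zero p hp π hπk hπ c 0 fun i _ => (Mcl_zero p hp π hπ c).symm ▸
      van_base p hp π hπ le_rfl c i (by omega) (by omega)
  let Q : ℤ → Prop := fun x => ∀ y : ℤ, x ≤ y → y ≤ x + 2 → 2 * chiP p hp π hπ y 0 = (y + 1) * (y + 2)
  suffices key : ∀ x : ℤ, Q x by exact fun c => key c c le_rfl (by omega)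
  intro x
  induction x using Int.inductionOn' (b := (-2 : ℤ)) with
  | zero =>
    intro y h h'
    obtain rfl | rfl | rfl : y = -2 ∨ y = -1 ∨ y = 0 := by omega
    · rw [hz _ le_rfl (by omega)]; norm_num
    · rw [hz _ (by omega) le_rfl]; norm_num
    · rw [h0]; norm_num
  | succ x _ ih =>
    intro y h h'
    by_cases hy : y ≤ x + 2
    · exact ih y (by omega) hy
    obtain rfl : y = x + 3 := by omega
    have e := chiP_third p hp π hπk hπ x 0 1 0 1 0 1 0
    simp only [add_zero] at e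
    rw [show x + 1 + 1 + 1 = x + 3 by ring, show x + 1 + 1 = x + 2 by ring] at e
    have e0 := ih x le_rfl (by omega)
    have e1 := ih (x + 1) (by omega) (by omega)
    have e2 := ih (x + 2) (by omega) le_rfl
    linarith
  | pred x _ ih =>
    intro y h h'
    by_cases hy : x ≤ y
    · exact ih y hy (by omega)
    obtain rfl : y = x - 1 := by omega
    have e := chiP_third p hp π hπk hπ (x - 1) 0 1 0 1 0 1 0
    simp only [add_zero] at e
    rw [show x - 1 + 1 + 1 + 1 = x + 2 by ring, show x - 1 + 1 + 1 = x + 1 by ring, show x - 1 + 1 = x by ring] at e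
    have e0 := ih x le_rfl (by omega)
    have e1 := ih (x + 1) (by omega) (by omega)
    have e2 := ih (x + 2) (by omega) le_rfl
    linarith

theorem chiP_formula (c D : ℤ) : 2 * chiP p hp π hπ c D = (c + 1) * (c + 2) - D * (D + 1) := by
  have hb := chiP_base p hp π hπk hπ
  have hm1 := chiP_neg_one p hp π hπk hπ
  have h1 : ∀ x : ℤ, 2 * chiP p hp π hπ x 1 = (x + 1) * (x + 2) - 2 := by
    intro x
    induction x using Int.induction_on with
    | zero => rw [show (0 : ℤ) = 1 - 1 by norm_num, chiP_diagonal p hp π hπk hπ]; norm_num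
    | succ i hi =>
      have e := chiP_third p hp π hπk hπ i (-1) 1 0 0 1 0 1
      simp only [add_zero] at e
      norm_num at e
      linarith [hb i, hb ((i : ℤ) + 1), hm1 i, hm1 ((i : ℤ) + 1)]
    | pred i hi =>
      have e := chiP_third p hp π hπk hπ (-(i : ℤ) - 1) (-1) 1 0 0 1 0 1
      simp only [add_zero] at e
      norm_num at e
      linarith [hb (-(i : ℤ)), hb (-(i : ℤ) - 1), hm1 (-(i : ℤ)), hm1 (-(i : ℤ) - 1)]
  let Q : ℤ → Prop := fun x => ∀ y : ℤ, x ≤ y → y ≤ x + 2 → ∀ c, 2 * chiP p hp π hπ c y = (c + 1) * (c + 2) - y * (y + 1)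
  suffices key : ∀ x : ℤ, Q x by exact key D D le_rfl (by omega) c
  intro x
  induction x using Int.inductionOn' (b := (-1 : ℤ)) with
  | zero =>
    intro y h h' c
    obtain rfl | rfl | rfl : y = -1 ∨ y = 0 ∨ y = 1 := by omega
    · rw [hm1, hb]; ring
    · rw [hb]; ring
    · rw [h1]; norm_num
  | succ x _ ih =>
    intro y h h' c
    by_cases hy : y ≤ x + 2
    · exact ih y (by omega) hy c
    obtain rfl : y = x + 3 := by omega
    have e := chiP_third p hp π hπk hπ c x 0 1 0 1 0 1
    simp only [add_zero] at e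
    rw [show x + 1 + 1 + 1 = x + 3 by ring, show x + 1 + 1 = x + 2 by ring] at e
    have e0 := ih x le_rfl (by omega) c
    have e1 := ih (x + 1) (by omega) (by omega) c
    have e2 := ih (x + 2) (by omega) le_rfl c
    linarith
  | pred x _ ih =>
    intro y h h' c
    by_cases hy : x ≤ y
    · exact ih y hy (by omega) c
    obtain rfl : y = x - 1 := by omega
    have e := chiP_third p hp π hπk hπ c (x - 1) 0 1 0 1 0 1
    simp only [add_zero] at e
    rw [show x - 1 + 1 + 1 + 1 = x + 2 by ring, show x - 1 + 1 + 1 = x + 1 by ring, show x - 1 + 1 = x by ring] at e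
    have e0 := ih x le_rfl (by omega) c
    have e1 := ih (x + 1) (by omega) (by omega) c
    have e2 := ih (x + 2) (by omega) le_rfl c
    linarith

theorem finrank_zero {c D : ℤ} {i : ℕ} (h : Van (Mcl p hp π hπ c D) i) {M : X.Modules}
    (hM : IntLib.mk M = Mcl p hp π hπ c D) : Module.finrank k (Coh.HH X M i) = 0 := by
  haveI := h M hM
  exact Module.finrank_zero_of_subsingleton

end Plane

end Groth.Agent.BlowExcLib
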