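import Groth.Agent.BlowExcLib.LocFree
import Groth.Agent.S1535
import Groth.Agent.TorIndepLib.Stalk
import Groth.Agent.BCLib.SteinFlat
import Groth.Prelude.Def_Mor2

/-!
# Centres in regular schemes
-/

set_option autoImplicit false
set_option backward.isDefEq.respectTransparency false
set_option linter.style.haveILetI false
set_option maxHeartbeats 1000000

universe u

open CategoryTheory CategoryTheory.Limits AlgebraicGeometry TopologicalSpace Opposite
open Groth.Agent.PullbackMod Groth.Agent.AmpleLib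

noncomputable section

namespace Groth.Agent.BlowExcLib

theorem isNoetherian_of_smooth {k : Type u} [Field k] {Y : Scheme.{u}} [Y.Over (Spec (CommRingCat.of k))]
    [Smooth (Y ↘ Spec (CommRingCat.of k))] [QuasiCompact (Y ↘ Spec (CommRingCat.of k))] : IsNoetherian Y :=
  RGBlowLib.Union.isNoetherian_of_ft (Y ↘ Spec (CommRingCat.of k))

theorem isNormalScheme_of_smooth {k : Type u} [Field k] {Y : Scheme.{u}} [Y.Over (Spec (CommRingCat.of k))]
    [Smooth (Y ↘ Spec (CommRingCat.of k))] : Pi1.IsNormalScheme Y :=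
  AlterN1.isNormalScheme_of_regular Y fun y => S1535.result k Y y

theorem idealMod_top_iso {X : Scheme.{u}} : Nonempty (ClSub.idealMod (⊤ : X.IdealSheafData) ≅ Coh.structureModule X) := by
  have hz : IsZero (ClSub.quotMod (⊤ : X.IdealSheafData)) := DCohLib.isZero_of_stalks fun x => by
    by_contra hns
    simpa using IntLib.support_quotMod_subset (⊤ : X.IdealSheafData) hns
  exact ⟨kernelIsoOfEq (hz.eq_of_tgt (ClSub.toSubscheme (⊤ : X.IdealSheafData)) 0) ≪≫ kernelZeroIsoSource⟩

theorem nonempty_idealMod_pow {X : Scheme.{u}} [IsNoetherian X] {J : X.IdealSheafData}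
    (hJ : BlowUp.IsEffCartierIdeal J) : ∀ n, Nonempty (CohB1.tensorPow (ClSub.idealMod J) n ≅ ClSub.idealMod (J ^ n))
  | 0 => by
    rw [pow_zero]
    exact idealMod_top_iso.map fun e => e.symm
  | n + 1 => by
    rw [← IntLib.mk_eq_mk, IntLib.mk_tensorPow, (LefAmpleLib.idealMod_pow_succ_aux hJ n).2]

theorem isNiceCentre_of_isRegularClosedImmersion {S Y : Scheme.{u}} (f : S ⟶ Y) (hf : Mor2.IsRegularClosedImmersion f)
    (d : ℕ) (hd : 1 ≤ d) (hC : FlatMod.IsFinLocFreeOfRank d (Omega.conormal f)) : IsNiceCentre 0 f.ker := by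
  haveI := hf.1
  intro y
  by_cases hy : y ∈ f.ker.support
  swap
  · exact exists_isNice_of_not_mem hy
  have hy' : y ∈ Set.range f := by
    rw [← f.isClosedEmbedding.isClosed_range.closure_eq, ← Scheme.Hom.support_ker f]
    exact hy
  obtain ⟨z, rfl⟩ := hy'
  obtain ⟨U, hU, hzU, rs, hrs, hk⟩ := hf.2 z
  rcases Nat.eq_zero_or_pos rs.length with h0 | hpos
  · exfalso
    obtain rfl := List.eq_nil_of_length_eq_zero h0
    have h := TorIndepLib.finrank_conormal f hC z (n := 0) Fin.elim0
      (by rw [List.ofFn_zero]; exact RingTheory.Sequence.IsWeaklyRegular.nil _ _) (by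
        rw [← EtAlgEasy.ConormalStalk.stalkIdeal_ker, IdealStalkLib.stalkIdeal_eq f.ker ⟨U, hU⟩ _ hzU, hk,
          Ideal.ofList_nil, Ideal.map_bot]
        simp)
    omega
  · obtain ⟨m, hm⟩ : ∃ m, rs.length = m + 1 := ⟨rs.length - 1, by omega⟩
    refine ⟨U, hzU, hU, m, fun j => rs.get (Fin.cast hm.symm j), Nat.zero_le m, ?_, ?_⟩
    · have h := QRegLib.isQuasiRegular_of_isWeaklyRegular rs.get (by rw [List.ofFn_get]; exact hrs.toIsWeaklyRegular)
      have hcast : ∀ (N : ℕ) (e : N = rs.length), CAlgX.IsQuasiRegular fun j : Fin N => rs.get (Fin.cast e j) := by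
        rintro N rfl; exact h
      exact hcast _ _
    · rw [hk]
      show Ideal.ofList rs = _
      rw [Ideal.ofList]
      congr 1
      ext a
      refine ⟨fun ha => ?_, ?_⟩
      · obtain ⟨j, hj⟩ := List.get_of_mem ha
        exact ⟨Fin.cast hm j, by simpa using hj⟩
      · rintro ⟨j, rfl⟩
        exact List.get_mem _ _

theorem isFinLocFree_one (X : Scheme.{u}) : FlatMod.IsFinLocFree (Coh.structureModule X) :=
  BCLib.isFinLocFree_structureModule X

end Groth.Agent.BlowExcLib
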