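import Groth.Agent.BlowExcLib.P2Coh
import Groth.Agent.BlowExcLib.Smooth
import Groth.Agent.ShBCLib.Finrank

/-!
# The dimensions of the cohomology of the twists on the blow-up of the plane in a point
-/

set_option autoImplicit false
set_option backward.isDefEq.respectTransparency false
set_option linter.style.haveILetI false
set_option maxHeartbeats 1000000

universe u

open CategoryTheory CategoryTheory.Limits AlgebraicGeometry TopologicalSpace
open Groth.Agent.AmpleLib Groth.Agent.IntLib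

noncomputable section

namespace Groth.Agent.BlowExcLib

theorem succ_mul_succ_succ_eq (c : ℤ) :
    (c + 1) * (c + 2) = 2 * (((c + 2).toNat.choose 2 : ℕ) : ℤ) + 2 * (((-c - 1).toNat.choose 2 : ℕ) : ℤ) := by
  rw [two_mul_choose_two, two_mul_choose_two]
  rcases le_or_gt (-1) c with h | h
  · rw [Int.toNat_of_nonneg (by omega : (0 : ℤ) ≤ c + 2)]
    rcases (show c = -1 ∨ 0 ≤ c by omega) with rfl | h'
    · norm_num
    · rw [show (-c - 1).toNat = 0 by omega]; push_cast; ring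
  · rw [show (c + 2).toNat = 0 by omega, Int.toNat_of_nonneg (by omega : (0 : ℤ) ≤ -c - 1)]
    push_cast; ring

section Plane

variable {k : Type u} [Field k] [IsAlgClosed k] (p : ↥(CohB1.ProjSpace 2 k))
  (hp : IsClosed ({p} : Set ↥(CohB1.ProjSpace 2 k))) {X : Scheme.{u}} [X.Over (Spec (CommRingCat.of k))]
  (π : X ⟶ CohB1.ProjSpace 2 k) (hπk : π ≫ CohB1.ProjSpace.toSpec 2 k = X ↘ Spec (CommRingCat.of k))
  (hπ : BlowUp.IsBlowUp π (Scheme.IdealSheafData.vanishingIdeal ⟨{p}, hp⟩))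

include hπk hπ

theorem van_zero_le (c : ℤ) (b : ℕ) (hcb : c + 1 ≤ b) : Van (Mcl p hp π hπ c (b : ℤ)) 0 := by
  obtain ⟨L, hL, -⟩ := exists_mod p hp π hπ 0 (b : ℤ)
  let T := CMRegLib.xData k π L
  have hT : ∀ c' : ℤ, IntLib.mk (T.F c') = Mcl p hp π hπ c' (b : ℤ) := fun c' => by
    rw [mk_xData_F, hL, Mcl, Mcl, pcls_zero, one_mul, mul_comm]
  induction c, (show c ≤ (b : ℤ) - 1 by omega) using Int.le_induction_down with
  | base => exact van_diagonal p hp π hπ le_rfl (b : ℤ) 0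
  | pred c hc ih =>
    refine Van.of _ (hT (c - 1)) (koszul_vanish_left_bdd T (c - 1) 0 fun e he _ => ?_)
    obtain rfl : e = 0 := by omega
    exact ih (by omega) _ ((hT _).trans (by simp))

theorem van_two_neg (c : ℤ) (b : ℕ) (hcb : -1 ≤ c + b) : Van (Mcl p hp π hπ c (-(b : ℤ))) 2 := by
  obtain ⟨L, hL, -⟩ := exists_mod p hp π hπ 0 (-(b : ℤ))
  let T := CMRegLib.xData k π L
  have hT : ∀ c' : ℤ, IntLib.mk (T.F c') = Mcl p hp π hπ c' (-(b : ℤ)) := fun c' => by
    rw [mk_xData_F, hL, Mcl, Mcl, pcls_zero, one_mul, mul_comm]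
  induction c, (show -(b : ℤ) - 1 ≤ c by omega) using Int.le_induction with
  | base => exact van_diagonal p hp π hπ le_rfl (-(b : ℤ)) 2
  | succ c hc ih =>
    refine Van.of _ (hT (c + 1)) (koszul_vanish_bdd T (c + 1) 2 fun e _ => ?_)
    rcases Nat.eq_zero_or_pos e with rfl | he0
    · exact ih (by omega) _ ((hT _).trans (by simp))
    · exact van_high_plane p hp π hπk hπ _ (by omega)

theorem finrank_congr {M M' : X.Modules} (h : IntLib.mk M = IntLib.mk M') (i : ℕ) :
    Module.finrank k (Coh.HH X M i) = Module.finrank k (Coh.HH X M' i) :=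
  ShBCLib.finrank_HH_iso (mk_eq_mk.1 h).some i

theorem finrank_one_neg_zero (c : ℤ) {M : X.Modules} (hM : IntLib.mk M = Mcl p hp π hπ c 0) :
    Module.finrank k (Coh.HH X M 0) = (c + 2).toNat.choose 2 ∧
    Module.finrank k (Coh.HH X M 1) = 0 ∧
    Module.finrank k (Coh.HH X M 2) = (-c - 1).toNat.choose 2 := by
  have hM' : IntLib.mk M = pcls π c := hM.trans (Mcl_zero p hp π hπ c)
  haveI h1 := van_base p hp π hπ le_rfl c 1 (by omega) (by omega) M hM'
  have e1 : Module.finrank k (Coh.HH X M 1) = 0 := Module.finrank_zero_of_subsingleton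
  have h := chiC_eq p hp π hπk hπ c 0 hM
  have hf := chiP_formula p hp π hπk hπ c 0
  rw [h, e1, succ_mul_succ_succ_eq] at hf
  rcases le_or_gt 0 c with hc | hc
  · haveI := van_base p hp π hπ le_rfl c 2 (by omega) (by omega) M hM'
    have e2 : Module.finrank k (Coh.HH X M 2) = 0 := Module.finrank_zero_of_subsingleton
    have z : (-c - 1).toNat.choose 2 = 0 := Nat.choose_eq_zero_of_lt (by omega)
    rw [e2, z] at hf
    exact ⟨by omega, e1, e2.trans z.symm⟩
  · haveI := van_base p hp π hπ le_rfl c 0 (by omega) (by omega) M hM'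
    have e0 : Module.finrank k (Coh.HH X M 0) = 0 := Module.finrank_zero_of_subsingleton
    have z : (c + 2).toNat.choose 2 = 0 := Nat.choose_eq_zero_of_lt (by omega)
    rw [e0, z] at hf
    exact ⟨e0.trans z.symm, e1, by omega⟩

theorem finrank_two_pos (c : ℤ) : ∀ (b : ℕ) {M : X.Modules}, IntLib.mk M = Mcl p hp π hπ c (b : ℤ) →
    Module.finrank k (Coh.HH X M 2) = (-c - 1).toNat.choose 2
  | 0, M, hM => (finrank_one_neg_zero p hp π hπk hπ c hM).2.2
  | b + 1, M, hM => by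
    obtain ⟨S, hS, h1, h2, h3⟩ := exists_seq_exc p hp π hπ le_rfl c (b : ℤ)
    rw [finrank_congr p hp π hπk hπ (hM.trans (h1.trans (by push_cast; rfl)).symm) 2,
      finrank_HH_succ_eq hS 1 (h3 1 (by omega) (by omega)) (h3 2 (by omega) (by omega)),
      finrank_two_pos c b h2]

theorem finrank_zero_neg (c : ℤ) : ∀ (b : ℕ) {M : X.Modules}, IntLib.mk M = Mcl p hp π hπ c (-(b : ℤ)) →
    Module.finrank k (Coh.HH X M 0) = (c + 2).toNat.choose 2
  | 0, M, hM => (finrank_one_neg_zero p hp π hπk hπ c (hM.trans (by simp))).1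
  | b + 1, M, hM => by
    obtain ⟨S, hS, h1, h2, h3⟩ := exists_seq_exc p hp π hπ le_rfl c (-((b + 1 : ℕ) : ℤ))
    rw [finrank_congr p hp π hπk hπ (hM.trans h2.symm) 0,
      ← finrank_H0_eq hS (h3 0 (by omega) (by omega)),
      finrank_zero_neg c b (h1.trans (congrArg _ (by push_cast; ring)))]

theorem dims_pos (c : ℤ) (b : ℕ) {M : X.Modules} (hM : IntLib.mk M = Mcl p hp π hπ c (b : ℤ)) :
    ((b : ℤ) ≤ c →
      (Module.finrank k (Coh.HH X M 0) : ℤ) = ((c + 2).toNat.choose 2 : ℤ) - ((b + 1).choose 2 : ℤ) ∧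
      Module.finrank k (Coh.HH X M 1) = 0 ∧ Module.finrank k (Coh.HH X M 2) = 0) ∧
    (c = (b : ℤ) - 1 → Module.finrank k (Coh.HH X M 0) = 0 ∧ Module.finrank k (Coh.HH X M 1) = 0 ∧
      Module.finrank k (Coh.HH X M 2) = 0) ∧
    (c ≤ (b : ℤ) - 2 → Module.finrank k (Coh.HH X M 0) = 0 ∧
      (Module.finrank k (Coh.HH X M 1) : ℤ) = ((b + 1).choose 2 : ℤ) - ((c + 2).toNat.choose 2 : ℤ) ∧
      Module.finrank k (Coh.HH X M 2) = (-c - 1).toNat.choose 2) := by
  have h2 := finrank_two_pos p hp π hπk hπ c b hM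
  have h := chiC_eq p hp π hπk hπ c (b : ℤ) hM
  have hf := chiP_formula p hp π hπk hπ c (b : ℤ)
  have hb := two_mul_choose_two (b + 1)
  rw [show ((b + 1 : ℕ) : ℤ) * (((b + 1 : ℕ) : ℤ) - 1) = (b : ℤ) * ((b : ℤ) + 1) by push_cast; ring] at hb
  rw [h, h2, succ_mul_succ_succ_eq, ← hb] at hf
  have z0 : (b : ℤ) - 1 ≤ c → (-c - 1).toNat.choose 2 = 0 := fun hc => Nat.choose_eq_zero_of_lt (by omega)
  have e1 : (b : ℤ) - 1 ≤ c → Module.finrank k (Coh.HH X M 1) = 0 := fun hc =>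
    finrank_zero p hp π hπk hπ (van_one p hp π hπ le_rfl c b (by omega)) hM
  have e0 : c ≤ (b : ℤ) - 1 → Module.finrank k (Coh.HH X M 0) = 0 := fun hc =>
    finrank_zero p hp π hπk hπ (van_zero_le p hp π hπk hπ c b (by omega)) hM
  refine ⟨fun hc => ?_, fun hc => ?_, fun hc => ?_⟩
  · have := z0 (by omega)
    have := e1 (by omega)
    exact ⟨by omega, this, by omega⟩
  · have := z0 (by omega)
    exact ⟨e0 (by omega), e1 (by omega), by omega⟩
  · have := e0 (by omega)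
    exact ⟨this, by omega, h2⟩

theorem dims_neg (c : ℤ) (b : ℕ) {M : X.Modules} (hM : IntLib.mk M = Mcl p hp π hπ c (-(b : ℤ))) :
    (0 ≤ c + b →
      Module.finrank k (Coh.HH X M 0) = (c + 2).toNat.choose 2 ∧
      (Module.finrank k (Coh.HH X M 1) : ℤ) = (b.choose 2 : ℤ) - ((-c - 1).toNat.choose 2 : ℤ) ∧
      Module.finrank k (Coh.HH X M 2) = 0) ∧
    (c + b = -1 → Module.finrank k (Coh.HH X M 0) = 0 ∧ Module.finrank k (Coh.HH X M 1) = 0 ∧
      Module.finrank k (Coh.HH X M 2) = 0) ∧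
    (c + b ≤ -2 → Module.finrank k (Coh.HH X M 0) = 0 ∧ Module.finrank k (Coh.HH X M 1) = 0 ∧
      (Module.finrank k (Coh.HH X M 2) : ℤ) = ((-c - 1).toNat.choose 2 : ℤ) - (b.choose 2 : ℤ)) := by
  have h0 := finrank_zero_neg p hp π hπk hπ c b hM
  have h := chiC_eq p hp π hπk hπ c (-(b : ℤ)) hM
  have hf := chiP_formula p hp π hπk hπ c (-(b : ℤ))
  have hb := two_mul_choose_two b
  rw [show -(b : ℤ) * (-(b : ℤ) + 1) = (b : ℤ) * ((b : ℤ) - 1) by ring, ← hb, h, h0,
    succ_mul_succ_succ_eq] at hf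
  have z0 : c + b ≤ -1 → (c + 2).toNat.choose 2 = 0 := fun hc => Nat.choose_eq_zero_of_lt (by omega)
  have e1 : c + b ≤ -1 → Module.finrank k (Coh.HH X M 1) = 0 := fun hc =>
    finrank_zero p hp π hπk hπ (van_sub_one p hp π hπ le_rfl c b (by omega)) hM
  have e2 : -1 ≤ c + b → Module.finrank k (Coh.HH X M 2) = 0 := fun hc =>
    finrank_zero p hp π hπk hπ (van_two_neg p hp π hπk hπ c b hc) hM
  refine ⟨fun hc => ?_, fun hc => ?_, fun hc => ?_⟩
  · have := e2 (by omega)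
    exact ⟨h0, by omega, this⟩
  · have := z0 (by omega)
    exact ⟨by omega, e1 (by omega), e2 (by omega)⟩
  · have := z0 (by omega)
    have := e1 (by omega)
    exact ⟨by omega, this, by omega⟩

theorem mk_twist_idealPow (c : ℤ) (b : ℕ) :
    IntLib.mk (CohB1.tensorMod ((Scheme.Modules.pullback π).obj (Twist.twistProjSpace 2 k c))
      (ClSub.idealMod (((Scheme.IdealSheafData.vanishingIdeal ⟨{p}, hp⟩).comap π) ^ b))) =
      Mcl p hp π hπ c (b : ℤ) := by
  haveI := isProper_plane p hp π hπk hπ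
  haveI := EulerIneqLib.isNoetherian_proper (X := X) k
  rw [Mcl_natCast, mk_tensor, mk_tensor, mk_congr (nonempty_idealMod_pow hπ.1 b).some]

theorem mk_twist_invPow (c : ℤ) (b : ℕ) {L : X.Modules}
    (hL : ClSub.IsInverseOf L (ClSub.idealMod ((Scheme.IdealSheafData.vanishingIdeal ⟨{p}, hp⟩).comap π))) :
    IntLib.mk (CohB1.tensorMod ((Scheme.Modules.pullback π).obj (Twist.twistProjSpace 2 k c)) (CohB1.tensorPow L b)) =
      Mcl p hp π hπ c (-(b : ℤ)) := by
  obtain ⟨e⟩ := hL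
  have h := (mk_congr e).trans mk_structureModule
  rw [mk_tensor, ← eUnit_eq p hp π hπ, mul_comm] at h
  rw [Mcl, zpow_neg, zpow_natCast, ← inv_pow, Units.val_pow_eq_pow_val,
    show ((eUnit p hp π hπ)⁻¹ : (MCls X)ˣ).1 = IntLib.mk L from Units.inv_eq_of_mul_eq_one_right h,
    mk_tensor, mk_tensorPow]
  rfl

end Plane

end Groth.Agent.BlowExcLib
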