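import Groth.Agent.BlowExcLib.P2Coh
import Groth.Agent.TwistShriek.SurfBlowPlane
import Groth.Agent.TwistShriek.SurfCan
import Groth.Agent.TwistShriek.SurfH1

/-!
# The intersection form against the line class on a blown up plane
-/

set_option autoImplicit false
set_option backward.isDefEq.respectTransparency false
set_option linter.style.haveILetI false
set_option maxHeartbeats 1000000
set_option synthInstance.maxHeartbeats 200000

universe u

open CategoryTheory CategoryTheory.Limits AlgebraicGeometry TopologicalSpace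
open Groth.Agent.AmpleLib Groth.Agent.Nakai Groth.Agent.TwistShriek

noncomputable section

namespace Groth.Agent.BlowExcLib

variable {k : Type u} [Field k] [IsAlgClosed k] {r : ℕ} (P : Fin r → ↥(CohB1.ProjSpace 2 k))
  (hPc : ∀ i, IsClosed ({P i} : Set ↥(CohB1.ProjSpace 2 k))) (hZ : IsClosed (Set.range P))
  {X : Scheme.{u}} [X.Over (Spec (CommRingCat.of k))] (σ : X ⟶ CohB1.ProjSpace 2 k)
  (hσ : BlowUp.IsBlowUp σ (Scheme.IdealSheafData.vanishingIdeal ⟨Set.range P, hZ⟩))
  [IsIntegral X] [IsProper (X ↘ (Spec (CommRingCat.of k)))] (hdim : topologicalKrullDim X = 2)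

include hPc hσ hdim

/-- The Euler characteristics of `O`, `H`, `2H`. -/
theorem euler_plane_twists :
    IntLib.chiC k (pcls σ 0) = 1 ∧ IntLib.chiC k (pcls σ 1) = 3 ∧ IntLib.chiC k (pcls σ 2) = 6 := by
  have hT : ∀ c : ℤ, PicF.IsInvertible ((Scheme.Modules.pullback σ).obj (Twist.twistProjSpace 2 k c)) :=
    fun c => isInvertible_pullback σ (isInvertible_twist c)
  haveI := EulerIneqLib.isNoetherian_proper (X := X) k
  have hsum : ∀ M : X.Modules, Curv2.euler k X M = (Module.finrank k (Coh.HH X M 0) : ℤ) -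
      Module.finrank k (Coh.HH X M 1) + Module.finrank k (Coh.HH X M 2) := fun M => by
    rw [CurveLib.euler_eq_sum (K := k) M 3 fun q hq => CurveLib.subsingleton_HH_of_dim (d := 2) M hdim.le (by omega)]
    simp [Finset.sum_range_succ]
    ring
  have hz : ∀ c : ℤ, -2 ≤ c → c ≤ -1 → IntLib.chiC k (pcls σ c) = 0 := fun c h h' => by
    haveI : ∀ i, Subsingleton (Coh.HH X ((Scheme.Modules.pullback σ).obj (Twist.twistProjSpace 2 k c)) i) :=
      fun i => subsingleton_HH_pullback_twist P hPc hZ σ hσ (by omega) c i (by omega) (by omega)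
    rw [pcls, IntLib.chiC_mk, hsum]
    simp [Module.finrank_zero_of_subsingleton]
  have h0 : IntLib.chiC k (pcls σ 0) = 1 := by
    have hc : IntLib.mk (Coh.structureModule X) = pcls σ 0 := by rw [pcls_zero, IntLib.mk_structureModule]
    haveI : ∀ i, Subsingleton (Coh.HH X (Coh.structureModule X) (i + 1)) := fun i =>
      Van.of _ rfl (subsingleton_HH_pullback_twist P hPc hZ σ hσ (by omega) 0 (i + 1) (by omega) (by omega)) _ hc
    rw [← hc, IntLib.chiC_mk, hsum, CurveLib.finrank_H0_structure (k := k),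
      Module.finrank_zero_of_subsingleton, show (2 : ℕ) = 1 + 1 from rfl, Module.finrank_zero_of_subsingleton]
    simp
  have hd : ∀ c : ℤ, IntLib.chiC k (pcls σ c) - 3 * IntLib.chiC k (pcls σ (c + 1)) +
      3 * IntLib.chiC k (pcls σ (c + 2)) - IntLib.chiC k (pcls σ (c + 3)) = 0 := fun c => by
    have e := chiC_third (k := k) hdim.le (hT c) (hT 1) (hT 1) (hT 1)
    change IntLib.chiC k (pcls σ c) - IntLib.chiC k (pcls σ c * pcls σ 1) - IntLib.chiC k (pcls σ c * pcls σ 1)
      - IntLib.chiC k (pcls σ c * pcls σ 1) + IntLib.chiC k (pcls σ c * pcls σ 1 * pcls σ 1)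
      + IntLib.chiC k (pcls σ c * pcls σ 1 * pcls σ 1) + IntLib.chiC k (pcls σ c * pcls σ 1 * pcls σ 1)
      - IntLib.chiC k (pcls σ c * pcls σ 1 * pcls σ 1 * pcls σ 1) = 0 at e
    simp only [← pcls_add] at e
    rw [show c + 1 + 1 + 1 = c + 3 by ring, show c + 1 + 1 = c + 2 by ring] at e
    linarith
  have e1 := hd (-2)
  have e2 := hd (-1)
  norm_num at e1 e2
  rw [hz (-2) le_rfl (by omega), hz (-1) (by omega) le_rfl, h0] at e1
  rw [hz (-1) (by omega) le_rfl, h0] at e2
  exact ⟨h0, by linarith, by linarith⟩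

theorem euler_structure_plane : Curv2.euler k X (Coh.structureModule X) = 1 := by
  rw [← IntLib.chiC_mk, IntLib.mk_structureModule, ← pcls_zero σ]
  exact (euler_plane_twists P hPc hZ σ hσ hdim).1

theorem form_H_H {hH : PicF.IsInvertible ((Scheme.Modules.pullback σ).obj (Twist.twistProjSpace 2 k 1))} :
    form k (cl hH) (cl hH) = 1 := by
  obtain ⟨h0, h1, h2⟩ := euler_plane_twists P hPc hZ σ hσ hdim
  let o := MonoidAlgebra.of ℤ (IntLib.Inv X)
  have e : cl hH * cl hH = o (IntLib.inv' hH * IntLib.inv' hH) - o (IntLib.inv' hH) - o (IntLib.inv' hH) + o 1 := by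
    show (o (IntLib.inv' hH) - 1) * (o (IntLib.inv' hH) - 1) = _
    rw [map_mul, map_one]; ring
  rw [form, e, map_add, map_sub, map_sub]
  simp only [o, IntLib.pairing_of, Submonoid.coe_mul, Submonoid.coe_one, mul_one, IntLib.mk_structureModule, one_mul]
  change IntLib.chiC k (pcls σ 1 * pcls σ 1) - IntLib.chiC k (pcls σ 1) - IntLib.chiC k (pcls σ 1) +
    IntLib.chiC k 1 = 1
  rw [← pcls_add, ← pcls_zero σ, h0, h1, show (1 : ℤ) + 1 = 2 by norm_num, h2]
  norm_num

variable [Smooth (X ↘ (Spec (CommRingCat.of k)))]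

theorem form_canonical_H {W : X.Modules} (hW : ExtPow.IsExtPow 2 (Omega.sheaf (X ↘ (Spec (CommRingCat.of k)))) W)
    (hWi : PicF.IsInvertible W) {hH : PicF.IsInvertible ((Scheme.Modules.pullback σ).obj (Twist.twistProjSpace 2 k 1))} :
    form k (cl hWi) (cl hH) = -3 := by
  obtain ⟨h0, h1, h2⟩ := euler_plane_twists P hPc hZ σ hσ hdim
  obtain ⟨-, hd, -⟩ := canonical_data_proper k hdim hW
  have h := two_mul_euler_of_duality k hdim.le hWi hd hH
  rw [intNum_eq_form k hdim.le hH hH, intNum_eq_form k hdim.le hH hWi, form_H_H P hPc hZ σ hσ hdim,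
    euler_structure_plane P hPc hZ σ hσ hdim, ← IntLib.chiC_mk] at h
  rw [form_comm]
  change 2 * IntLib.chiC k (pcls σ 1) = _ at h
  linarith

theorem subsingleton_H2_plane (hσk : σ ≫ CohB1.ProjSpace.toSpec 2 k = X ↘ (Spec (CommRingCat.of k)))
    {L : X.Modules} (hL : PicF.IsInvertible L)
    (hLH : -2 ≤ FGA.intNum k X 2 ![L, ((Scheme.Modules.pullback σ).obj (Twist.twistProjSpace 2 k 1))] (Coh.structureModule X)) :
    Subsingleton (Coh.HH X L 2) := by
  haveI := EulerIneqLib.isNoetherian_proper (X := X) k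
  obtain ⟨hH, hn⟩ := nefP_plane k σ hσk
  rw [intNum_eq_form k hdim.le hL hH] at hLH
  obtain ⟨W, hW⟩ := exists_canonical_proper k (X := X)
  obtain ⟨hWi, -, hd2⟩ := canonical_data_proper k hdim hW
  have hWH := form_canonical_H P hPc hZ σ hσ hdim hW hWi (hH := hH)
  obtain ⟨L', hL', ⟨e⟩⟩ := AmpleEmb.exists_isInverseOf hL
  haveI := EulerIneqLib.finite_HH (k := k) (CurveLib.isCoh_of_isInvertible hL) 2
  by_contra hns
  rw [not_subsingleton_iff_nontrivial] at hns
  have hWL := AmpleLib.isInvertible_tensor hWi hL'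
  have h0 : Nontrivial (Coh.HH X (CohB1.tensorMod W L') 0) :=
    Module.nontrivial_of_finrank_pos (R := k) (by rw [hd2 L L' hL ⟨e⟩ 0 (by omega)]; exact Module.finrank_pos)
  have h1 := form_nef_section k hdim hn hWL h0
  have e1 : form k (cl hWL) (cl hH) = form k (cl hWi) (cl hH) - form k (cl hL) (cl hH) := by
    rw [form_congr k hdim (w := cl hWi + (-1 : ℤ) • cl hL) ?_ (cl_mem hH), form_add_left, form_smul_left]
    · ring
    · rw [show cl hWL - (cl hWi + (-1 : ℤ) • cl hL) = (cl hL - IntLib.dif hL') + cl hWi * cl hL' by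
        rw [show cl hWL = cl (AmpleLib.isInvertible_tensor hWi hL') from rfl, cl_tensor hWi hL', cl_eq_neg_dif hL']
        simp only [neg_smul, one_smul]; ring]
      refine add_mem (cl_mul_inverse_mem hL hL' e) ?_
      rw [pow_two]; exact Ideal.mul_mem_mul (cl_mem _) (cl_mem _)
  omega

end Groth.Agent.BlowExcLib
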