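import Groth.Agent.BlowExcLib.PointTwist
import Groth.Agent.ProjTwist.Vanish
import Groth.Agent.CurveLib.Inv

/-!
# Twists on the blow-up of projective space in finitely many points
-/

set_option autoImplicit false
set_option backward.isDefEq.respectTransparency false
set_option linter.style.haveILetI false
set_option maxHeartbeats 1000000

universe u

open CategoryTheory CategoryTheory.Limits AlgebraicGeometry TopologicalSpace Opposite
open Groth.Agent.PullbackMod Groth.Agent.DCohLib Groth.Agent.AmpleLib Groth.Agent.IntLib Groth.Agent.BlowExistsLib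

noncomputable section

namespace Groth.Agent.BlowExcLib

variable {k : Type u} [Field k] [IsAlgClosed k] {n s : ℕ} (P : Fin s → ↥(CohB1.ProjSpace n k))
  (hP : Function.Injective P) (hPc : ∀ t, IsClosed ({P t} : Set ↥(CohB1.ProjSpace n k))) (hZ : IsClosed (Set.range P))
  {X : Scheme.{u}} (π : X ⟶ CohB1.ProjSpace n k)
  (hπ : BlowUp.IsBlowUp π (Scheme.IdealSheafData.vanishingIdeal ⟨Set.range P, hZ⟩))

omit [IsAlgClosed k] in
theorem isInvertible_twist (c : ℤ) : PicF.IsInvertible (Twist.twistProjSpace n k c) :=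
  ProjTwistLib.isInvertible_of_hasUnit (hasUnit_one n k c)

theorem isLocallyNoetherian_pn : IsLocallyNoetherian (CohB1.ProjSpace n k) :=
  LocallyOfFiniteType.isLocallyNoetherian (CohB1.ProjSpace.toSpec n k)

include hπ in
theorem isNoetherian_blow : IsNoetherian X := by
  haveI := isLocallyNoetherian_pn (k := k) (n := n)
  haveI : IsNoetherian (CohB1.ProjSpace n k) := RGBlowLib.Union.isNoetherian_of_ft (CohB1.ProjSpace.toSpec n k)
  haveI := isProper_blowUp hπ
  exact RGBlowLib.Union.isNoetherian_of_ft π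

include hPc hπ in
/-- Twists pulled back from projective space keep their cohomology. -/
theorem nonempty_HH_pullback_equiv (hn : 1 ≤ n) {N : (CohB1.ProjSpace n k).Modules} (hN : PicF.IsInvertible N) (i : ℕ) :
    Nonempty (Coh.HH X ((Scheme.Modules.pullback π).obj N) i ≃+ Coh.HH (CohB1.ProjSpace n k) N i) := by
  haveI := isLocallyNoetherian_pn (k := k) (n := n)
  have hNC : IsNiceCentre 0 (Scheme.IdealSheafData.vanishingIdeal ⟨Set.range P, hZ⟩) :=
    isNiceCentre_projSpace_points hn P hPc hZ
  have hNf : FlatMod.IsFinLocFree N := CurveLib.isFinLocFree_of_isInvertible hN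
  haveI := isIso_unit hπ hNC (AlterN1.isNormalScheme_of_regular _ fun x => ProjSerreLib.regular_stalk x) hNf
  obtain ⟨e⟩ := SpDegen.nonempty_leray_acyclic_push π.base (Coh.toAb ((Scheme.Modules.pullback π).obj N))
    (fun q => isZero_rpushAb_locFree hπ hNC hNf (q + 1) q.succ_pos) i
  let u := asIso ((Scheme.Modules.pullbackPushforwardAdjunction π).unit.app N)
  let F := QCohLib.toAbF (CohB1.ProjSpace n k)
  let a : Coh.HH (CohB1.ProjSpace n k) ((Scheme.Modules.pushforward π).obj ((Scheme.Modules.pullback π).obj N)) i ≃+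
      Coh.HH (CohB1.ProjSpace n k) N i :=
    { toFun := Sheaf.H.map (F.map u.inv) i
      invFun := Sheaf.H.map (F.map u.hom) i
      left_inv := fun z => (Sheaf.H.map_comp_apply _ _ z).symm.trans
        ((congrArg (fun g => Sheaf.H.map g i z) ((F.map_comp _ _).symm.trans (by rw [Iso.inv_hom_id, F.map_id]))).trans
          (Sheaf.H.map_id_apply z))
      right_inv := fun z => (Sheaf.H.map_comp_apply _ _ z).symm.trans
        ((congrArg (fun g => Sheaf.H.map g i z) ((F.map_comp _ _).symm.trans (by rw [Iso.hom_inv_id, F.map_id]))).trans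
          (Sheaf.H.map_id_apply z))
      map_add' := map_add _ }
  exact ⟨e.trans a⟩

include hPc hπ in
theorem subsingleton_HH_pullback_twist (hn : 1 ≤ n) (c : ℤ) (i : ℕ) (h₀ : ¬ (i = 0 ∧ 0 ≤ c))
    (h₁ : ¬ (i = n ∧ c ≤ -((n : ℤ) + 1))) :
    Subsingleton (Coh.HH X ((Scheme.Modules.pullback π).obj (Twist.twistProjSpace n k c)) i) := by
  obtain ⟨e⟩ := nonempty_HH_pullback_equiv P hPc hZ π hπ hn (isInvertible_twist (k := k) (n := n) c) i
  haveI : Subsingleton (Coh.HH (CohB1.ProjSpace n k) (Twist.twistProjSpace n k c) i) :=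
    ProjTwist.subsingleton_HH n k c i h₀ h₁
  exact e.toEquiv.subsingleton

include hP hPc hπ in
/-- Degrees at least two do not see the multiplicities; degree zero can only get smaller. -/
theorem subsingleton_HH_twist (hn : 2 ≤ n) (c : ℤ) (i : ℕ) (hi : i ≠ 1) (h₀ : ¬ (i = 0 ∧ 0 ≤ c))
    (h₁ : ¬ (i = n ∧ c ≤ -((n : ℤ) + 1))) (d : Fin s → ℕ) {M : X.Modules}
    (hM : IntLib.mk M = twistCls P hPc π (Twist.twistProjSpace n k c) d) : Subsingleton (Coh.HH X M i) := by
  haveI := isLocallyNoetherian_pn (k := k) (n := n)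
  haveI := isNoetherian_blow P hZ π hπ
  refine twist_induction P hP hPc hZ (fun t => ProjSerreLib.regular_stalk (P t))
    (fun t => ProjSerreLib.dim_closed_point (hPc t)) π hπ (isInvertible_twist c) (by omega)
    (fun M => Subsingleton (Coh.HH X M i)) (fun e h => CurveLib.subsingleton_HH_iso e i h)
    (subsingleton_HH_pullback_twist P hPc hZ π hπ (by omega) c i h₀ h₁) (fun S hS h3 h2 => ?_) d hM
  rcases i with _ | i
  · haveI := hS.mono_f
    exact subsingleton_HH_zero_of_mono S.f h2
  · exact AffStratLib.subsingleton_left hS i (h3 i (by omega)) h2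

end Groth.Agent.BlowExcLib
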