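import Groth.Agent.BlowExcLib.Projection
import Groth.Agent.BlowExcLib.KoszulBound
import Groth.Agent.CMRegLib.OnX

/-!
# Cohomology of the twists on the blow-up of projective space in one point
-/

set_option autoImplicit false
set_option backward.isDefEq.respectTransparency false
set_option linter.style.haveILetI false
set_option maxHeartbeats 1000000

universe u

open CategoryTheory CategoryTheory.Limits AlgebraicGeometry TopologicalSpace Opposite
open Groth.Agent.PullbackMod Groth.Agent.DCohLib Groth.Agent.AmpleLib Groth.Agent.IntLib Groth.Agent.BlowExistsLib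

noncomputable section

namespace Groth.Agent.BlowExcLib

/-- An additive family of units is a family of powers. -/
theorem eq_zpow_of_add {G : Type*} [CommMonoid G] (f : ℤ → G) (h0 : f 0 = 1) (hadd : ∀ a b, f (a + b) = f a * f b)
    (u : Gˣ) (hu : (u : G) = f 1) (d : ℤ) : f d = ((u ^ d : Gˣ) : G) := by
  induction d using Int.induction_on with
  | zero => rw [h0, zpow_zero, Units.val_one]
  | succ i hi => rw [hadd, hi, zpow_add_one, Units.val_mul, hu]
  | pred i hi =>
    refine (Units.mul_left_inj u).1 ?_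
    rw [← Units.val_mul, zpow_sub_one, inv_mul_cancel_right, hu, ← hadd, sub_add_cancel, hi]

/-- Cohomology of a class vanishes. -/
def Van {X : Scheme.{u}} (c : MCls X) (q : ℕ) : Prop :=
  ∀ M : X.Modules, IntLib.mk M = c → Subsingleton (Coh.HH X M q)

theorem Van.of {X : Scheme.{u}} {c : MCls X} {q : ℕ} (M : X.Modules) (hM : IntLib.mk M = c)
    (h : Subsingleton (Coh.HH X M q)) : Van c q := fun _ hN =>
  CurveLib.subsingleton_HH_iso (mk_eq_mk.1 (hM.trans hN.symm)).some q h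

section Pull

variable {k : Type u} [CommRing k] {n : ℕ} {X : Scheme.{u}} (f : X ⟶ CohB1.ProjSpace n k)

/-- The class of a pulled back twist. -/
def pcls (c : ℤ) : MCls X := IntLib.mk ((Scheme.Modules.pullback f).obj (Twist.twistProjSpace n k c))

theorem pcls_add (a b : ℤ) : pcls f (a + b) = pcls f a * pcls f b := by
  rw [pcls, pcls, pcls, ← mk_pullback_tensor]
  exact mk_pullback_congr f ((mk_twist_mul n k a b).symm.trans (mk_tensor _ _).symm)

theorem pcls_zero : pcls f 0 = 1 :=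
  (mk_pullback_congr f ((mk_twist_zero n k).trans mk_structureModule.symm)).trans (mk_pullback_one f)

/-- The unit of `O(1)`. -/
def punit : (MCls X)ˣ :=
  ⟨pcls f 1, pcls f (-1), by rw [← pcls_add, add_neg_cancel, pcls_zero], by rw [← pcls_add, neg_add_cancel, pcls_zero]⟩

theorem pcls_eq_zpow (c : ℤ) : pcls f c = ((punit f ^ c : (MCls X)ˣ) : MCls X) :=
  eq_zpow_of_add (pcls f) (pcls_zero f) (pcls_add f) (punit f) rfl c

end Pull

section Point

variable {k : Type u} [Field k] [IsAlgClosed k] {n : ℕ} (p : ↥(CohB1.ProjSpace n k))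
  (hp : IsClosed ({p} : Set ↥(CohB1.ProjSpace n k))) {X : Scheme.{u}} (π : X ⟶ CohB1.ProjSpace n k)
  (hπ : BlowUp.IsBlowUp π (Scheme.IdealSheafData.vanishingIdeal ⟨{p}, hp⟩))

/-- The ideal of the exceptional divisor. -/
abbrev eIdeal : X.IdealSheafData := (Scheme.IdealSheafData.vanishingIdeal ⟨{p}, hp⟩).comap π

omit [IsAlgClosed k] in
include hπ in
theorem isBlowUp_range : ∀ hZ : IsClosed (Set.range fun _ : Fin 1 => p),
    BlowUp.IsBlowUp π (Scheme.IdealSheafData.vanishingIdeal ⟨Set.range fun _ : Fin 1 => p, hZ⟩) := by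
  intro hZ
  rwa [show (⟨Set.range fun _ : Fin 1 => p, hZ⟩ : Closeds ↥(CohB1.ProjSpace n k)) = ⟨{p}, hp⟩ from
    Closeds.ext Set.range_const]

include hπ in
omit [IsAlgClosed k] in
theorem exists_eUnit : ∃ u : (MCls X)ˣ, (u : MCls X) = IntLib.mk (ClSub.idealMod (eIdeal p hp π)) := by
  obtain ⟨N, -, ⟨e⟩⟩ := AmpleEmb.exists_isInverseOf ((Groth.Agent.S8914.result (eIdeal p hp π)).2 hπ.1)
  have h := (mk_congr e).trans mk_structureModule
  rw [mk_tensor] at h
  exact ⟨⟨_, IntLib.mk N, h, (mul_comm _ _).trans h⟩, rfl⟩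

/-- The unit of the exceptional ideal. -/
def eUnit : (MCls X)ˣ := (exists_eUnit p hp π hπ).choose

/-- The class `π^* O(c) ⊗ J^D`. -/
def Mcl (c D : ℤ) : MCls X := pcls π c * ((eUnit p hp π hπ ^ D : (MCls X)ˣ) : MCls X)

omit [IsAlgClosed k] in
theorem eUnit_eq : (eUnit p hp π hπ : MCls X) = IntLib.mk (ClSub.idealMod (eIdeal p hp π)) :=
  (exists_eUnit p hp π hπ).choose_spec

omit [IsAlgClosed k] in
theorem Mcl_zero (c : ℤ) : Mcl p hp π hπ c 0 = pcls π c := by rw [Mcl, zpow_zero, Units.val_one, mul_one]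

omit [IsAlgClosed k] in
theorem Mcl_natCast (c : ℤ) (d : ℕ) : Mcl p hp π hπ c (d : ℤ) = IntLib.mk (CohB1.tensorMod
    ((Scheme.Modules.pullback π).obj (Twist.twistProjSpace n k c)) (CohB1.tensorPow (ClSub.idealMod (eIdeal p hp π)) d)) := by
  rw [Mcl, zpow_natCast, Units.val_pow_eq_pow_val, eUnit_eq, mk_tensor, mk_tensorPow]
  rfl

omit [IsAlgClosed k] in
theorem exists_mod (c D : ℤ) : ∃ M : X.Modules, IntLib.mk M = Mcl p hp π hπ c D ∧ PicF.IsInvertible M := by
  obtain ⟨d, rfl | rfl⟩ := D.eq_nat_or_neg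
  · exact ⟨_, (Mcl_natCast p hp π hπ c d).symm, isInvertible_tensor (isInvertible_pullback π (isInvertible_twist c))
      (isInvertible_tensorPow ((Groth.Agent.S8914.result _).2 hπ.1) d)⟩
  · obtain ⟨N, hN, ⟨e⟩⟩ := AmpleEmb.exists_isInverseOf ((Groth.Agent.S8914.result (eIdeal p hp π)).2 hπ.1)
    refine ⟨CohB1.tensorMod ((Scheme.Modules.pullback π).obj (Twist.twistProjSpace n k c)) (CohB1.tensorPow N d), ?_,
      isInvertible_tensor (isInvertible_pullback π (isInvertible_twist c)) (isInvertible_tensorPow hN d)⟩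
    have h := (mk_congr e).trans mk_structureModule
    rw [mk_tensor, ← eUnit_eq p hp π hπ] at h
    rw [Mcl, zpow_neg, zpow_natCast, ← inv_pow, Units.val_pow_eq_pow_val,
      show ((eUnit p hp π hπ)⁻¹ : (MCls X)ˣ).1 = IntLib.mk N from Units.inv_eq_of_mul_eq_one_right h,
      mk_tensor, mk_tensorPow]
    rfl

include hπ in
theorem van_base (hn : 2 ≤ n) (c : ℤ) (i : ℕ) (h₀ : ¬ (i = 0 ∧ 0 ≤ c)) (h₁ : ¬ (i = n ∧ c ≤ -((n : ℤ) + 1))) :
    Van (pcls π c) i := by
  have hZ : IsClosed (Set.range fun _ : Fin 1 => p) := by rw [Set.range_const]; exact hp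
  exact Van.of _ rfl (subsingleton_HH_pullback_twist (fun _ : Fin 1 => p) (fun _ => hp) hZ π
    (isBlowUp_range p hp π hπ hZ) (by omega) c i h₀ h₁)

theorem van_nonneg (hn : 2 ≤ n) (c : ℤ) (d i : ℕ) (hi : i ≠ 1) (h₀ : ¬ (i = 0 ∧ 0 ≤ c))
    (h₁ : ¬ (i = n ∧ c ≤ -((n : ℤ) + 1))) : Van (Mcl p hp π hπ c (d : ℤ)) i := by
  have hZ : IsClosed (Set.range fun _ : Fin 1 => p) := by rw [Set.range_const]; exact hp
  intro M hM
  refine subsingleton_HH_twist (fun _ : Fin 1 => p) (fun a b _ => Subsingleton.elim a b) (fun _ => hp) hZ π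
    (isBlowUp_range p hp π hπ hZ) hn c i hi h₀ h₁ (fun _ => d) ?_
  rw [hM, Mcl, zpow_natCast, Units.val_pow_eq_pow_val, eUnit_eq, twistCls, Fin.prod_univ_one]
  rfl

/-- The restriction sequences. -/
theorem exists_seq_exc (hn : 2 ≤ n) (c D : ℤ) : ∃ S : ShortComplex X.Modules, S.ShortExact ∧
    IntLib.mk S.X₁ = Mcl p hp π hπ c (D + 1) ∧ IntLib.mk S.X₂ = Mcl p hp π hπ c D ∧
    ∀ q : ℕ, ¬ (q = 0 ∧ 0 ≤ D) → ¬ (q + 1 = n ∧ D ≤ -(n : ℤ)) → Subsingleton (Coh.HH X S.X₃ q) := by
  haveI := isLocallyNoetherian_pn (k := k) (n := n)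
  have hZ : IsClosed (Set.range fun _ : Fin 1 => p) := by rw [Set.range_const]; exact hp
  have hπ' := isBlowUp_range p hp π hπ hZ
  haveI := isNoetherian_blow (fun _ : Fin 1 => p) hZ π hπ'
  obtain ⟨M, hM, hMi⟩ := exists_mod p hp π hπ c D
  let j := (eIdeal p hp π).subschemeι
  obtain ⟨S, hS, e1, ⟨e2⟩, ⟨e3⟩, -⟩ := RatSingLib.exists_seq j hMi
  refine ⟨S, hS, ?_, (mk_congr e2).trans hM, fun q h₀ h₁ => ?_⟩
  · rw [e1, Scheme.IdealSheafData.ker_subschemeι, mk_tensor, hM, ← eUnit_eq p hp π hπ, Mcl, Mcl,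
      add_comm D 1, zpow_add, zpow_one, Units.val_mul, mul_left_comm]
  obtain ⟨R, hR, r, hr, ⟨τ⟩⟩ := exists_exc_point (fun _ : Fin 1 => p) (fun a b _ => Subsingleton.elim a b) (fun _ => hp) hZ
    (fun _ => ProjSerreLib.regular_stalk p) (n := n) (fun _ => ProjSerreLib.dim_closed_point hp) π hπ' 0
    (m := n - 1) (by omega)
  haveI := hr
  haveI : Coh.IsQCoh ((Scheme.Modules.pullback j).obj M) :=
    InvExt.isQCoh_of_isInvertible (isInvertible_pullback _ hMi)
  haveI := isQCoh_twistProjSpace (n - 1) R D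
  obtain ⟨E⟩ := SuppHHLib.nonempty_HH_push j ((Scheme.Modules.pullback j).obj M) q
  refine CurveLib.subsingleton_HH_iso e3.symm q ?_
  haveI : Subsingleton (Coh.HH (eIdeal p hp π).subscheme ((Scheme.Modules.pullback j).obj M) q) := by
    refine CurveLib.subsingleton_HH_iso (mk_eq_mk.1 ?_).some q
      (CanonFac.subsingleton_HH_pullback r (Twist.twistProjSpace (n - 1) R D) q
        (ProjTwist.subsingleton_HH (n - 1) R D q h₀ (fun h => h₁ ⟨by omega, by omega⟩)))
    show pcls r D = IntLib.pullCls j (IntLib.mk M)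
    have hu : Units.map (IntLib.pullCls j) (eUnit p hp π hπ) = punit r := Units.ext (by
      show IntLib.pullCls j (eUnit p hp π hπ : MCls X) = pcls r 1
      rw [eUnit_eq]
      exact (mk_congr τ).symm)
    have hb : IntLib.pullCls j (pcls π c) = 1 :=
      mk_pullback_base (fun _ : Fin 1 => p) (fun _ => hp) π 0 (isInvertible_twist c)
    rw [hM, Mcl, map_mul, hb, one_mul, pcls_eq_zpow, ← hu, ← map_zpow]
    rfl
  exact E.symm.toEquiv.subsingleton

/-- Few twists by the exceptional divisor do not change the cohomology below the top degrees. -/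
theorem van_nonpos (hn : 2 ≤ n) (c : ℤ) (i : ℕ) (h : Van (pcls π c) i) :
    ∀ d : ℕ, (i + 2 ≤ n ∨ d + 1 ≤ n) → Van (Mcl p hp π hπ c (-(d : ℤ))) i
  | 0, _ => by rw [Nat.cast_zero, neg_zero, Mcl_zero]; exact h
  | d + 1, hd => by
    obtain ⟨S, hS, h1, h2, h3⟩ := exists_seq_exc p hp π hπ hn c (-((d + 1 : ℕ) : ℤ))
    refine Van.of S.X₂ h2 ?_
    haveI : Subsingleton (Coh.HH X S.X₁ i) := van_nonpos hn c i h d (by omega) S.X₁
      (h1.trans (congrArg (Mcl p hp π hπ c) (by push_cast; ring)))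
    haveI : Subsingleton (Coh.HH X S.X₃ i) := h3 i (by omega) (fun hh => by push_cast at hh; omega)
    exact CurveLib.subsingleton_mid hS i

omit [IsAlgClosed k] in
/-- The class of a twist of pulled back multiplication data. -/
theorem mk_xData_F {m : ℕ} (f : X ⟶ CohB1.ProjSpace m k) (L : X.Modules) (d : ℤ) :
    IntLib.mk ((CMRegLib.xData k f L).F d) = IntLib.mk L * pcls f d := mk_tensor _ _

include hπ in
/-- The twists `π^* O(-1) ⊗ q^* O(a)` have no cohomology. -/
theorem van_diagonal (hn : 2 ≤ n) (a : ℤ) (i : ℕ) : Van (Mcl p hp π hπ (a - 1) a) i := by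
  obtain ⟨m, rfl⟩ : ∃ m, n = m + 1 := ⟨n - 1, by omega⟩
  obtain ⟨q, hq⟩ := exists_projection p hp π hπ.1
  let T := CMRegLib.xData k q ((Scheme.Modules.pullback π).obj (Twist.twistProjSpace (m + 1) k (-1)))
  have hu : punit q = punit π * eUnit p hp π hπ := Units.ext (by rw [Units.val_mul, eUnit_eq]; exact hq)
  have hT : ∀ b : ℤ, IntLib.mk (T.F b) = Mcl p hp π hπ (b - 1) b := fun b => by
    rw [mk_xData_F, pcls_eq_zpow q, hu, mul_zpow, Units.val_mul, ← pcls_eq_zpow π, ← mul_assoc, Mcl]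
    congr 1
    exact (pcls_add π (-1) b).symm.trans (congrArg _ (by ring))
  have hcard : Fintype.card (Fin (m + 1)) = m + 1 := Fintype.card_fin _
  suffices key : ∀ (N : ℕ) (b : ℤ) (i : ℕ), -(m : ℤ) - N ≤ b → b ≤ N → Subsingleton (Coh.HH X (T.F b) i) by
    exact Van.of _ (hT a) (key a.natAbs a i (by omega) (by omega))
  intro N
  induction N with
  | zero =>
    intro b i hb hb'
    obtain ⟨d, rfl⟩ : ∃ d : ℕ, b = -(d : ℤ) := ⟨(-b).toNat, by omega⟩
    exact van_nonpos p hp π hπ hn (-(d : ℤ) - 1) i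
      (van_base p hp π hπ hn _ i (fun h => by omega) (fun h => by omega)) d (Or.inr (by omega)) _ (hT _)
  | succ N ih =>
    intro b i hb hb'
    by_cases h1 : b ≤ N
    · by_cases h2 : -(m : ℤ) - N ≤ b
      · exact ih b i h2 h1
      · exact koszul_vanish_left_bdd T b i fun e _ he => ih _ _ (by rw [hcard] at he; omega) (by rw [hcard] at he; omega)
    · exact koszul_vanish_bdd T b i fun e he => ih _ _ (by rw [hcard] at he; omega) (by rw [hcard] at he; omega)

/-- Vanishing of the first cohomology. -/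
theorem van_one (hn : 2 ≤ n) (c : ℤ) (d : ℕ) (hcd : (d : ℤ) ≤ c + 1) : Van (Mcl p hp π hπ c (d : ℤ)) 1 := by
  obtain ⟨L, hL, -⟩ := exists_mod p hp π hπ 0 (d : ℤ)
  let T := CMRegLib.xData k π L
  have hT : ∀ c' : ℤ, IntLib.mk (T.F c') = Mcl p hp π hπ c' (d : ℤ) := fun c' => by
    rw [mk_xData_F, hL, Mcl, Mcl, pcls_zero, one_mul, mul_comm]
  induction c, (show (d : ℤ) - 1 ≤ c by omega) using Int.le_induction with
  | base => exact van_diagonal p hp π hπ (by omega) (d : ℤ) 1
  | succ c hc ih =>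
    refine Van.of _ (hT (c + 1)) (koszul_vanish_bdd T (c + 1) 1 fun e he => ?_)
    rcases Nat.eq_zero_or_pos e with rfl | he0
    · exact ih (by omega) _ ((hT _).trans (by simp))
    · exact van_nonneg p hp π hπ (by omega) _ d (1 + e) (by omega) (by omega) (by omega) _ (hT _)

/-- Vanishing below the top degree for negative multiples. -/
theorem van_sub_one (hn : 2 ≤ n) (c : ℤ) (d : ℕ) (hcd : c + d + 1 ≤ 0) :
    Van (Mcl p hp π hπ c (-(d : ℤ))) (n - 1) := by
  rcases lt_or_ge d n with hdn | hdn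
  · exact van_nonpos p hp π hπ (by omega) c (n - 1) (van_base p hp π hπ (by omega) c _ (by omega) (by omega)) d
      (Or.inr (by omega))
  obtain ⟨L, hL, -⟩ := exists_mod p hp π hπ 0 (-(d : ℤ))
  let T := CMRegLib.xData k π L
  have hT : ∀ c' : ℤ, IntLib.mk (T.F c') = Mcl p hp π hπ c' (-(d : ℤ)) := fun c' => by
    rw [mk_xData_F, hL, Mcl, Mcl, pcls_zero, one_mul, mul_comm]
  suffices key : ∀ N : ℕ, Subsingleton (Coh.HH X (T.F (-(d : ℤ) - 1 - N)) (n - 1)) by
    have := key (-(c + d + 1)).toNat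
    rw [show -(d : ℤ) - 1 - ((-(c + d + 1)).toNat : ℤ) = c by omega] at this
    exact Van.of _ (hT c) this
  intro N
  induction N with
  | zero =>
    refine van_diagonal p hp π hπ (by omega) (-(d : ℤ)) (n - 1) _ ((hT _).trans ?_)
    rw [Nat.cast_zero, sub_zero]
  | succ N ih =>
    refine koszul_vanish_left_bdd T _ (n - 1) fun e he he' => ?_
    rcases Nat.eq_zero_or_pos e with rfl | he0
    · rwa [Nat.sub_zero, show -(d : ℤ) - 1 - ((N + 1 : ℕ) : ℤ) + 1 + ((0 : ℕ) : ℤ) = -(d : ℤ) - 1 - N by push_cast; ring]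
    · exact van_nonpos p hp π hπ (by omega) _ (n - 1 - e)
        (van_base p hp π hπ (by omega) _ _ (by push_cast; omega) (by omega)) d (Or.inl (by omega)) _ (hT _)

end Point

end Groth.Agent.BlowExcLib
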