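import Groth.Agent.BlowExcLib.Smooth
import Groth.Agent.KosDual.Chart
import Groth.Agent.TwistShriek.PointParams
import Groth.Agent.ProjSerreLib.Criterion

/-!
# Finitely many regular closed points as a centre
-/

set_option autoImplicit false
set_option backward.isDefEq.respectTransparency false
set_option linter.style.haveILetI false
set_option maxHeartbeats 1000000

universe u

open CategoryTheory CategoryTheory.Limits AlgebraicGeometry TopologicalSpace Opposite

noncomputable section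

namespace Groth.Agent.BlowExcLib

/-- Near a regular closed point of dimension `n` its ideal is cut out by a quasi-regular family of `n` elements. -/
theorem exists_point_params {Y : Scheme.{u}} [IsLocallyNoetherian Y] {U₀ : Y.Opens} (hU₀ : IsAffineOpen U₀) {y : Y}
    (hy : y ∈ U₀) (hyc : IsClosed ({y} : Set Y)) (hreg : IsRegularLocalRing (Y.presheaf.stalk y)) (n : ℕ)
    (hd : ringKrullDim (Y.presheaf.stalk y) = n) :
    ∃ (g : Γ(Y, U₀)) (f : Fin n → Γ(Y, Y.basicOpen g)), y ∈ Y.basicOpen g ∧ CAlgX.IsQuasiRegular f ∧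
      Ideal.span (Set.range f) = (hU₀.primeIdealOf ⟨y, hy⟩).asIdeal.map (Y.presheaf.map (homOfLE (Y.basicOpen_le g)).op).hom := by
  haveI : IsNoetherianRing Γ(Y, U₀) := IsLocallyNoetherian.component_noetherian (X := Y) ⟨U₀, hU₀⟩
  let m := (hU₀.primeIdealOf ⟨y, hy⟩).asIdeal
  letI : Algebra Γ(Y, U₀) (Y.presheaf.stalk y) := TopCat.Presheaf.algebra_section_stalk Y.presheaf ⟨y, hy⟩
  haveI : IsLocalization.AtPrime (Y.presheaf.stalk y) m := hU₀.isLocalization_stalk ⟨y, hy⟩
  let e : Localization.AtPrime m ≃+* Y.presheaf.stalk y :=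
    (IsLocalization.algEquiv m.primeCompl (Localization.AtPrime m) (Y.presheaf.stalk y)).toRingEquiv
  haveI := hreg
  haveI : IsRegularLocalRing (Localization.AtPrime m) := IsRegularLocalRing.of_ringEquiv e.symm
  obtain ⟨g, fs, hg, hlen, hreg', hspan⟩ := KosDual.exists_params Γ(Y, U₀) m n ((ringKrullDim_eq_of_ringEquiv e).trans hd)
  letI : Algebra Γ(Y, U₀) Γ(Y, Y.basicOpen g) := (Y.presheaf.map (homOfLE (Y.basicOpen_le g)).op).hom.toAlgebra
  haveI : IsLocalization.Away g Γ(Y, Y.basicOpen g) := hU₀.isLocalization_basicOpen g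
  let φ := IsLocalization.algEquiv (Submonoid.powers g) (Localization.Away g) Γ(Y, Y.basicOpen g)
  subst hlen
  refine ⟨g, fun i => φ (fs.get i), ?_, isQuasiRegular_equiv φ.toRingEquiv.toRingHom φ.bijective
    (QRegLib.isQuasiRegular_of_isWeaklyRegular fs.get (by rw [List.ofFn_get]; exact hreg')), ?_⟩
  · rw [Y.mem_basicOpen _ y hy]
    exact IsLocalization.map_units (Y.presheaf.stalk y) (⟨g, hg⟩ : m.primeCompl)
  · have h := congrArg (Ideal.map φ.toRingEquiv.toRingHom) hspan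
    rw [Ideal.map_map, show φ.toRingEquiv.toRingHom.comp (algebraMap Γ(Y, U₀) (Localization.Away g)) =
      algebraMap Γ(Y, U₀) Γ(Y, Y.basicOpen g) from RingHom.ext fun a => φ.commutes a, Ideal.ofList, Ideal.map_span] at h
    refine Eq.trans ?_ h
    congr 1
    ext a
    constructor
    · rintro ⟨i, rfl⟩
      exact ⟨fs.get i, List.get_mem _ _, rfl⟩
    · rintro ⟨b, hb, rfl⟩
      obtain ⟨i, rfl⟩ := List.get_of_mem (show b ∈ fs from hb)
      exact ⟨i, rfl⟩

theorem isNiceCentre_points {Y : Scheme.{u}} [IsLocallyNoetherian Y] {s : ℕ} (P : Fin s → ↥Y)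
    (hPc : ∀ t, IsClosed ({P t} : Set Y)) (hZ : IsClosed (Set.range P))
    (hreg : ∀ t, IsRegularLocalRing (Y.presheaf.stalk (P t))) (n r : ℕ) (hr : r + 1 ≤ n)
    (hd : ∀ t, ringKrullDim (Y.presheaf.stalk (P t)) = n) :
    IsNiceCentre r (Scheme.IdealSheafData.vanishingIdeal ⟨Set.range P, hZ⟩) := by
  classical
  intro y
  by_cases hy : y ∈ Set.range P
  swap
  · obtain ⟨_, ⟨U : Y.Opens, hU, rfl⟩, hyU, hUW⟩ := Y.isBasis_affineOpens.exists_subset_of_mem_open
      (a := y) (u := (Set.range P)ᶜ) hy hZ.isOpen_compl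
    have hone : Ideal.span (Set.range fun _ : Fin (r + 1) => (1 : Γ(Y, U))) = ⊤ :=
      Ideal.eq_top_of_isUnit_mem _ (Ideal.subset_span ⟨0, rfl⟩) isUnit_one
    refine ⟨U, hyU, hU, r, _, le_rfl, isQuasiRegular_of_span_eq_top hone, Eq.trans ?_ hone.symm⟩
    have hpre : hU.fromSpec ⁻¹' (Set.range P) = ∅ :=
      Set.eq_empty_iff_forall_notMem.2 fun p hp => hUW (hU.range_fromSpec.le ⟨p, rfl⟩) hp
    show PrimeSpectrum.vanishingIdeal (hU.fromSpec ⁻¹' (Set.range P)) = _
    rw [hpre, PrimeSpectrum.vanishingIdeal_empty]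
  obtain ⟨t, rfl⟩ := hy
  have hC : IsClosed (Set.range P \ {P t}) :=
    (by
      rw [← Set.biUnion_of_singleton (Set.range P \ {P t})]
      exact ((Set.finite_range P).subset Set.sdiff_subset).isClosed_biUnion
        (by rintro _ ⟨⟨t', rfl⟩, -⟩; exact hPc t'))
  obtain ⟨_, ⟨U₀ : Y.Opens, hU₀, rfl⟩, hy₀, hU₀W⟩ := Y.isBasis_affineOpens.exists_subset_of_mem_open
    (a := P t) (u := (Set.range P \ {P t})ᶜ) (fun h => h.2 rfl) hC.isOpen_compl
  obtain ⟨g, f, hyg, hf, hspan⟩ := exists_point_params hU₀ hy₀ (hPc t) (hreg t) n (hd t)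
  obtain ⟨m, rfl⟩ : ∃ m, n = m + 1 := ⟨n - 1, by omega⟩
  refine ⟨Y.basicOpen g, hyg, hU₀.basicOpen g, m, f, by omega, hf, ?_⟩
  refine ((Scheme.IdealSheafData.vanishingIdeal ⟨Set.range P, hZ⟩).map_ideal_basicOpen ⟨U₀, hU₀⟩ g).symm.trans
    (Eq.trans ?_ hspan.symm)
  congr 1
  have hpre : hU₀.fromSpec ⁻¹' (Set.range P) = {hU₀.primeIdealOf ⟨P t, hy₀⟩} := by
    ext p
    refine ⟨fun h => hU₀.fromSpec.isOpenEmbedding.injective ((?_ : hU₀.fromSpec p = P t).trans
      (hU₀.fromSpec_primeIdealOf ⟨P t, hy₀⟩).symm), ?_⟩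
    · by_contra hne
      exact hU₀W (hU₀.range_fromSpec.le ⟨p, rfl⟩) ⟨h, hne⟩
    · rintro rfl
      exact ⟨t, (hU₀.fromSpec_primeIdealOf ⟨P t, hy₀⟩).symm⟩
  show PrimeSpectrum.vanishingIdeal (hU₀.fromSpec ⁻¹' (Set.range P)) = _
  rw [hpre, PrimeSpectrum.vanishingIdeal_singleton]

theorem isNiceCentre_projSpace_points {k : Type u} [Field k] [IsAlgClosed k] {n r : ℕ} (hr : r + 1 ≤ n) {s : ℕ}
    (P : Fin s → ↥(CohB1.ProjSpace n k)) (hPc : ∀ t, IsClosed ({P t} : Set ↥(CohB1.ProjSpace n k)))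
    (hZ : IsClosed (Set.range P)) :
    IsNiceCentre r (Scheme.IdealSheafData.vanishingIdeal ⟨Set.range P, hZ⟩) := by
  haveI : LocallyOfFiniteType (CohB1.ProjSpace.toSpec n k) := inferInstance
  haveI : IsLocallyNoetherian (CohB1.ProjSpace n k) := LocallyOfFiniteType.isLocallyNoetherian (CohB1.ProjSpace.toSpec n k)
  exact isNiceCentre_points P hPc hZ (fun t => ProjSerreLib.regular_stalk (P t)) n r hr
    (fun t => ProjSerreLib.dim_closed_point (hPc t))

end Groth.Agent.BlowExcLib
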