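import Groth.Agent.BlowExcLib.PnTwist
import Groth.Agent.ClImmLib.Chart
import Groth.Agent.ClImmLib.Crit
import Groth.Agent.CurveFF.Point2
import Groth.Agent.ProjUPLib.Free

/-!
# The projection from a point
-/

set_option autoImplicit false
set_option backward.isDefEq.respectTransparency false
set_option linter.style.haveILetI false
set_option maxHeartbeats 1000000

universe u

open CategoryTheory CategoryTheory.Limits AlgebraicGeometry TopologicalSpace Opposite
open Groth.Agent.PullbackMod Groth.Agent.DCohLib Groth.Agent.AmpleLib Groth.Agent.IntLib Groth.Agent.BlowExistsLib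

noncomputable section

namespace Groth.Agent.BlowExcLib

/-- The stalks of a tensor product with a submodule of the structure sheaf. -/
theorem exists_stalk_incl {X : Scheme.{u}} (J : X.IdealSheafData) (M : X.Modules) :
    ∃ ι' : CohB1.tensorMod (ClSub.idealMod J) M ⟶ M, ∀ x : X,
      ∃ v : M.presheaf.stalk x →ₗ[X.presheaf.stalk x] M.presheaf.stalk x, Function.Surjective v ∧
        (∀ r ∈ IntMult.stalkIdeal J x, ∀ m, ∃ z, stalkLin ι' x z = r • v m) ∧
        ∀ z, stalkLin ι' x z ∈ IntMult.stalkIdeal J x • (⊤ : Submodule (X.presheaf.stalk x) (M.presheaf.stalk x)) := by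
  refine ⟨((DCoh.tensorBi (X := X)).map (ClSub.idealModι J)).app M ≫ (unitL M).hom, fun x => ?_⟩
  let v : M.presheaf.stalk x →ₗ[X.presheaf.stalk x] M.presheaf.stalk x :=
    (stalkLin (unitL M).hom x).comp ((stalkTensor x (Coh.structureModule X) M).toLinearMap.comp
      (TensorProduct.mk _ _ _ (ParaFLib.oneG x)))
  have key : ∀ (a : (ClSub.idealMod J).presheaf.stalk x) (r : X.presheaf.stalk x) (m : M.presheaf.stalk x),
      stalkLin (ClSub.idealModι J) x a = r • ParaFLib.oneG x →
      stalkLin (((DCoh.tensorBi (X := X)).map (ClSub.idealModι J)).app M ≫ (unitL M).hom) x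
        (stalkTensor x (ClSub.idealMod J) M (TensorProduct.tmul _ a m)) = r • v m := fun a r m ha => by
    rw [stalkLin_comp, LinearMap.comp_apply, stalkTensor_natural_left, LinearMap.rTensor_tmul, ha,
      ← TensorProduct.smul_tmul', map_smul, map_smul]
    rfl
  refine ⟨v, ?_, fun r hr m => ?_, fun z => ?_⟩
  · show Function.Surjective (stalkLin (unitL M).hom x ∘ ((stalkTensor x (Coh.structureModule X) M) ∘
      (TensorProduct.mk _ _ _ (ParaFLib.oneG x))))
    refine ((isIso_iff_stalk (unitL M).hom).1 inferInstance x).2.comp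
      ((stalkTensor x (Coh.structureModule X) M).surjective.comp fun w => ?_)
    induction w using TensorProduct.induction_on with
    | zero => exact ⟨0, by simp⟩
    | tmul a m =>
      obtain ⟨r, rfl⟩ := (ParaFLib.bijective_oneG x).2 a
      exact ⟨r • m, by show TensorProduct.tmul _ (ParaFLib.oneG x) (r • m) = TensorProduct.tmul _ (r • ParaFLib.oneG x) m
                       rw [TensorProduct.smul_tmul]⟩
    | add a b ha hb =>
      obtain ⟨p, hp⟩ := ha
      obtain ⟨q, hq⟩ := hb
      exact ⟨p + q, by rw [map_add, hp, hq]⟩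
  · obtain ⟨a, ha⟩ := (HilbObsLib.mem_range_idealModι J x r).2 hr
    exact ⟨_, key a r m ha⟩
  · obtain ⟨w, rfl⟩ := (stalkTensor x (ClSub.idealMod J) M).surjective z
    induction w using TensorProduct.induction_on with
    | zero => rw [map_zero, map_zero]; exact zero_mem _
    | tmul a m =>
      obtain ⟨r, hr⟩ := (ParaFLib.bijective_oneG x).2 (stalkLin (ClSub.idealModι J) x a)
      refine Eq.subst (motive := fun z => z ∈ IntMult.stalkIdeal J x • (⊤ : Submodule (X.presheaf.stalk x) (M.presheaf.stalk x))) (key a r m hr.symm).symm ?_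
      exact Submodule.smul_mem_smul ((HilbObsLib.mem_range_idealModι J x r).1 ⟨a, hr.symm⟩) trivial
    | add a b ha hb => rw [map_add, map_add]; exact add_mem ha hb

variable {k : Type u} [Field k] [IsAlgClosed k] {n : ℕ}

open ClImmLib in
/-- Linear forms cutting out a closed point. -/
theorem exists_forms (p : ↥(CohB1.ProjSpace n k)) (hp : IsClosed ({p} : Set ↥(CohB1.ProjSpace n k))) :
    ∃ (j : Fin (n + 1)) (a : Fin (n + 1) → k), ∀ y : CohB1.ProjSpace n k, ∃ (l : Fin (n + 1)) (hy : y ∈ D (k := k) l),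
      Ideal.span (Set.range fun i : {i // i ≠ j} => ρ i.1 y hy - cst y (a i.1) * ρ j y hy) =
        IntMult.stalkIdeal (Scheme.IdealSheafData.vanishingIdeal ⟨{p}, hp⟩) y := by
  obtain ⟨j, hj⟩ := exists_mem_D (k := k) p
  obtain ⟨a, haj, ha⟩ := exists_coord hj hp
  refine ⟨j, a, fun y => ?_⟩
  have hs := CurveFF.stalkIdeal_point (X := CohB1.ProjSpace n k) hp
  by_cases hyj : y ∈ D (k := k) j
  · refine ⟨j, hyj, ?_⟩
    have e : Ideal.span (Set.range fun i : {i // i ≠ j} => ρ i.1 y hyj - cst y (a i.1) * ρ j y hyj) =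
        Ideal.span (Set.range fun i => ρ i y hyj - cst y (a i)) := by
      refine le_antisymm (Ideal.span_le.2 ?_) (Ideal.span_le.2 ?_)
      · rintro _ ⟨i, rfl⟩
        exact Ideal.subset_span ⟨i.1, by simp [ρ_self y hyj]⟩
      · rintro _ ⟨i, rfl⟩
        rcases eq_or_ne i j with rfl | hi
        · simp [ρ_self y hyj, haj]
        · exact Ideal.subset_span ⟨⟨i, hi⟩, by simp [ρ_self y hyj]⟩
    rw [e]
    rcases eq_or_ne y p with rfl | hne
    · rw [← maximalIdeal_eq_span hyj a ha, hs.1]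
    · rw [hs.2 y hne, Ideal.eq_top_iff_one]
      by_contra h1
      refine hne (eq_of_coord_eq hyj hj a (fun i => ?_) ha)
      exact (IsLocalRing.mem_maximalIdeal _).2 fun hu =>
        h1 ((Ideal.eq_top_iff_one _).1 (Ideal.eq_top_of_isUnit_mem _ (Ideal.subset_span ⟨i, rfl⟩) hu))
  · obtain ⟨l, hl⟩ := exists_mem_D (k := k) y
    refine ⟨l, hl, ?_⟩
    have hlj : l ≠ j := fun h => hyj (h ▸ hl)
    rw [hs.2 y (fun h => hyj (h ▸ hj))]
    refine Ideal.eq_top_of_isUnit_mem _ (Ideal.subset_span ⟨⟨l, hlj⟩, rfl⟩) ?_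
    have hm : ρ j y hl ∈ IsLocalRing.maximalIdeal _ := by
      refine (IsLocalRing.mem_maximalIdeal _).2 fun hu => hyj ?_
      have hb : y ∈ (CohB1.ProjSpace n k).basicOpen
          (ProjCoh.ratioSec (CohB1.polyGrading n k) (X1 l) (X1 j)) := (Scheme.mem_basicOpen _ _ y hl).2 hu
      exact ((ProjCoh.basicOpen_ratioSec (𝒜 := CohB1.polyGrading n k) (X1 l) (X1 j)).le hb).2
    by_contra hu
    dsimp only at hu
    have h2 := (IsLocalRing.mem_maximalIdeal _).2 hu
    rw [ρ_self y hl] at h2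
    have : (1 : (CohB1.ProjSpace n k).presheaf.stalk y) ∈ IsLocalRing.maximalIdeal _ := by
      have h := add_mem h2 (Ideal.mul_mem_left _ (cst y (a l)) hm)
      rwa [sub_add_cancel] at h
    exact (IsLocalRing.maximalIdeal.isMaximal _).ne_top ((Ideal.eq_top_iff_one _).2 this)

/-- The projection from a point, on the blow-up in that point. -/
theorem exists_projection {m : ℕ} (p : ↥(CohB1.ProjSpace (m + 1) k))
    (hp : IsClosed ({p} : Set ↥(CohB1.ProjSpace (m + 1) k))) {X : Scheme.{u}} (π : X ⟶ CohB1.ProjSpace (m + 1) k)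
    (hJ : BlowUp.IsEffCartierIdeal ((Scheme.IdealSheafData.vanishingIdeal ⟨{p}, hp⟩).comap π)) :
    ∃ q : X ⟶ CohB1.ProjSpace m k,
      IntLib.mk ((Scheme.Modules.pullback q).obj (Twist.twistProjSpace m k 1)) =
        IntLib.mk ((Scheme.Modules.pullback π).obj (Twist.twistProjSpace (m + 1) k 1)) *
          IntLib.mk (ClSub.idealMod ((Scheme.IdealSheafData.vanishingIdeal ⟨{p}, hp⟩).comap π)) := by
  let J := (Scheme.IdealSheafData.vanishingIdeal ⟨{p}, hp⟩).comap π
  let M := ClImmLib.LF (k := k) (n := m + 1) π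
  let pX := π ≫ CohB1.ProjSpace.toSpec (m + 1) k
  obtain ⟨ι', hι'⟩ := exists_stalk_incl J M
  have hM : PicF.IsInvertible M := isInvertible_pullback π (isInvertible_twist 1)
  have hN : PicF.IsInvertible (CohB1.tensorMod (ClSub.idealMod J) M) :=
    isInvertible_tensor ((Groth.Agent.S8914.result J).2 hJ) hM
  have hmono : Mono ι' := (mono_iff_stalk ι').2 fun x => by
    obtain ⟨v, hv, h1, h2⟩ := hι' x
    obtain ⟨e, he⟩ := ParaFLib.exists_stalk_gen hN x
    obtain ⟨g, hg⟩ := ParaFLib.exists_stalk_gen hM x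
    obtain ⟨b, hb⟩ := hg.2 (stalkLin ι' x e)
    obtain ⟨φ, hφ, hφI⟩ := exists_stalk_generator hJ x
    obtain ⟨mg, hmg⟩ := hv g
    obtain ⟨z, hz⟩ := h1 φ (hφI.ge (Ideal.mem_span_singleton_self φ)) mg
    obtain ⟨c, rfl⟩ := he.2 z
    dsimp only at hb hz
    rw [map_smul, ← hb, hmg, smul_smul] at hz
    have hcb : c * b = φ := hg.1 hz
    refine (injective_iff_map_eq_zero _).2 fun w hw => ?_
    obtain ⟨r, rfl⟩ := he.2 w
    dsimp only at hw ⊢
    rw [map_smul, ← hb, smul_smul] at hw
    have hrb : r * b = 0 := hg.1 (hw.trans (zero_smul _ g).symm)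
    have : r * φ = 0 := by rw [← hcb, ← mul_assoc, mul_comm r c, mul_assoc, hrb, mul_zero]
    rw [hφ.2 r this, zero_smul]
  obtain ⟨j, a, hforms⟩ := exists_forms p hp
  let σ : Fin (m + 2) → ProjUP.Γm M := fun i =>
    ProjUP.pullSec π (Twist.twistProjSpace (m + 1) k 1) (ProjUP.coord (m + 1) k i)
  let τ : Fin (m + 1) → ProjUP.Γm M := fun i => σ (j.succAbove i) - ProjUP.toGlobal pX (a (j.succAbove i)) • σ j
  have hgerm : ∀ (x : X) (l : Fin (m + 2)) (hl : π x ∈ ClImmLib.D (k := k) l) (i : Fin (m + 1)),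
      M.presheaf.germ ⊤ x trivial (τ i) = π.stalkMap x (ClImmLib.ρ (j.succAbove i) (π x) hl -
        ClImmLib.cst (π x) (a (j.succAbove i)) * ClImmLib.ρ j (π x) hl) • ClImmLib.gen π l x hl := by
    intro x l hl i
    have hc : X.presheaf.germ ⊤ x trivial (ProjUP.toGlobal pX (a (j.succAbove i))) =
        π.stalkMap x (ClImmLib.cst (π x) (a (j.succAbove i))) := by
      show _ = π.stalkMap x ((CohB1.ProjSpace (m + 1) k).presheaf.germ ⊤ (π x) trivial _)
      rw [Scheme.Hom.germ_stalkMap_apply]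
      rfl
    rw [map_sub, ParaFLib.germ_smul', hc, ClImmLib.germ_pullSec π l (j.succAbove i) x hl,
      ClImmLib.germ_pullSec π l j x hl, smul_smul, ← map_mul, ← sub_smul, ← map_sub]
  have hspan : ∀ (x : X), ∃ (l : Fin (m + 2)) (hl : π x ∈ ClImmLib.D (k := k) l), IntMult.stalkIdeal J x =
      Ideal.span (Set.range fun i : Fin (m + 1) => π.stalkMap x (ClImmLib.ρ (j.succAbove i) (π x) hl -
        ClImmLib.cst (π x) (a (j.succAbove i)) * ClImmLib.ρ j (π x) hl)) := fun x => by
    obtain ⟨l, hl, e⟩ := hforms (π x)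
    refine ⟨l, hl, ?_⟩
    show IntMult.stalkIdeal ((Scheme.IdealSheafData.vanishingIdeal ⟨{p}, hp⟩).comap π) x = _
    rw [IdealStalkLib.stalkIdeal_comap, ← e, Ideal.map_span, ← Set.range_comp]
    congr 1
    refine (Function.Surjective.range_comp (f := fun i : Fin (m + 1) => (⟨j.succAbove i, j.succAbove_ne i⟩ : {i // i ≠ j}))
      (fun i => ?_) _).symm
    obtain ⟨w, hw⟩ := Fin.exists_succAbove_eq i.2
    exact ⟨w, Subtype.ext hw⟩
  have hmem : ∀ (x : X) (i : Fin (m + 1)), ∃ z, stalkLin ι' x z = M.presheaf.germ ⊤ x trivial (τ i) := fun x i => by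
    obtain ⟨v, hv, h1, -⟩ := hι' x
    obtain ⟨l, hl, e⟩ := hspan x
    obtain ⟨mg, hmg⟩ := hv (ClImmLib.gen π l x hl)
    obtain ⟨z, hz⟩ := h1 _ (e.ge (Ideal.subset_span ⟨i, rfl⟩)) mg
    exact ⟨z, by rw [hz, hmg, hgerm x l hl i]⟩
  haveI := hmono
  have hlift : ∀ i, ∃ t : ProjUP.Γm (CohB1.tensorMod (ClSub.idealMod J) M), ι'.app ⊤ t = τ i := fun i => by
    have h0 : DCohLib.secHom M (τ i) ≫ cokernel.π ι' = 0 := by
      refine hom_ext_stalk fun x => LinearMap.ext fun z => ?_
      obtain ⟨r, rfl⟩ := (ParaFLib.bijective_oneG x).2 z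
      obtain ⟨w, hw⟩ := hmem x i
      have e1 : stalkLin (DCohLib.secHom M (τ i)) x (ParaFLib.oneG x) = M.presheaf.germ ⊤ x trivial (τ i) := by
        refine (stalkLin_germ (DCohLib.secHom M (τ i)) (U := ⊤) x trivial _).trans ?_
        exact congrArg _ (CanonFac.sec_secHom M (τ i))
      rw [map_smul, map_smul, stalkLin_comp, LinearMap.comp_apply, e1, ← hw, ← LinearMap.comp_apply,
        ← stalkLin_comp, cokernel.condition, DevLib.stalkLin_zero, DevLib.stalkLin_zero]
      rfl
    refine ⟨sec (Abelian.monoLift ι' (DCohLib.secHom M (τ i)) h0), ?_⟩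
    refine Eq.trans ?_ (CanonFac.sec_secHom M (τ i))
    exact congrArg sec (Abelian.monoLift_comp ι' (DCohLib.secHom M (τ i)) h0)
  choose t ht using hlift
  have hgen : ProjUP.GeneratedBy (CohB1.tensorMod (ClSub.idealMod J) M) t := fun x => by
    refine eq_top_iff.2 fun z _ => ?_
    obtain ⟨v, -, -, h2⟩ := hι' x
    obtain ⟨l, hl, e⟩ := hspan x
    have hle : IntMult.stalkIdeal J x • (⊤ : Submodule (X.presheaf.stalk x) (M.presheaf.stalk x)) ≤
        (Submodule.span (X.presheaf.stalk x) (Set.range fun i =>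
          (CohB1.tensorMod (ClSub.idealMod J) M).presheaf.germ ⊤ x trivial (t i))).map (stalkLin ι' x) := by
      rw [Submodule.map_span, ← Set.range_comp, e, Submodule.smul_le]
      intro r hr g _
      obtain ⟨c, rfl⟩ := (ClImmLib.bijective_gen π l x hl).2 g
      rw [smul_comm]
      refine Submodule.smul_mem _ c ?_
      induction hr using Submodule.span_induction with
      | mem y hy =>
        obtain ⟨i, rfl⟩ := hy
        refine Submodule.subset_span ⟨i, ?_⟩
        show stalkLin ι' x _ = _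
        rw [stalkLin_germ, ht, hgerm x l hl i]
      | zero => rw [zero_smul]; exact zero_mem _
      | add y y' _ _ hy hy' => rw [add_smul]; exact add_mem hy hy'
      | smul d y _ hy => rw [smul_eq_mul, mul_smul]; exact Submodule.smul_mem _ _ hy
    obtain ⟨w, hw, hwz⟩ := hle (h2 z)
    exact (mono_iff_stalk ι').1 hmono x hwz ▸ hw
  obtain ⟨q, -, e, -⟩ := ProjUPLib.exists_hom_projSpace (R := k) pX hN t hgen
  exact ⟨q, (mk_congr e).trans ((mk_tensor _ _).trans (mul_comm _ _))⟩

end Groth.Agent.BlowExcLib
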