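import Groth.Agent.BlowExcLib.Global
import Groth.Agent.LefAmpleLib.IdealPow
import Groth.Agent.FinSurjLib.Vanish
import Groth.Agent.VecFrameLib.Basic

/-!
# The direct images themselves
-/

set_option autoImplicit false
set_option backward.isDefEq.respectTransparency false
set_option linter.style.haveILetI false
set_option maxHeartbeats 1000000

universe u

open CategoryTheory CategoryTheory.Limits AlgebraicGeometry TopologicalSpace Opposite
open Groth.Agent.PullbackMod Groth.Agent.BlowExistsLib Groth.Agent.DCohLib Groth.Agent.AmpleLib Groth.Agent.CohBase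

noncomputable section

namespace Groth.Agent.BlowExcLib

theorem isFiniteTypeIdeal' {Y : Scheme.{u}} [IsLocallyNoetherian Y] (𝓘 : Y.IdealSheafData) :
    BlowUp.IsFiniteTypeIdeal 𝓘 := fun U => by
  haveI := IsLocallyNoetherian.component_noetherian (X := Y) U
  exact IsNoetherian.noetherian (R := Γ(Y, U.1)) _

theorem isProper_blowUp {Y X : Scheme.{u}} [IsLocallyNoetherian Y] {𝓘 : Y.IdealSheafData} {σ : X ⟶ Y}
    (hσ : BlowUp.IsBlowUp σ 𝓘) : IsProper σ := isProper_of_FG hσ (isFiniteTypeIdeal' 𝓘)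

theorem isNoetherian_toScheme {Y : Scheme.{u}} [IsLocallyNoetherian Y] {V : Y.Opens} (hV : IsAffineOpen V) :
    IsNoetherian V.toScheme := by
  haveI : IsAffine V.toScheme := hV
  haveI := LocallyOfFiniteType.isLocallyNoetherian V.ι
  exact ⟨⟩

theorem nonempty_pushPull_congr {A T T' : Scheme.{u}} [IsLocallyNoetherian A] (g : T ⟶ A) [IsClosedImmersion g]
    (g' : T' ⟶ A) [IsClosedImmersion g'] (h : g.ker = g'.ker) {M : A.Modules} (hM : PicF.IsInvertible M) :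
    Nonempty ((Scheme.Modules.pushforward g).obj ((Scheme.Modules.pullback g).obj M) ≅
      (Scheme.Modules.pushforward g').obj ((Scheme.Modules.pullback g').obj M)) := by
  obtain ⟨S, -, -, -, ⟨e⟩, hq⟩ := RatSingLib.exists_seq g hM
  obtain ⟨S', -, -, -, ⟨e'⟩, hq'⟩ := RatSingLib.exists_seq g' hM
  exact ⟨e.symm ≪≫ eqToIso (hq.trans ((by rw [h] : _ = _).trans hq'.symm)) ≪≫ e'⟩

theorem ker_restrict {A T : Scheme.{u}} (j : T ⟶ A) [IsClosedImmersion j] (W : A.Opens) :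
    (j ∣_ W).ker = j.ker.comap W.ι := by
  have h := (isPullback_morphismRestrict j W)
  rw [← Scheme.IdealSheafData.ker_fst_of_isClosedImmersion j W.ι, ← h.flip.flip.isoPullback_hom_fst,
    Scheme.Hom.ker_comp_of_isIso]

variable {Y X : Scheme.{u}} {r : ℕ} [IsLocallyNoetherian Y] {𝓘 : Y.IdealSheafData} {σ : X ⟶ Y}

omit [IsLocallyNoetherian Y] in
theorem comap_restrict (V : Y.Opens) :
    (𝓘.comap σ).comap (σ ⁻¹ᵁ V).ι = (𝓘.comap V.ι).comap (σ ∣_ V) := by
  rw [← Scheme.IdealSheafData.comap_comp, ← Scheme.IdealSheafData.comap_comp, morphismRestrict_ι]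

theorem nonempty_restrict_idealMod (hσ : BlowUp.IsBlowUp σ 𝓘) (V : Y.Opens) :
    Nonempty ((ClSub.idealMod (𝓘.comap σ)).restrict (σ ⁻¹ᵁ V).ι ≅
      ClSub.idealMod ((𝓘.comap V.ι).comap (σ ∣_ V))) := by
  have h' : BlowUp.IsEffCartierIdeal ((𝓘.comap σ).comap (σ ⁻¹ᵁ V).ι) := by
    rw [comap_restrict]; exact (RGBlowLib.Union.isBlowUp_restrict hσ V).1
  obtain ⟨e⟩ := JacLib.nonempty_iso_pullback_idealMod (σ ⁻¹ᵁ V).ι (𝓘.comap σ) hσ.1 h'
  exact ⟨restrictIso _ _ ≪≫ e ≪≫ eqToIso (by rw [comap_restrict])⟩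

/-- The pieces of a nice open. -/
theorem exists_local_data {V : Y.Opens} (hV : IsNice r 𝓘 V) :
    ∃ (_ : IsAffine V.toScheme) (m : ℕ) (f : Fin (m + 1) → Γ(V.toScheme, ⊤)),
      r ≤ m ∧ CAlgX.IsQuasiRegular f ∧ (𝓘.comap V.ι).ideal topU = Ideal.span (Set.range f) := by
  obtain ⟨hVa, m, f, hm, hf, hI⟩ := hV
  haveI : IsAffine V.toScheme := hVa
  have e : (⊤ : V.toScheme.Opens) ≤ V.ι ⁻¹ᵁ V := fun x _ => x.2
  have hbij : Function.Bijective (V.ι.appLE V ⊤ e) := by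
    haveI : IsIso (V.ι.app V) := V.ι.isIso_app V (Scheme.Opens.opensRange_ι V).ge
    haveI : IsIso (homOfLE e) := ⟨homOfLE le_top, Subsingleton.elim _ _, Subsingleton.elim _ _⟩
    rw [Scheme.Hom.appLE]
    exact ConcreteCategory.bijective_of_isIso _
  refine ⟨hVa, m, fun i => V.ι.appLE V ⊤ e (f i), hm, isQuasiRegular_equiv _ hbij hf, ?_⟩
  rw [IdealStalkLib.comap_ideal 𝓘 V.ι hVa (isAffineOpen_top _) e, hI, Ideal.map_span, ← Set.range_comp]
  rfl

theorem subsingleton_pow_restrict (hσ : BlowUp.IsBlowUp σ 𝓘) {V : Y.Opens} (hV : IsNice r 𝓘 V) (n q : ℕ) (hq : 1 ≤ q) :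
    Subsingleton (Coh.HH (σ ⁻¹ᵁ V).toScheme
      ((CohB1.tensorPow (ClSub.idealMod (𝓘.comap σ)) n).restrict (σ ⁻¹ᵁ V).ι) q) := by
  obtain ⟨hVa, m, f, -, hf, hI⟩ := exists_local_data hV
  haveI := hVa
  haveI := isNoetherian_toScheme (Y := Y) hV.1
  obtain ⟨e⟩ := nonempty_restrict_idealMod hσ V
  exact CurveLib.subsingleton_HH_iso (restrictPow _ _ n ≪≫ powCongr e n).symm q
    (subsingleton_HH_tensorPow (RGBlowLib.Union.isBlowUp_restrict hσ V) f hI hf n q hq)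

theorem subsingleton_O_restrict (hσ : BlowUp.IsBlowUp σ 𝓘) {V : Y.Opens} (hV : IsNice r 𝓘 V) (q : ℕ) (hq : 1 ≤ q) :
    Subsingleton (Coh.HH (σ ⁻¹ᵁ V).toScheme ((Coh.structureModule X).restrict (σ ⁻¹ᵁ V).ι) q) :=
  subsingleton_pow_restrict hσ hV 0 q hq

/-- The inverse of the exceptional ideal on a nice piece. -/
theorem subsingleton_exc_inverse_restrict (hσ : BlowUp.IsBlowUp σ 𝓘) {V : Y.Opens} (hV : IsNice 1 𝓘 V) {L : X.Modules}
    (hL : ClSub.IsInverseOf L (ClSub.idealMod (𝓘.comap σ))) (q : ℕ) :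
    Subsingleton (Coh.HH (σ ⁻¹ᵁ V).toScheme (((Scheme.Modules.pushforward (𝓘.comap σ).subschemeι).obj
      ((Scheme.Modules.pullback (𝓘.comap σ).subschemeι).obj L)).restrict (σ ⁻¹ᵁ V).ι) q) := by
  obtain ⟨hVa, m, f, hm, hf, hI⟩ := exists_local_data hV
  haveI := hVa
  haveI := isNoetherian_toScheme (Y := Y) hV.1
  haveI := isProper_blowUp hσ
  haveI : IsLocallyNoetherian (σ ⁻¹ᵁ V).toScheme := LocallyOfFiniteType.isLocallyNoetherian (σ ∣_ V)
  obtain ⟨η⟩ := hL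
  obtain ⟨e⟩ := nonempty_restrict_idealMod hσ V
  let W := σ ⁻¹ᵁ V
  let j := (𝓘.comap σ).subschemeι
  let L' := L.restrict W.ι
  have hL' : ClSub.IsInverseOf L' (ClSub.idealMod ((𝓘.comap V.ι).comap (σ ∣_ V))) :=
    ⟨tIso (Iso.refl _) e.symm ≪≫ (restrictTensor W.ι L _).symm ≪≫ (Scheme.Modules.restrictFunctor W.ι).mapIso η ≪≫
      restrictIso W.ι _ ≪≫ pullO W.ι⟩
  have hinv : PicF.IsInvertible L' := isInvertible_of_tensor_iso hL'.some
  haveI : IsClosedImmersion (j ∣_ W) := IsZariskiLocalAtTarget.restrict (inferInstanceAs (IsClosedImmersion (𝓘.comap σ).subschemeι)) W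
  obtain ⟨c⟩ := nonempty_pushPull_congr (j ∣_ W) ((𝓘.comap V.ι).comap (σ ∣_ V)).subschemeι (by
    rw [ker_restrict, Scheme.IdealSheafData.ker_subschemeι, Scheme.IdealSheafData.ker_subschemeι, comap_restrict]) hinv
  refine CurveLib.subsingleton_HH_iso ?_ q
    (subsingleton_HH_push_inverse (RGBlowLib.Union.isBlowUp_restrict hσ V) f hI hf hm L' hL' q)
  refine c.symm ≪≫ (Scheme.Modules.pushforward (j ∣_ W)).mapIso ?_ ≪≫ ((DCohLib.restrictPushIso j W).app _).symm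
  exact (Scheme.Modules.pullback (j ∣_ W)).mapIso (restrictIso W.ι L) ≪≫
    ((Scheme.Modules.pullbackComp (j ∣_ W) W.ι).app L) ≪≫
    ((Scheme.Modules.pullbackCongr (morphismRestrict_ι j W)).app L) ≪≫
    ((Scheme.Modules.pullbackComp (j ⁻¹ᵁ W).ι j).app L).symm ≪≫ (restrictIso _ _).symm

theorem subsingleton_inverse_restrict (hσ : BlowUp.IsBlowUp σ 𝓘) {V : Y.Opens} (hV : IsNice 1 𝓘 V) {L : X.Modules}
    (hL : ClSub.IsInverseOf L (ClSub.idealMod (𝓘.comap σ))) (q : ℕ) (hq : 1 ≤ q) :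
    Subsingleton (Coh.HH (σ ⁻¹ᵁ V).toScheme (L.restrict (σ ⁻¹ᵁ V).ι) q) := by
  haveI := isProper_blowUp hσ
  haveI : IsLocallyNoetherian X := LocallyOfFiniteType.isLocallyNoetherian σ
  have h3 := subsingleton_exc_inverse_restrict hσ hV hL q
  obtain ⟨η⟩ := hL
  have hLi := isInvertible_of_tensor_iso η
  obtain ⟨S, hS, e1, ⟨e2⟩, ⟨e3⟩, -⟩ := RatSingLib.exists_seq (𝓘.comap σ).subschemeι hLi
  let R := Scheme.Modules.restrictFunctor (σ ⁻¹ᵁ V).ι
  haveI : PreservesFiniteLimits R := inferInstance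
  haveI : PreservesFiniteColimits R := inferInstance
  have h1 : Subsingleton (Coh.HH _ (S.map R).X₁ q) :=
    CurveLib.subsingleton_HH_iso (R.mapIso ((eqToIso (by rw [e1, Scheme.IdealSheafData.ker_subschemeι]) : S.X₁ ≅ _) ≪≫
      comm _ L ≪≫ η)).symm q (subsingleton_O_restrict hσ hV q hq)
  exact CurveLib.subsingleton_HH_iso (R.mapIso e2) q (SerreAff.subsingleton_mid (hS.map_of_exact R) q h1
    (CurveLib.subsingleton_HH_iso (R.mapIso e3).symm q h3))

theorem subsingleton_exc_pow_restrict (hσ : BlowUp.IsBlowUp σ 𝓘) {V : Y.Opens} (hV : IsNice r 𝓘 V) (n q : ℕ) (hq : 1 ≤ q) :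
    Subsingleton (Coh.HH (σ ⁻¹ᵁ V).toScheme (((Scheme.Modules.pushforward (𝓘.comap σ).subschemeι).obj
      ((Scheme.Modules.pullback (𝓘.comap σ).subschemeι).obj (CohB1.tensorPow (ClSub.idealMod (𝓘.comap σ)) n))).restrict
        (σ ⁻¹ᵁ V).ι) q) := by
  haveI := isProper_blowUp hσ
  haveI : IsLocallyNoetherian X := LocallyOfFiniteType.isLocallyNoetherian σ
  have hLi := isInvertible_tensorPow ((Groth.Agent.S8914.result _).2 hσ.1) n
  obtain ⟨S, hS, e1, ⟨e2⟩, ⟨e3⟩, -⟩ := RatSingLib.exists_seq (𝓘.comap σ).subschemeι hLi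
  let R := Scheme.Modules.restrictFunctor (σ ⁻¹ᵁ V).ι
  haveI : PreservesFiniteLimits R := inferInstance
  haveI : PreservesFiniteColimits R := inferInstance
  have h1 : Subsingleton (Coh.HH _ (S.map R).X₁ (q + 1)) :=
    CurveLib.subsingleton_HH_iso (R.mapIso ((eqToIso (by rw [e1, Scheme.IdealSheafData.ker_subschemeι]) : S.X₁ ≅ _) ≪≫
      comm _ _)).symm (q + 1) (subsingleton_pow_restrict hσ hV (n + 1) (q + 1) (by omega))
  have h2 : Subsingleton (Coh.HH _ (S.map R).X₂ q) :=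
    CurveLib.subsingleton_HH_iso (R.mapIso e2).symm q (subsingleton_pow_restrict hσ hV n q hq)
  exact CurveLib.subsingleton_HH_iso (R.mapIso e3) q (FinSurjLib.subsingleton_right (hS.map_of_exact R) q h2 h1)

/-- Higher direct images vanish if the cohomology over the nice pieces does. -/
theorem isZero_rpushAb (hσ : BlowUp.IsBlowUp σ 𝓘) (hN : IsNiceCentre r 𝓘) (M : X.Modules) [Coh.IsQCoh M] (p : ℕ) (hp : 1 ≤ p)
    (h : ∀ V, IsNice r 𝓘 V → Subsingleton (Coh.HH (σ ⁻¹ᵁ V).toScheme (M.restrict (σ ⁻¹ᵁ V).ι) p)) :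
    IsZero ((Coh.RpushAb σ p).obj (Coh.toAb M)) := by
  haveI := isProper_blowUp hσ
  obtain ⟨q, rfl⟩ : ∃ q, p = q + 1 := ⟨p - 1, by omega⟩
  refine RpushLib.isZero_rightDerived_at σ.base (B := fun U => IsNice r 𝓘 U) (fun W y hy => hN.exists_nhd W y hy) _ q
    fun W hW => ?_
  have h3 := AmpleEmb.subsingleton_HU_preimage_basicOpen σ M hW.1 q (h W hW) 1
  rwa [Scheme.basicOpen_of_isUnit _ isUnit_one] at h3

theorem isZero_rpushAb_pow (hσ : BlowUp.IsBlowUp σ 𝓘) (hN : IsNiceCentre r 𝓘) (n p : ℕ) (hp : 1 ≤ p) :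
    IsZero ((Coh.RpushAb σ p).obj (Coh.toAb (CohB1.tensorPow (ClSub.idealMod (𝓘.comap σ)) n))) := by
  haveI : Coh.IsQCoh (CohB1.tensorPow (ClSub.idealMod (𝓘.comap σ)) n) :=
    InvExt.isQCoh_of_isInvertible (isInvertible_tensorPow ((Groth.Agent.S8914.result _).2 hσ.1) n)
  exact isZero_rpushAb hσ hN _ p hp fun V hV => subsingleton_pow_restrict hσ hV n p hp

theorem isZero_rpushAb_exc_pow (hσ : BlowUp.IsBlowUp σ 𝓘) (hN : IsNiceCentre r 𝓘) (n p : ℕ) (hp : 1 ≤ p) :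
    IsZero ((Coh.RpushAb σ p).obj (Coh.toAb ((Scheme.Modules.pushforward (𝓘.comap σ).subschemeι).obj
      ((Scheme.Modules.pullback (𝓘.comap σ).subschemeι).obj (CohB1.tensorPow (ClSub.idealMod (𝓘.comap σ)) n))))) := by
  haveI : Coh.IsQCoh ((Scheme.Modules.pullback (𝓘.comap σ).subschemeι).obj (CohB1.tensorPow (ClSub.idealMod (𝓘.comap σ)) n)) :=
    InvExt.isQCoh_of_isInvertible (isInvertible_pullback _ (isInvertible_tensorPow ((Groth.Agent.S8914.result _).2 hσ.1) n))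
  haveI := QCohLib.isQCoh_pushforward ((Scheme.Modules.pullback (𝓘.comap σ).subschemeι).obj
    (CohB1.tensorPow (ClSub.idealMod (𝓘.comap σ)) n)) (𝓘.comap σ).subschemeι
  exact isZero_rpushAb hσ hN _ p hp fun V hV => subsingleton_exc_pow_restrict hσ hV n p hp

theorem isZero_rpushAb_inverse (hσ : BlowUp.IsBlowUp σ 𝓘) (hN : IsNiceCentre 1 𝓘) {L : X.Modules}
    (hL : ClSub.IsInverseOf L (ClSub.idealMod (𝓘.comap σ))) (p : ℕ) (hp : 1 ≤ p) :
    IsZero ((Coh.RpushAb σ p).obj (Coh.toAb L)) ∧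
    IsZero ((Coh.RpushAb σ p).obj (Coh.toAb ((Scheme.Modules.pushforward (𝓘.comap σ).subschemeι).obj
      ((Scheme.Modules.pullback (𝓘.comap σ).subschemeι).obj L)))) := by
  have hLi : PicF.IsInvertible L := isInvertible_of_tensor_iso hL.some
  haveI : Coh.IsQCoh L := InvExt.isQCoh_of_isInvertible hLi
  haveI : Coh.IsQCoh ((Scheme.Modules.pullback (𝓘.comap σ).subschemeι).obj L) :=
    InvExt.isQCoh_of_isInvertible (isInvertible_pullback _ hLi)
  haveI := QCohLib.isQCoh_pushforward ((Scheme.Modules.pullback (𝓘.comap σ).subschemeι).obj L) (𝓘.comap σ).subschemeι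
  exact ⟨isZero_rpushAb hσ hN _ p hp fun V hV => subsingleton_inverse_restrict hσ hV hL p hp,
    isZero_rpushAb hσ hN _ p hp fun V hV => subsingleton_exc_inverse_restrict hσ hV hL p⟩

/-- The functions of the blow-up of a normal scheme. -/
theorem bijective_app (hσ : BlowUp.IsBlowUp σ 𝓘) (hN : IsNiceCentre r 𝓘) (hnorm : Pi1.IsNormalScheme Y) (O : Y.Opens) :
    Function.Bijective (σ.app O) := by
  refine ParaFPullLib.bijective_app_of_small_affine σ
    (fun W => IsNice r 𝓘 W ∧ IsIntegral W.toScheme) ?_ ?_ O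
  · intro O t ht
    haveI := (hnorm t).1
    obtain ⟨W, htW, hWO, hWi⟩ := SurfPtBlow.exists_integral_nhd t O ht
    obtain ⟨V, hV, htV, hVW⟩ := hN.exists_nhd W t htW
    haveI := hWi
    haveI : Nonempty V.toScheme := ⟨⟨t, htV⟩⟩
    exact ⟨V, ⟨hV, isIntegral_of_isOpenImmersion (Y.homOfLE hVW)⟩, htV, hVW.trans hWO⟩
  rintro W ⟨hW, hWi⟩
  haveI := hWi
  obtain ⟨hWa, m, f, -, hf, hI⟩ := exists_local_data hW
  haveI := hWa
  haveI := isNoetherian_toScheme (Y := Y) hW.1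
  haveI : Nonempty (⊤ : W.toScheme.Opens) := ⟨⟨Classical.arbitrary _, trivial⟩⟩
  haveI : IsIntegrallyClosed Γ(W.toScheme, ⊤) := by
    refine NormalSch.isIntegrallyClosed_section (fun x => ?_) ⊤
    obtain ⟨h1, h2⟩ := hnorm (W.ι x)
    haveI := h1
    haveI := h2
    let e := (asIso (W.ι.stalkMap x)).commRingCatIsoToRingEquiv
    exact ⟨e.symm.toMulEquiv.isDomain, IsIntegrallyClosed.of_equiv e⟩
  obtain ⟨i₀, h₀⟩ := exists_ne_zero_of_isQuasiRegular hf
  have h := bijective_appTop (RGBlowLib.Union.isBlowUp_restrict hσ W) f hI i₀ h₀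
  have key : ∀ T : Y.Opens, T = W → Function.Bijective (σ.app T) → Function.Bijective (σ.app W) := by
    rintro T rfl h; exact h
  refine key _ W.ι_image_top ?_
  rw [morphismRestrict_appTop] at h
  haveI : IsIso (σ.app (W.ι ''ᵁ ⊤) ≫ X.presheaf.map (eqToHom (image_morphismRestrict_preimage σ W ⊤)).op) :=
    (ConcreteCategory.isIso_iff_bijective _).2 h
  haveI : IsIso (σ.app (W.ι ''ᵁ ⊤)) :=
    IsIso.of_isIso_comp_right _ (X.presheaf.map (eqToHom (image_morphismRestrict_preimage σ W ⊤)).op)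
  exact ConcreteCategory.bijective_of_isIso _

theorem isIso_unit (hσ : BlowUp.IsBlowUp σ 𝓘) (hN : IsNiceCentre r 𝓘) (hnorm : Pi1.IsNormalScheme Y) {E : Y.Modules}
    (hE : FlatMod.IsFinLocFree E) : IsIso ((Scheme.Modules.pullbackPushforwardAdjunction σ).unit.app E) :=
  VecFrameLib.isIso_unit σ (bijective_app hσ hN hnorm) hE

theorem nonempty_push_inverse (hσ : BlowUp.IsBlowUp σ 𝓘) (hN : IsNiceCentre 1 𝓘) {L : X.Modules}
    (hL : ClSub.IsInverseOf L (ClSub.idealMod (𝓘.comap σ))) :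
    Nonempty ((Scheme.Modules.pushforward σ).obj L ≅ (Scheme.Modules.pushforward σ).obj (Coh.structureModule X)) := by
  haveI := isProper_blowUp hσ
  haveI : IsLocallyNoetherian X := LocallyOfFiniteType.isLocallyNoetherian σ
  have hex := fun V hV => subsingleton_exc_inverse_restrict hσ (V := V) hV hL 0
  obtain ⟨η⟩ := hL
  obtain ⟨S, hS, e1, ⟨e2⟩, ⟨e3⟩, -⟩ := RatSingLib.exists_seq (𝓘.comap σ).subschemeι (isInvertible_of_tensor_iso η)
  let F := Scheme.Modules.pushforward σ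
  let G := (Scheme.Modules.pushforward (𝓘.comap σ).subschemeι).obj ((Scheme.Modules.pullback (𝓘.comap σ).subschemeι).obj L)
  have hsec : ∀ V, IsNice 1 𝓘 V → ∀ z z' : Γ(G, σ ⁻¹ᵁ V), z = z' := by
    intro V hV z z'
    haveI := hex V hV
    haveI := (RpushLib.h0Γ (G.restrict (σ ⁻¹ᵁ V).ι)).toEquiv.subsingleton
    have key : ∀ T, T = σ ⁻¹ᵁ V → Subsingleton Γ(G, T) → z = z' := by
      rintro T rfl h; exact Subsingleton.elim _ _
    exact key _ (σ ⁻¹ᵁ V).ι_image_top ‹_›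
  have hz : IsZero (F.obj G) := DCohLib.isZero_of_stalks fun y => by
    refine subsingleton_of_forall_eq 0 fun z => ?_
    obtain ⟨O, hy, s, rfl⟩ := TopCat.Presheaf.exists_germ_eq (F.obj G).presheaf z
    obtain ⟨V, hV, hyV, hVO⟩ := hN.exists_nhd O y hy
    rw [← TopCat.Presheaf.germ_res_apply _ (homOfLE hVO) y hyV,
      show (F.obj G).presheaf.map (homOfLE hVO).op s = 0 from hsec V hV _ _, map_zero]
  haveI : PreservesLimitsOfSize.{0, 0} F := (Scheme.Modules.pullbackPushforwardAdjunction σ).rightAdjoint_preservesLimits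
  haveI : PreservesFiniteLimits F := inferInstance
  haveI := hS.mono_f
  haveI : Mono (S.map F).f := inferInstanceAs (Mono (F.map S.f))
  have hex' : (S.map F).Exact := ShortComplex.exact_of_f_is_kernel _ (isLimitForkMapOfIsLimit' F S.zero hS.fIsKernel)
  haveI : Epi (S.map F).f := hex'.epi_f ((hz.of_iso (F.mapIso e3)).eq_of_tgt _ _)
  haveI : IsIso (S.map F).f := isIso_of_mono_of_epi _
  exact ⟨(F.mapIso e2).symm ≪≫ (asIso (S.map F).f).symm ≪≫
    F.mapIso ((eqToIso (by rw [e1, Scheme.IdealSheafData.ker_subschemeι]) : S.X₁ ≅ _) ≪≫ comm _ L ≪≫ η)⟩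

end Groth.Agent.BlowExcLib
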