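import Groth.Agent.BlowExcLib.Ident
import Groth.Agent.BlowExistsLib.Proper
import Groth.Agent.AmpleEmb.Serre
import Groth.Agent.ProjTwist.Vanish
import Groth.Agent.ProjTwistLib.Ample
import Groth.Agent.ProjTwistLib.Mul
import Groth.Agent.CanonFacLib.Parts
import Groth.Agent.RatSingLib.Lift
import Groth.Agent.SuppHHLib.Basic
import Groth.Agent.IntLib.Cls

/-!
# Cohomology of the blow-up in a quasi-regular sequence over an affine scheme
-/

set_option autoImplicit false
set_option backward.isDefEq.respectTransparency false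
set_option linter.style.haveILetI false
set_option maxHeartbeats 1000000

universe u

open CategoryTheory CategoryTheory.Limits AlgebraicGeometry TopologicalSpace Opposite
open Groth.Agent.PullbackMod Groth.Agent.BlowExistsLib Groth.Agent.BlowChartLib Groth.Agent.ProjUPLib
open Groth.Agent.ParaFLib Groth.Agent.DCohLib Groth.Agent.AmpleLib Groth.Agent.IntLib

noncomputable section

namespace Groth.Agent.BlowExcLib

section Proj

variable (m : ℕ) (R : Type u) [CommRing R]

theorem hasUnit_one (d : ℤ) (x : Proj (CohB1.polyGrading m R)) : ProjTwistLib.HasUnit (CohB1.polyGrading m R) d x := by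
  refine ProjTwistLib.hasUnit_one_of_cover ?_ d x
  rw [eq_top_iff]
  exact (AmpleEmb.iSup_stdOpen m R).ge.trans (iSup_le fun a => le_iSup_of_le (AmpleEmb.coordForm m R a) le_rfl)

theorem mk_twist_mul (a b : ℤ) :
    IntLib.mk (Twist.twistProjSpace m R a) * IntLib.mk (Twist.twistProjSpace m R b) = IntLib.mk (Twist.twistProjSpace m R (a + b)) :=
  mk_congr (ProjTwistLib.mulIso (n := b) rfl (hasUnit_one m R a))

theorem mk_twist_zero : IntLib.mk (Twist.twistProjSpace m R 0) = 1 :=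
  mk_congr (ProjTwistLib.nonempty_zero_iso (𝒜 := CohB1.polyGrading m R)).some

theorem mk_twist_pow (n : ℕ) : IntLib.mk (Twist.twistProjSpace m R 1) ^ n = IntLib.mk (Twist.twistProjSpace m R (n : ℤ)) := by
  induction n with
  | zero => simp [mk_twist_zero]
  | succ n ih => rw [pow_succ, ih, mk_twist_mul]; push_cast; rfl

theorem isQCoh_twistProjSpace (d : ℤ) : Coh.IsQCoh (Twist.twistProjSpace m R d) := ProjTwist.isQCoh_twist m R d

end Proj

section Pull

variable {A B : Scheme.{u}} (f : A ⟶ B)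

theorem mk_pullback_tensor (L M : B.Modules) :
    IntLib.mk ((Scheme.Modules.pullback f).obj (CohB1.tensorMod L M)) =
      IntLib.mk ((Scheme.Modules.pullback f).obj L) * IntLib.mk ((Scheme.Modules.pullback f).obj M) :=
  (mk_congr (pullTensor f L M)).trans (mk_tensor _ _)

theorem mk_pullback_congr {L M : B.Modules} (h : IntLib.mk L = IntLib.mk M) :
    IntLib.mk ((Scheme.Modules.pullback f).obj L) = IntLib.mk ((Scheme.Modules.pullback f).obj M) :=
  mk_congr ((Scheme.Modules.pullback f).mapIso (mk_eq_mk.1 h).some)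

theorem mk_pullback_one : IntLib.mk ((Scheme.Modules.pullback f).obj (Coh.structureModule B)) = 1 :=
  (mk_congr (pullO f)).trans mk_structureModule

theorem mk_pullback_pow (L : B.Modules) (n : ℕ) :
    IntLib.mk ((Scheme.Modules.pullback f).obj (CohB1.tensorPow L n)) = IntLib.mk ((Scheme.Modules.pullback f).obj L) ^ n :=
  (mk_congr (pullPow f L n)).trans (mk_tensorPow _ _)

theorem mk_twist_inverse {m : ℕ} {R : Type u} [CommRing R] (g : A ⟶ CohB1.ProjSpace m R) :
    IntLib.mk ((Scheme.Modules.pullback g).obj (Twist.twistProjSpace m R (-1))) *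
      IntLib.mk ((Scheme.Modules.pullback g).obj (Twist.twistProjSpace m R 1)) = 1 := by
  have h : IntLib.mk (CohB1.tensorMod (Twist.twistProjSpace m R (-1)) (Twist.twistProjSpace m R 1)) =
      IntLib.mk (Coh.structureModule (CohB1.ProjSpace m R)) := by
    rw [mk_tensor, mk_twist_mul, neg_add_cancel, mk_twist_zero, mk_structureModule]
  rw [← mk_pullback_tensor, mk_pullback_congr g h, mk_pullback_one]

end Pull

variable {X X' : Scheme.{u}} [IsAffine X] [IsNoetherian X] (𝓘 : X.IdealSheafData) (b : X' ⟶ X)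

omit [IsAffine X] in
theorem isFiniteTypeIdeal : BlowUp.IsFiniteTypeIdeal 𝓘 := fun U => by
  haveI := IsLocallyNoetherian.component_noetherian (X := X) U
  exact IsNoetherian.noetherian (R := Γ(X, U.1)) _

variable {𝓘 b}

theorem isAmple_idealMod (hb : BlowUp.IsBlowUp b 𝓘) : CohB1.IsAmple (ClSub.idealMod (𝓘.comap b)) := by
  haveI := quasiCompact_of_FG hb (isFiniteTypeIdeal 𝓘)
  obtain ⟨θ, hθ⟩ := BlowProjLib.exists_theta 𝓘 b
  let J := 𝓘.comap b
  have hJ : PicF.IsInvertible (ClSub.idealMod J) := (Groth.Agent.S8914.result J).2 hb.1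
  refine ⟨hJ, QuasiCompact.compactSpace_of_compactSpace b, fun x => ?_⟩
  obtain ⟨a, ha, hx⟩ := BlowChartLib.exists_mem_chartOpen 𝓘 topU b hb (𝓘.ideal topU : Set _)
    (Ideal.span_eq _) x trivial
  obtain ⟨e, he⟩ := (OmegaAffLib.mem_range_idealSect 𝓘 topU a).1 ha
  let σ : ProjUP.Γm (ClSub.idealMod J) := θ.app ⊤ e
  have hgl : gl σ = chartOpen 𝓘 topU a b := by
    ext y
    refine (mem_gl_iff hJ).trans ?_
    refine (BlowProjLib.bijective_theta_iff hθ hb topU y trivial e).trans ?_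
    rw [he]
    rfl
  refine ⟨0, secHom _ σ ≫ (powOne _).symm.hom, ?_⟩
  rw [genLocus_comp_iso]
  show x ∈ gl σ ∧ IsAffineOpen (gl σ)
  rw [hgl]
  exact ⟨hx, isAffineOpen_chartOpen hb ha⟩

variable (hb : BlowUp.IsBlowUp b 𝓘) {m : ℕ} (f : Fin (m + 1) → Γ(X, ⊤))
  (hI : 𝓘.ideal topU = Ideal.span (Set.range f)) (hf : CAlgX.IsQuasiRegular f)

include hb hI hf in
/-- `O_E(n)` has no higher cohomology for `n ≥ 0`, and `O_E(-1)` has none at all for `m ≥ 1`. -/
theorem subsingleton_HH_exc :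
    (∀ n q : ℕ, 1 ≤ q → Subsingleton (Coh.HH (exc 𝓘 b) (CohB1.tensorPow (conormal 𝓘 b) n) q)) ∧
    (∀ L : (exc 𝓘 b).Modules, IntLib.mk L * IntLib.mk (conormal 𝓘 b) = 1 → ∀ q : ℕ, (1 ≤ m ∨ 1 ≤ q) →
      Subsingleton (Coh.HH (exc 𝓘 b) L q)) := by
  haveI := quasiCompact_of_FG hb (isFiniteTypeIdeal 𝓘)
  obtain ⟨r, hr, -, ⟨τ⟩⟩ := exists_exceptional_iso 𝓘 b hb f hI hf
  haveI := hr
  have hc : IntLib.mk (conormal 𝓘 b) = IntLib.mk ((Scheme.Modules.pullback r).obj (Twist.twistProjSpace m (CR 𝓘) 1)) :=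
    mk_congr τ.symm
  have key : ∀ (L : (exc 𝓘 b).Modules) (d : ℤ) (q : ℕ),
      IntLib.mk L = IntLib.mk ((Scheme.Modules.pullback r).obj (Twist.twistProjSpace m (CR 𝓘) d)) →
      ¬(q = 0 ∧ 0 ≤ d) → ¬(q = m ∧ d ≤ -((m : ℤ) + 1)) → Subsingleton (Coh.HH (exc 𝓘 b) L q) := by
    intro L d q he h0 h1
    haveI := isQCoh_twistProjSpace m (CR 𝓘) d
    exact CurveLib.subsingleton_HH_iso (mk_eq_mk.1 he).some.symm q
      (CanonFac.subsingleton_HH_pullback r _ q (ProjTwist.subsingleton_HH m (CR 𝓘) d q h0 h1))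
  refine ⟨fun n q hq => key _ (n : ℤ) q ?_ (by omega) (by omega), fun L hL q hq => key L (-1) q ?_ (by omega) ?_⟩
  · rw [mk_tensorPow, hc, ← mk_pullback_pow]
    exact mk_pullback_congr r ((mk_tensorPow _ _).trans (mk_twist_pow m (CR 𝓘) n))
  · rw [hc] at hL
    calc IntLib.mk L = IntLib.mk L * (IntLib.mk ((Scheme.Modules.pullback r).obj (Twist.twistProjSpace m (CR 𝓘) (-1))) *
          IntLib.mk ((Scheme.Modules.pullback r).obj (Twist.twistProjSpace m (CR 𝓘) 1))) := by
          rw [mk_twist_inverse, mul_one]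
      _ = IntLib.mk ((Scheme.Modules.pullback r).obj (Twist.twistProjSpace m (CR 𝓘) (-1))) := by
          rw [← mul_assoc, mul_comm (IntLib.mk L), mul_assoc, hL, mul_one]
  · omega

omit [IsAffine X] [AlgebraicGeometry.IsNoetherian X] in
theorem nonempty_push_exc_equiv (G : (exc 𝓘 b).Modules) [Coh.IsQCoh G] (q : ℕ) :
    Nonempty (Coh.HH (exc 𝓘 b) G q ≃+ Coh.HH X' ((Scheme.Modules.pushforward (jExc 𝓘 b)).obj G) q) :=
  SuppHHLib.nonempty_HH_push (jExc 𝓘 b) G q

include hb hI hf in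
/-- The powers of the exceptional ideal have no higher cohomology. -/
theorem subsingleton_HH_tensorPow (n q : ℕ) (hq : 1 ≤ q) :
    Subsingleton (Coh.HH X' (CohB1.tensorPow (ClSub.idealMod (𝓘.comap b)) n) q) := by
  haveI : IsProper b := isProper_of_FG hb (isFiniteTypeIdeal 𝓘)
  haveI : IsNoetherianRing Γ(X, ⊤) := IsLocallyNoetherian.component_noetherian (X := X) topU
  haveI : IsLocallyNoetherian X' := LocallyOfFiniteType.isLocallyNoetherian b
  let L := ClSub.idealMod (𝓘.comap b)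
  have hA := isAmple_idealMod hb
  obtain ⟨n₀, hn₀⟩ := AmpleEmb.serre_vanishing (R := Γ(X, ⊤)) (b ≫ X.isoSpec.hom) hA
    (DevLib.isCoh_structureModule X')
  suffices key : ∀ d n q, n₀ ≤ n + d → 1 ≤ q → Subsingleton (Coh.HH X' (CohB1.tensorPow L n) q) from
    key n₀ n q (Nat.le_add_left _ _) hq
  intro d
  induction d with
  | zero =>
    intro n q hn hq
    exact CurveLib.subsingleton_HH_iso (unitL _) q (hn₀ n (by omega) q hq)
  | succ d ih =>
    intro n q hn hq
    have hM : PicF.IsInvertible (CohB1.tensorPow L n) := isInvertible_tensorPow hA.1 n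
    obtain ⟨S, hS, e1, ⟨e2⟩, ⟨e3⟩, -⟩ := RatSingLib.exists_seq (jExc 𝓘 b) hM
    have h1 : Subsingleton (Coh.HH X' S.X₁ q) := by
      rw [e1, Scheme.IdealSheafData.ker_subschemeι]
      exact CurveLib.subsingleton_HH_iso (comm (CohB1.tensorPow L n) L) q (ih (n + 1) q (by omega) hq)
    haveI : Coh.IsQCoh ((Scheme.Modules.pullback (jExc 𝓘 b)).obj (CohB1.tensorPow L n)) :=
      InvExt.isQCoh_of_isInvertible (isInvertible_pullback _ hM)
    obtain ⟨E⟩ := nonempty_push_exc_equiv ((Scheme.Modules.pullback (jExc 𝓘 b)).obj (CohB1.tensorPow L n)) q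
    have h3 : Subsingleton (Coh.HH X' S.X₃ q) := CurveLib.subsingleton_HH_iso e3.symm q (by
      haveI : Subsingleton (Coh.HH (exc 𝓘 b) ((Scheme.Modules.pullback (jExc 𝓘 b)).obj (CohB1.tensorPow L n)) q) :=
        CurveLib.subsingleton_HH_iso (pullPow _ L n).symm q ((subsingleton_HH_exc hb f hI hf).1 n q hq)
      exact E.symm.toEquiv.subsingleton)
    exact CurveLib.subsingleton_HH_iso e2 q (SerreAff.subsingleton_mid hS q h1 h3)

include hb hI hf in
/-- The inverse of the exceptional ideal restricted to the divisor has no cohomology for `m ≥ 1`. -/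
theorem subsingleton_HH_push_inverse (hm : 1 ≤ m) (L : X'.Modules)
    (hL : ClSub.IsInverseOf L (ClSub.idealMod (𝓘.comap b))) (q : ℕ) :
    Subsingleton (Coh.HH X' ((Scheme.Modules.pushforward (jExc 𝓘 b)).obj
      ((Scheme.Modules.pullback (jExc 𝓘 b)).obj L)) q) := by
  obtain ⟨η⟩ := hL
  haveI : Coh.IsQCoh ((Scheme.Modules.pullback (jExc 𝓘 b)).obj L) :=
    InvExt.isQCoh_of_isInvertible (isInvertible_pullback _ (isInvertible_of_tensor_iso η))
  obtain ⟨E⟩ := nonempty_push_exc_equiv ((Scheme.Modules.pullback (jExc 𝓘 b)).obj L) q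
  haveI := (subsingleton_HH_exc hb f hI hf).2 ((Scheme.Modules.pullback (jExc 𝓘 b)).obj L)
    ((mk_pullback_tensor _ _ _).symm.trans ((mk_pullback_congr _ (mk_congr η)).trans (mk_pullback_one _))) q (Or.inl hm)
  exact E.symm.toEquiv.subsingleton

include hb hI hf in
/-- The twists `O_E(n)` pushed to the blow-up have no higher cohomology. -/
theorem subsingleton_HH_push_pow (n q : ℕ) (hq : 1 ≤ q) :
    Subsingleton (Coh.HH X' ((Scheme.Modules.pushforward (jExc 𝓘 b)).obj
      ((Scheme.Modules.pullback (jExc 𝓘 b)).obj (CohB1.tensorPow (ClSub.idealMod (𝓘.comap b)) n))) q) := by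
  haveI : Coh.IsQCoh ((Scheme.Modules.pullback (jExc 𝓘 b)).obj (CohB1.tensorPow (ClSub.idealMod (𝓘.comap b)) n)) :=
    InvExt.isQCoh_of_isInvertible (isInvertible_pullback _ (isInvertible_tensorPow ((Groth.Agent.S8914.result _).2 hb.1) n))
  obtain ⟨E⟩ := nonempty_push_exc_equiv
    ((Scheme.Modules.pullback (jExc 𝓘 b)).obj (CohB1.tensorPow (ClSub.idealMod (𝓘.comap b)) n)) q
  haveI : Subsingleton (Coh.HH (exc 𝓘 b)
      ((Scheme.Modules.pullback (jExc 𝓘 b)).obj (CohB1.tensorPow (ClSub.idealMod (𝓘.comap b)) n)) q) :=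
    CurveLib.subsingleton_HH_iso (pullPow _ _ n).symm q ((subsingleton_HH_exc hb f hI hf).1 n q hq)
  exact E.symm.toEquiv.subsingleton

end Groth.Agent.BlowExcLib
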